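import Cfsg.Agent.Lib.Classical.MonomFrame.Config

/-!
# Every short non-monomial unit vector works
-/

set_option autoImplicit false
set_option linter.unusedSectionVars false

namespace Cfsg.Agent.Classical.MFrame

open Module QuadraticMap OCount ORefl OOmega

variable {F : Type*} [Field F]

theorem dvd_of_cast {p : ℕ} (hp : p.Prime) (h : (p : F) = 0) {k : ℕ} (hk : (k : F) = 0) : p ∣ k := by
  have h1 : ringChar F ∣ p := (ringChar.spec F p).mp h
  rcases (Nat.dvd_prime hp).mp h1 with h2 | h2
  · exact absurd h2 CharP.ringChar_ne_one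
  · rw [← h2]; exact (ringChar.spec F k).mp hk

/-- A special ratio. -/
def Bad (a : F) : Prop := 4 * a = 1 ∨ 2 * a = 1 ∨ 16 * a ^ 2 - 12 * a + 1 = 0

theorem bad_of_not_good {a : F} (h0 : a ≠ 0) (h : ¬ Good a) : a ≠ 1 ∧ Bad a := by
  refine ⟨fun e => h ⟨h0, Or.inl e⟩, ?_⟩
  by_contra hb
  simp only [Bad, not_or] at hb
  exact h ⟨h0, Or.inr ⟨hb.1, hb.2.1, hb.2.2⟩⟩

theorem bad_sq (h2 : (2 : F) ≠ 0) (h3 : (3 : F) ≠ 0) {a : F} (h0 : a ≠ 0) (h1 : a ≠ 1) (ha : Bad a)
    (hsq : a ^ 2 ≠ 1) (hb : Bad (a ^ 2)) :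
    2 * a = 1 ∨ ((7 : F) = 0 ∧ 4 * a = 1) ∨ ((11 : F) = 0 ∧ (a = 4 ∨ a = 5)) := by
  rcases ha with h4 | ha | hq
  · rcases hb with hb | hb | hb
    · exfalso
      exact h3 (by linear_combination -4 * hb + (4 * a + 1) * h4)
    · refine Or.inr (Or.inl ⟨?_, h4⟩)
      have : (2 : F) * 7 = 0 := by linear_combination -16 * hb + 2 * (4 * a + 1) * h4
      exact (mul_eq_zero.mp this).resolve_left h2
    · exfalso
      apply hsq
      have h5 : (5 : F) = 0 := by
        linear_combination 16 * hb - (64 * a ^ 3 + 16 * a ^ 2 - 44 * a - 11) * h4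
      linear_combination (4 * a + 1) * h4 - 3 * a ^ 2 * h5
  · exact Or.inl ha
  · rcases hb with hb | hb | hb
    · have h' : (2 * a - 1) * (2 * a + 1) = 0 := by linear_combination hb
      rcases mul_eq_zero.mp h' with h | h
      · exact Or.inl (sub_eq_zero.mp h)
      · have h11 : (11 : F) = 0 := by linear_combination hq - (8 * a - 10) * h
        refine Or.inr (Or.inr ⟨h11, Or.inr ?_⟩)
        exact mul_left_cancel₀ h2 (by linear_combination h - h11)
    · exfalso
      have e : 12 * a = 9 := by linear_combination 8 * hb - hq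
      have h4 : 4 * a = 3 := mul_left_cancel₀ h3 (by linear_combination e)
      have : (2 : F) = 0 := by linear_combination 16 * hb - 2 * (4 * a + 3) * h4
      exact h2 this
    · have h5y : 5 * (4 - 3 * (4 * a)) = 0 := by
        linear_combination 16 * hb - ((4 * a) ^ 2 + 3 * (4 * a) - 4) * hq
      rcases mul_eq_zero.mp h5y with h5 | h
      · exfalso
        have : (a - 1) ^ 2 = 0 := by linear_combination hq - (3 * a ^ 2 - 2 * a) * h5
        exact h1 (sub_eq_zero.mp (pow_eq_zero_iff (by norm_num) |>.mp this))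
      · have e : 3 * a = 1 := by
          have : (2 : F) * 2 * (1 - 3 * a) = 0 := by linear_combination h
          exact (sub_eq_zero.mp ((mul_eq_zero.mp this).resolve_left (mul_ne_zero h2 h2))).symm
        have h11 : (11 : F) = 0 := by linear_combination -9 * hq + (16 * (3 * a + 1) - 36) * e
        refine Or.inr (Or.inr ⟨h11, Or.inl ?_⟩)
        exact mul_left_cancel₀ h3 (by linear_combination e - h11)

section Big

variable {V : Type*} [AddCommGroup V] [Module F V] [FiniteDimensional F V] [Finite F]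
variable {Q : QuadraticForm F V} {n : ℕ} (B : Frame Q n) {G : Subgroup ↥(Iso Q)}
variable (hsg : ∀ i, B.sg i ∈ G) (hG : HasAlt B G) (hp : (Nat.card F).Prime)

/-- A move of the vector carrying one place to another, with all else in the support fixed or moved away. -/
theorem exists_move (hG : HasAlt B G) {u : V} (hu : Q u = B.c) (hGu : rf Q u ∈ G) {f : Fin n → Fin n}
    (hf : Set.InjOn f (B.supp u)) (hn : (B.supp u).card + 2 ≤ n) :
    ∃ w, Q w = B.c ∧ rf Q w ∈ G ∧ B.supp w = (B.supp u).image f ∧ ∀ i ∈ B.supp u, B.co w (f i) = B.co u i := by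
  classical
  obtain ⟨σ, hσA, hσ, -⟩ := exists_even_map_on (S := Finset.univ) (A := B.supp u) (f := f)
    (Finset.subset_univ _) (fun _ _ => Finset.mem_univ _) hf (by rw [Finset.card_univ, Fintype.card_fin]; exact hn)
  obtain ⟨g, hg, hgσ⟩ := hG σ hσA
  have hco : ∀ i, B.co (g.1 u) (σ i) = B.co u i := fun i => by
    simp [B.co_perm hgσ]
  refine ⟨g.1 u, by rw [g.2 u, hu], rf_conj_mem hg hGu, ?_, fun i hi => by rw [← hσ i hi, hco]⟩
  ext j
  obtain ⟨i, rfl⟩ := σ.surjective j
  rw [B.mem_supp, hco, Finset.mem_image]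
  constructor
  · exact fun h => ⟨i, B.mem_supp.mpr h, (hσ i (B.mem_supp.mpr h)).symm⟩
  · rintro ⟨i', hi', e⟩
    rw [← hσ i' hi'] at e
    exact B.mem_supp.mp (σ.injective e ▸ hi')

variable (h5 : 5 ≤ Nat.card F) (hn : 7 ≤ n)
include hsg hG hp h5 hn

/-- Two places of the support serve as the common place. -/
theorem all_of_pair {u : V} (hu : Q u = B.c) (hGu : rf Q u ∈ G) (h4 : (B.supp u).card ≤ 4) {k l : Fin n}
    (hk : k ∈ B.supp u) (hl : l ∈ B.supp u) (hk1 : B.co u k ^ 2 ≠ 1) (hl1 : B.co u l ^ 2 ≠ 1)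
    (hgood : Good (B.co u k ^ 2) ∨ Good (B.co u k ^ 2 * B.co u l ^ 2)) : Sph G B.c ⊤ := by
  classical
  have hc : ((B.supp u).erase l).card + 1 = (B.supp u).card := Finset.card_erase_add_one hl
  have hroom : ((B.supp u).erase l).card ≤ (Finset.univ \ B.supp u).card := by
    rw [Finset.card_univ_diff, Fintype.card_fin]; omega
  obtain ⟨e⟩ : Nonempty (((B.supp u).erase l : Finset (Fin n)) ↪ (Finset.univ \ B.supp u : Finset (Fin n))) :=
    Function.Embedding.nonempty_of_card_le (by rwa [Fintype.card_coe, Fintype.card_coe])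
  obtain ⟨f, hf⟩ : ∃ f : Fin n → Fin n, f = fun i =>
    if h : i ∈ (B.supp u).erase l then (e ⟨i, h⟩ : Fin n) else k := ⟨_, rfl⟩
  have hfl : f l = k := by simp [hf]
  have hfo : ∀ i, i ∈ B.supp u → i ≠ l → f i ∉ B.supp u := fun i hi hil => by
    rw [hf]
    simp only [Finset.mem_erase, ne_eq, hil, not_false_eq_true, hi, and_self, dite_true]
    exact (Finset.mem_sdiff.mp (e _).2).2
  have hinj : Set.InjOn f (B.supp u) := by
    intro i hi j hj h
    by_cases hil : i = l <;> by_cases hjl : j = l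
    · exact hil.trans hjl.symm
    · exact absurd (h ▸ hil ▸ hfl.symm ▸ hk : f j ∈ B.supp u) (hfo j hj hjl)
    · exact absurd (h.symm ▸ hjl ▸ hfl.symm ▸ hk : f i ∈ B.supp u) (hfo i hi hil)
    · simp only [hf, Finset.mem_erase, ne_eq, hil, hjl, not_false_eq_true, Finset.mem_coe.mp hi,
        Finset.mem_coe.mp hj, and_self, dite_true] at h
      exact congrArg Subtype.val (e.injective (Subtype.ext h))
  obtain ⟨w, hw, hGw, hws, hwc⟩ := exists_move B hG hu hGu hinj (by omega)
  have hwk : B.co w k = B.co u l := hfl ▸ hwc l hl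
  refine configB B hsg hG hp h5 (by omega) hu hw hGu hGw h4 (hws ▸ Finset.card_image_le.trans h4) (k := k) ?_ hk1
    (by rwa [hwk]) (by rwa [hwk])
  ext i
  rw [Finset.mem_inter, hws, Finset.mem_image, Finset.mem_singleton]
  constructor
  · rintro ⟨hi, j, hj, rfl⟩
    by_contra hne
    exact hfo j hj (fun h => hne (h ▸ hfl)) hi
  · rintro rfl
    exact ⟨hk, l, hl, hfl⟩

/-- Reflecting a neighbour gives a coordinate of square one. -/
theorem all_of_move {u : V} (hu : Q u = B.c) (hGu : rf Q u ∈ G) (h4 : (B.supp u).card ≤ 4) {k : Fin n}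
    (hk : k ∈ B.supp u) (he : 4 * (1 - B.co u k ^ 2) ^ 2 * B.co u k ^ 2 = 1) : Sph G B.c ⊤ := by
  classical
  obtain ⟨z, hz⟩ : ∃ z, z ∉ B.supp u := by
    by_contra! h
    have := Finset.card_le_card (s := Finset.univ) (t := B.supp u) fun i _ => h i
    rw [Finset.card_univ, Fintype.card_fin] at this
    omega
  obtain ⟨w, hw, hGw, hws, hwc⟩ := exists_move B hG hu hGu (f := fun i => if i = k then z else i)
    (fun i hi j hj h => by
      dsimp only at h
      split_ifs at h with a b b
      · exact a.trans b.symm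
      · exact absurd (h ▸ hj) hz
      · exact absurd (h ▸ hi) hz
      · exact h) (by omega)
  have hwk : B.co w k = 0 := B.notMem_supp.mp (by
    rw [hws, Finset.mem_image]
    rintro ⟨i, hi, h⟩
    split_ifs at h with a
    · exact hz (h ▸ hk)
    · exact a h)
  have hdot : ∑ i, B.co u i * B.co w i = 1 - B.co u k ^ 2 := by
    rw [← B.sum_sq u hu, Finset.sum_eq_add_sum_sdiff_singleton_of_mem hk, add_sub_cancel_left]
    rw [← Finset.sum_subset (Finset.subset_univ (B.supp u \ {k})) ?_]
    · refine Finset.sum_congr rfl fun i hi => ?_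
      simp only [Finset.mem_sdiff, Finset.mem_singleton] at hi
      have := hwc i hi.1
      rw [if_neg hi.2] at this
      rw [this]; ring
    · intro i _ hi
      simp only [Finset.mem_sdiff, Finset.mem_singleton, not_and, not_not] at hi
      by_cases hiu : i ∈ B.supp u
      · rw [hi hiu, hwk, mul_zero]
      · rw [B.notMem_supp.mp hiu, zero_mul]
  obtain ⟨x, hx⟩ : ∃ x, x = (rf Q u).1 w := ⟨_, rfl⟩
  have hxc : ∀ i, B.co x i = B.co w i - 2 * (1 - B.co u k ^ 2) * B.co u i := fun i => by
    rw [hx, B.rf_unit hu, B.co_sub, B.co_smul, hdot]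
  have hzw : B.co w z = B.co u k := by simpa using hwc k hk
  have hxs : B.supp x ⊆ insert z (B.supp u) := fun i hi => by
    rw [B.mem_supp, hxc] at hi
    by_contra h
    rw [Finset.mem_insert, not_or] at h
    refine hi ?_
    rw [B.notMem_supp.mp h.2, mul_zero, sub_zero, ← B.notMem_supp, hws, Finset.mem_image]
    rintro ⟨j, hj, e⟩
    split_ifs at e with a
    · exact h.1 e.symm
    · exact h.2 (e ▸ hj)
  have hxk : B.co x k ^ 2 = 1 := by rw [hxc, hwk]; linear_combination he
  refine configA B hsg hG hp h5 (by omega) (u := x) (by rw [hx, (rf Q u).2 w, hw]) (hx ▸ rf_conj_mem hGu hGw) ?_ ?_ hxk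
  · refine Finset.one_lt_card.mpr ⟨k, B.mem_supp.mpr fun h => ?_, z, B.mem_supp.mpr ?_, fun h => hz (h ▸ hk)⟩
    · rw [h] at hxk; simp at hxk
    · rw [hxc, B.notMem_supp.mp hz, mul_zero, sub_zero, hzw]
      exact B.mem_supp.mp hk
  · have := (Finset.card_le_card hxs).trans (Finset.card_insert_le _ _)
    omega

theorem all_of_short_big {u : V} (hu : Q u = B.c) (hGu : rf Q u ∈ G) (h4 : (B.supp u).card ≤ 4)
    (h2s : 2 ≤ (B.supp u).card) (hroot : ¬ B.IsRoot u) : Sph G B.c ⊤ := by
  classical
  have hcast := small_ne_zero (F := F) hp h5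
  have h3 : (3 : F) ≠ 0 := by exact_mod_cast hcast 3 (by norm_num) (by norm_num)
  by_cases hone : ∃ i, B.co u i ^ 2 = 1
  · obtain ⟨i, hi⟩ := hone
    exact configA B hsg hG hp h5 (by omega) hu hGu h2s (by omega) hi
  push Not at hone
  by_cases hg : ∃ k ∈ B.supp u, ∃ l ∈ B.supp u, Good (B.co u k ^ 2) ∨ Good (B.co u k ^ 2 * B.co u l ^ 2)
  · obtain ⟨k, hk, l, hl, h⟩ := hg
    exact all_of_pair B hsg hG hp h5 hn hu hGu h4 hk hl (hone k) (hone l) h
  push Not at hg
  have hne : ∀ i ∈ B.supp u, B.co u i ^ 2 ≠ 0 := fun i hi => pow_ne_zero _ (B.mem_supp.mp hi)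
  have hval : ∀ i ∈ B.supp u, 2 * B.co u i ^ 2 = 1 ∨ ((7 : F) = 0 ∧ 4 * B.co u i ^ 2 = 1) ∨
      ((11 : F) = 0 ∧ (B.co u i ^ 2 = 4 ∨ B.co u i ^ 2 = 5)) := by
    intro i hi
    obtain ⟨h1, hb⟩ := bad_of_not_good (hne i hi) (hg i hi i hi).1
    have hb2 := bad_of_not_good (mul_ne_zero (hne i hi) (hne i hi)) (hg i hi i hi).2
    rw [← pow_two] at hb2
    exact bad_sq B.two h3 (hne i hi) h1 hb hb2.1 hb2.2
  obtain ⟨i₀, hi₀⟩ : (B.supp u).Nonempty := Finset.card_pos.mp (by omega)
  -- two different special values combine to a general one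
  have heq : ∀ i ∈ B.supp u, B.co u i ^ 2 = B.co u i₀ ^ 2 := by
    intro i hi
    obtain ⟨hp1, hp2⟩ := bad_of_not_good (mul_ne_zero (hne i hi) (hne i₀ hi₀)) (hg i hi i₀ hi₀).2
    have h711 : (7 : F) = 0 → (11 : F) = 0 → False := fun a b => by
      have := dvd_of_cast (F := F) (p := 7) (by norm_num) (by exact_mod_cast a) (k := 11) (by exact_mod_cast b)
      norm_num at this
    have hkey : ∀ m : ℕ, (11 : F) = 0 → ¬ 11 ∣ m → (m : F) ≠ 0 := fun m h hm hm0 =>
      hm (dvd_of_cast (by norm_num) (by exact_mod_cast h) hm0)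
    have case7 : ∀ a b : F, 2 * a = 1 → 4 * b = 1 → (7 : F) = 0 → a * b = 1 := fun a b ha hb h7 => by
      refine mul_left_cancel₀ (pow_ne_zero 3 B.two) ?_
      linear_combination 4 * b * ha + hb - h7
    have case11 : ∀ x : F, (11 : F) = 0 → (x = 2 ∨ x = 8 ∨ x = 9) → Bad x → False := by
      intro x h11 hx hb
      rcases hx with rfl | rfl | rfl <;> rcases hb with hb | hb | hb
      · exact hkey 7 h11 (by norm_num) (by push_cast; linear_combination hb)
      · exact hkey 3 h11 (by norm_num) (by push_cast; linear_combination hb)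
      · exact hkey 41 h11 (by norm_num) (by push_cast; linear_combination hb)
      · exact hkey 31 h11 (by norm_num) (by push_cast; linear_combination hb)
      · exact hkey 15 h11 (by norm_num) (by push_cast; linear_combination hb)
      · exact hkey 929 h11 (by norm_num) (by push_cast; linear_combination hb)
      · exact hkey 35 h11 (by norm_num) (by push_cast; linear_combination hb)
      · exact hkey 17 h11 (by norm_num) (by push_cast; linear_combination hb)
      · exact hkey 1189 h11 (by norm_num) (by push_cast; linear_combination hb)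
    have half6 : ∀ a : F, 2 * a = 1 → (11 : F) = 0 → a = 6 := fun a ha h11 =>
      mul_left_cancel₀ B.two (by linear_combination ha - h11)
    rcases hval i hi with a | ⟨a7, a⟩ | ⟨a11, a⟩ <;> rcases hval i₀ hi₀ with b | ⟨b7, b⟩ | ⟨b11, b⟩
    · exact mul_left_cancel₀ B.two (a.trans b.symm)
    · exact absurd (case7 _ _ a b b7) hp1
    · refine (case11 _ b11 ?_ hp2).elim
      rw [half6 _ a b11]
      rcases b with b | b <;> rw [b]
      · left; linear_combination 2 * b11
      · right; left; linear_combination 2 * b11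
    · exact absurd ((mul_comm _ _).trans (case7 _ _ b a a7)) hp1
    · exact mul_left_cancel₀ (show (4 : F) ≠ 0 by exact_mod_cast hcast 4 (by norm_num) (by norm_num)) (a.trans b.symm)
    · exact (h711 a7 b11).elim
    · refine (case11 _ a11 ?_ hp2).elim
      rw [half6 _ b a11]
      rcases a with a | a <;> rw [a]
      · left; linear_combination 2 * a11
      · right; left; linear_combination 2 * a11
    · exact (h711 b7 a11).elim
    · rcases a with a | a <;> rcases b with b | b
      · exact a.trans b.symm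
      · refine (case11 _ a11 ?_ hp2).elim
        rw [a, b]; right; right; linear_combination a11
      · refine (case11 _ a11 ?_ hp2).elim
        rw [a, b]; right; right; linear_combination a11
      · exact a.trans b.symm
  have hsum : ((B.supp u).card : F) * B.co u i₀ ^ 2 = 1 := by
    rw [← B.sum_sq u hu, Finset.sum_congr rfl heq, Finset.sum_const, nsmul_eq_mul]
  rcases hval i₀ hi₀ with a | ⟨h7, a⟩ | ⟨h11, a⟩
  · -- two equal squares
    exfalso
    have hs2 : ((B.supp u).card : F) = 2 := by linear_combination 2 * hsum - ((B.supp u).card : F) * a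
    have hc2 : (B.supp u).card = 2 := by
      by_contra hne2
      refine hcast ((B.supp u).card - 2) (by omega) (by omega) ?_
      rw [Nat.cast_sub h2s, hs2]; simp
    obtain ⟨x, y, hxy, he⟩ := Finset.card_eq_two.mp hc2
    exact hroot ⟨x, y, hxy, he, (heq x (by simp [he])).trans (heq y (by simp [he])).symm⟩
  · refine all_of_move B hsg hG hp h5 hn hu hGu h4 hi₀ ?_
    refine mul_left_cancel₀ (show (16 : F) ≠ 0 by rw [show (16 : F) = 2 ^ 4 by norm_num]; exact pow_ne_zero _ B.two) ?_
    linear_combination (16 * (B.co u i₀ ^ 2) ^ 2 - 28 * B.co u i₀ ^ 2 + 9) * a - h7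
  · have hkey : ∀ m : ℕ, ¬ 11 ∣ m → (m : F) ≠ 0 := fun m hm hm0 =>
      hm (dvd_of_cast (by norm_num) (by exact_mod_cast h11) hm0)
    rcases a with a | a
    · refine all_of_move B hsg hG hp h5 hn hu hGu h4 hi₀ ?_
      rw [a]; linear_combination 13 * h11
    · exfalso
      rw [a] at hsum
      have h45 : ((45 - 5 * (B.supp u).card : ℕ) : F) = 0 := by
        rw [Nat.cast_sub (by omega)]; push_cast; linear_combination -hsum + 4 * h11
      refine hkey _ ?_ h45
      obtain ⟨s, hs⟩ : ∃ s, s = (B.supp u).card := ⟨_, rfl⟩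
      rw [← hs] at h4 h2s ⊢
      interval_cases s <;> norm_num

end Big

end Cfsg.Agent.Classical.MFrame
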