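import Cfsg.Agent.Lib.Classical.OrthOmega

/-!
# Orthogonal frames and signed permutations

A frame is an orthogonal basis all of whose members have the same value.  An isometry is monomial
when it permutes the frame up to signs.
-/

set_option autoImplicit false
set_option linter.unusedSectionVars false

namespace Cfsg.Agent.Classical.MFrame

open Module QuadraticMap OCount ORefl OOmega

variable {F : Type*} [Field F] {V : Type*} [AddCommGroup V] [Module F V] {Q : QuadraticForm F V} {n : ℕ}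

/-- An orthogonal frame with common value. -/
structure Frame (Q : QuadraticForm F V) (n : ℕ) where
  bas : Module.Basis (Fin n) F V
  c : F
  c_ne : c ≠ 0
  two : (2 : F) ≠ 0
  val : ∀ i, Q (bas i) = c
  orth : ∀ i j, i ≠ j → polar Q (bas i) (bas j) = 0

namespace Frame

variable (B : Frame Q n)

/-- The coordinates. -/
noncomputable def co (x : V) (i : Fin n) : F := B.bas.repr x i

theorem co_add (x y : V) (i : Fin n) : B.co (x + y) i = B.co x i + B.co y i := by simp [co]

theorem co_sub (x y : V) (i : Fin n) : B.co (x - y) i = B.co x i - B.co y i := by simp [co]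

theorem co_neg (x : V) (i : Fin n) : B.co (-x) i = -B.co x i := by simp [co]

theorem co_smul (t : F) (x : V) (i : Fin n) : B.co (t • x) i = t * B.co x i := by simp [co]

theorem co_bas (i j : Fin n) : B.co (B.bas i) j = if i = j then 1 else 0 := by
  simp [co, Finsupp.single_apply]

theorem co_bas_self (i : Fin n) : B.co (B.bas i) i = 1 := by simp [co]

theorem co_bas_ne {i j : Fin n} (h : i ≠ j) : B.co (B.bas i) j = 0 := by simp [co, h]

theorem co_zero (i : Fin n) : B.co (0 : V) i = 0 := by simp [co]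

theorem ext_co {x y : V} (h : ∀ i, B.co x i = B.co y i) : x = y := B.bas.repr.injective (Finsupp.ext h)

theorem sum_co (x : V) : ∑ i, B.co x i • B.bas i = x := B.bas.sum_repr x

theorem polar_bas_bas (i j : Fin n) : polar Q (B.bas i) (B.bas j) = if i = j then 2 * B.c else 0 := by
  split_ifs with h
  · rw [h, polar_self_two, B.val]
  · exact B.orth i j h

theorem polar_bas (i : Fin n) (x : V) : polar Q (B.bas i) x = 2 * B.c * B.co x i := by
  conv_lhs => rw [← B.sum_co x, ← QuadraticMap.polarBilin_apply_apply, map_sum]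
  simp only [map_smul, QuadraticMap.polarBilin_apply_apply, B.polar_bas_bas, smul_eq_mul, mul_ite,
    mul_zero, Finset.sum_ite_eq, Finset.mem_univ, if_true]
  ring

theorem polar_eq (x y : V) : polar Q x y = 2 * B.c * ∑ i, B.co x i * B.co y i := by
  conv_lhs => rw [← B.sum_co x, polar_comm, ← QuadraticMap.polarBilin_apply_apply, map_sum]
  simp only [map_smul, QuadraticMap.polarBilin_apply_apply, Finset.mul_sum, smul_eq_mul]
  exact Finset.sum_congr rfl fun i _ => by rw [polar_comm, B.polar_bas]; ring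

theorem val_eq (x : V) : Q x = B.c * ∑ i, B.co x i ^ 2 := by
  apply mul_left_cancel₀ B.two
  rw [← polar_self_two, B.polar_eq, mul_assoc]
  congr 2
  exact Finset.sum_congr rfl fun i _ => by ring

include B in
theorem pnd : PND Q := fun v hv => B.ext_co fun i => by
  have h := hv (B.bas i)
  rw [polar_comm, B.polar_bas] at h
  rw [co_zero]
  rcases mul_eq_zero.mp h with h | h
  · exact absurd h (mul_ne_zero B.two B.c_ne)
  · exact h

/-- The support. -/
noncomputable def supp (x : V) : Finset (Fin n) :=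
  haveI := Classical.decPred fun i => B.co x i ≠ 0
  Finset.univ.filter fun i => B.co x i ≠ 0

theorem mem_supp {x : V} {i : Fin n} : i ∈ B.supp x ↔ B.co x i ≠ 0 := by
  classical
  simp [supp]

theorem notMem_supp {x : V} {i : Fin n} : i ∉ B.supp x ↔ B.co x i = 0 := by
  rw [mem_supp, not_not]

theorem sum_supp (x : V) (f : Fin n → F → F) (hf : ∀ i, f i 0 = 0) :
    ∑ i ∈ B.supp x, f i (B.co x i) = ∑ i, f i (B.co x i) := by
  classical
  refine Finset.sum_subset (Finset.subset_univ _) fun i _ hi => ?_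
  rw [notMem_supp] at hi
  rw [hi, hf]

theorem supp_bas (i : Fin n) : B.supp (B.bas i) = {i} := by
  classical
  ext j
  rw [mem_supp, co_bas, Finset.mem_singleton]
  by_cases h : i = j <;> simp [h, eq_comm]

theorem supp_smul {t : F} (ht : t ≠ 0) (x : V) : B.supp (t • x) = B.supp x := by
  ext i; simp [mem_supp, co_smul, ht]

theorem supp_add_subset (x y : V) : B.supp (x + y) ⊆ B.supp x ∪ B.supp y := by
  classical
  intro i hi
  rw [Finset.mem_union, mem_supp, mem_supp]
  rw [mem_supp, co_add] at hi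
  by_contra h
  push Not at h
  rw [h.1, h.2, add_zero] at hi
  exact hi rfl

/-- The span of part of the frame. -/
def sub (A : Finset (Fin n)) : Submodule F V where
  carrier := {x | ∀ i ∉ A, B.co x i = 0}
  add_mem' {x y} hx hy i hi := by rw [co_add, hx i hi, hy i hi, add_zero]
  zero_mem' i _ := B.co_zero i
  smul_mem' t x hx i hi := by rw [co_smul, hx i hi, mul_zero]

theorem mem_sub {A : Finset (Fin n)} {x : V} : x ∈ B.sub A ↔ ∀ i ∉ A, B.co x i = 0 := Iff.rfl

theorem mem_sub_iff {A : Finset (Fin n)} {x : V} : x ∈ B.sub A ↔ B.supp x ⊆ A := by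
  rw [mem_sub]
  refine ⟨fun h i hi => ?_, fun h i hi => notMem_supp B |>.mp fun hs => hi (h hs)⟩
  by_contra hA
  exact (B.mem_supp.mp hi) (h i hA)

theorem bas_mem_sub {A : Finset (Fin n)} {i : Fin n} (h : i ∈ A) : B.bas i ∈ B.sub A := fun _ hj =>
  B.co_bas_ne fun e => hj (e ▸ h)

/-- Agreement on the frame. -/
theorem iso_ext {g h : ↥(Iso Q)} (e : ∀ i, g.1 (B.bas i) = h.1 (B.bas i)) : g = h :=
  Subtype.ext (B.bas.ext' e)

/-- An axis vector. -/
def IsAx (v : V) : Prop := ∃ i, v = B.bas i ∨ v = -B.bas i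

theorem isAx_bas (i : Fin n) : B.IsAx (B.bas i) := ⟨i, Or.inl rfl⟩

theorem IsAx.neg {v : V} (h : B.IsAx v) : B.IsAx (-v) := by
  obtain ⟨i, rfl | rfl⟩ := h
  exacts [⟨i, Or.inr rfl⟩, ⟨i, Or.inl (neg_neg _)⟩]

theorem isAx_of_supp {v : V} (hv : Q v = B.c) {i : Fin n} (h : ∀ j, j ≠ i → B.co v j = 0) : B.IsAx v := by
  have h1 := B.val_eq v
  rw [hv, Finset.sum_eq_single i (fun j _ hj => by rw [h j hj]; ring) (fun h => absurd (Finset.mem_univ i) h)] at h1
  have h2 : (B.co v i - 1) * (B.co v i + 1) = 0 := by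
    apply mul_left_cancel₀ B.c_ne
    linear_combination -h1
  rcases mul_eq_zero.mp h2 with h2 | h2
  · refine ⟨i, Or.inl (B.ext_co fun j => ?_)⟩
    by_cases hj : i = j
    · subst hj; rw [co_bas_self]; linear_combination h2
    · rw [h j (Ne.symm hj), B.co_bas_ne hj]
  · refine ⟨i, Or.inr (B.ext_co fun j => ?_)⟩
    by_cases hj : i = j
    · subst hj; rw [co_neg, co_bas_self]; linear_combination h2
    · rw [h j (Ne.symm hj), co_neg, B.co_bas_ne hj, neg_zero]

theorem IsAx.supp {v : V} (h : B.IsAx v) : ∃ i, B.supp v = {i} := by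
  obtain ⟨i, rfl | rfl⟩ := h
  · exact ⟨i, B.supp_bas i⟩
  · exact ⟨i, by rw [← neg_one_smul F, B.supp_smul (neg_ne_zero.mpr one_ne_zero), B.supp_bas]⟩

/-- Monomial isometries. -/
def Mono (g : ↥(Iso Q)) : Prop := ∀ i, B.IsAx (g.1 (B.bas i))

theorem Mono.isAx {g : ↥(Iso Q)} (h : B.Mono g) {v : V} (hv : B.IsAx v) : B.IsAx (g.1 v) := by
  obtain ⟨i, rfl | rfl⟩ := hv
  · exact h i
  · rw [map_neg]; exact (h i).neg

theorem mono_one : B.Mono 1 := B.isAx_bas

theorem Mono.mul {g h : ↥(Iso Q)} (hg : B.Mono g) (hh : B.Mono h) : B.Mono (g * h) := fun i => hg.isAx B (hh i)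

theorem Mono.inv [Finite ↥(Iso Q)] {g : ↥(Iso Q)} (h : B.Mono g) : B.Mono g⁻¹ := by
  have hp : ∀ k : ℕ, B.Mono (g ^ k) := by
    intro k
    induction k with
    | zero => exact B.mono_one
    | succ k ih => rw [pow_succ]; exact ih.mul B h
  obtain ⟨k, hk⟩ : ∃ k : ℕ, g ^ k = g⁻¹ := ⟨orderOf g - 1, by
    rw [eq_inv_iff_mul_eq_one, ← pow_succ, Nat.sub_add_cancel (isOfFinOrder_of_finite g).orderOf_pos, pow_orderOf_eq_one]⟩
  exact hk ▸ hp k

theorem Mono.mul_cancel_left [Finite ↥(Iso Q)] {g h : ↥(Iso Q)} (hg : B.Mono g) (hgh : B.Mono (g * h)) :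
    B.Mono h := by
  simpa using (hg.inv B).mul B hgh

theorem Mono.mul_cancel_right [Finite ↥(Iso Q)] {g h : ↥(Iso Q)} (hh : B.Mono h) (hgh : B.Mono (g * h)) :
    B.Mono g := by
  simpa using hgh.mul B (hh.inv B)

/-! ### Signs and transpositions -/

/-- The sign change at a place. -/
noncomputable def sg (i : Fin n) : ↥(Iso Q) := rf Q (B.bas i)

theorem rf_apply (v x : V) : (rf Q v).1 x = x - ((Q v)⁻¹ * polar Q v x) • v := rfl

theorem rf_unit {v : V} (hv : Q v = B.c) (x : V) :
    (rf Q v).1 x = x - (2 * ∑ i, B.co v i * B.co x i) • v := by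
  rw [rf_apply, hv, B.polar_eq]
  congr 2
  rw [← mul_assoc, ← mul_assoc, mul_comm (B.c⁻¹) 2, mul_assoc 2, inv_mul_cancel₀ B.c_ne, mul_one]

theorem sg_self (i : Fin n) : (B.sg i).1 (B.bas i) = -B.bas i := by
  apply ORefl.refl_self
  rw [B.val]; exact B.c_ne

theorem sg_ne {i j : Fin n} (h : i ≠ j) : (B.sg i).1 (B.bas j) = B.bas j :=
  ORefl.refl_fix (B.orth i j h)

theorem co_sg (i : Fin n) (x : V) (j : Fin n) :
    B.co ((B.sg i).1 x) j = if i = j then -B.co x j else B.co x j := by
  rw [sg, rf_apply, B.val, B.polar_bas, co_sub, co_smul, co_bas]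
  have := B.c_ne
  split_ifs with h
  · subst h; field_simp; ring
  · ring

theorem mono_sg (i : Fin n) : B.Mono (B.sg i) := fun j => by
  by_cases h : i = j
  · subst h; rw [sg_self]; exact (B.isAx_bas i).neg
  · rw [B.sg_ne h]; exact B.isAx_bas j

theorem val_sub_bas {i j : Fin n} (h : i ≠ j) : Q (B.bas i - B.bas j) = 2 * B.c := by
  rw [map_sub_two, B.val, B.val, B.orth i j h]; ring

theorem swap_left {i j : Fin n} (h : i ≠ j) : (rf Q (B.bas i - B.bas j)).1 (B.bas i) = B.bas j := by
  have hne : 2 * B.c ≠ 0 := mul_ne_zero B.two B.c_ne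
  rw [rf_apply, B.val_sub_bas h, polar_sub_left, polar_self_two, B.val, B.orth j i h.symm, sub_zero,
    inv_mul_cancel₀ hne, one_smul, sub_sub_cancel]

theorem swap_right {i j : Fin n} (h : i ≠ j) : (rf Q (B.bas i - B.bas j)).1 (B.bas j) = B.bas i := by
  have := B.swap_left h.symm
  rwa [show B.bas j - B.bas i = (-1 : F) • (B.bas i - B.bas j) by module,
    OOmega.rf_smul (neg_ne_zero.mpr one_ne_zero)] at this

theorem swap_other {i j k : Fin n} (hi : k ≠ i) (hj : k ≠ j) : (rf Q (B.bas i - B.bas j)).1 (B.bas k) = B.bas k :=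
  ORefl.refl_fix (by rw [polar_sub_left, B.orth i k hi.symm, B.orth j k hj.symm, sub_zero])

/-- The element acts as the permutation. -/
def IsPerm (σ : Equiv.Perm (Fin n)) (g : ↥(Iso Q)) : Prop := ∀ i, g.1 (B.bas i) = B.bas (σ i)

theorem isPerm_swap {i j : Fin n} (h : i ≠ j) : B.IsPerm (Equiv.swap i j) (rf Q (B.bas i - B.bas j)) := fun k => by
  rcases eq_or_ne k i with rfl | hi
  · rw [B.swap_left h, Equiv.swap_apply_left]
  rcases eq_or_ne k j with rfl | hj
  · rw [B.swap_right h, Equiv.swap_apply_right]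
  rw [B.swap_other hi hj, Equiv.swap_apply_of_ne_of_ne hi hj]

theorem IsPerm.mul {σ τ : Equiv.Perm (Fin n)} {g h : ↥(Iso Q)} (hg : B.IsPerm σ g) (hh : B.IsPerm τ h) :
    B.IsPerm (σ * τ) (g * h) := fun i => by
  show g.1 (h.1 (B.bas i)) = _
  rw [hh, hg]; rfl

theorem IsPerm.mono {σ : Equiv.Perm (Fin n)} {g : ↥(Iso Q)} (h : B.IsPerm σ g) : B.Mono g := fun i =>
  ⟨σ i, Or.inl (h i)⟩

theorem co_perm {σ : Equiv.Perm (Fin n)} {g : ↥(Iso Q)} (h : B.IsPerm σ g) (x : V) (j : Fin n) :
    B.co (g.1 x) (σ j) = B.co x j := by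
  classical
  conv_lhs => rw [← B.sum_co x, map_sum, co, map_sum, Finsupp.finsetSum_apply]
  rw [Finset.sum_eq_single j]
  · rw [map_smul, h j, LinearEquiv.map_smul, Finsupp.smul_apply]; simp
  · intro k _ hk
    rw [map_smul, h k, LinearEquiv.map_smul, Finsupp.smul_apply]
    simp [σ.injective.ne hk]
  · exact fun hj => absurd (Finset.mem_univ j) hj

end Frame

/-- The group contains the even permutations. -/
def HasAlt (B : Frame Q n) (G : Subgroup ↥(Iso Q)) : Prop :=
  ∀ σ ∈ alternatingGroup (Fin n), ∃ g ∈ G, B.IsPerm σ g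

/-- Finitely many prescribed images can be realised evenly when two places are spare. -/
theorem exists_even_map {α : Type*} [Fintype α] [DecidableEq α] {A : Finset α} {f : α → α}
    (hf : Set.InjOn f A) (hn : A.card + 2 ≤ Fintype.card α) :
    ∃ σ ∈ alternatingGroup α, ∀ x ∈ A, σ x = f x := by
  obtain ⟨σ, hσ⟩ := Equiv.Perm.exists_extending_pair (fun x : A => (x : α)) (fun x : A => f x)
    Subtype.val_injective (fun x y h => Subtype.ext (hf x.2 y.2 h))
  by_cases hs : Equiv.Perm.sign σ = 1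
  · exact ⟨σ, hs, fun x hx => hσ ⟨x, hx⟩⟩
  obtain ⟨a, ha, b, hb, hab⟩ : ∃ a ∈ Aᶜ, ∃ b ∈ Aᶜ, a ≠ b :=
    Finset.one_lt_card.mp (by rw [Finset.card_compl]; omega)
  rw [Finset.mem_compl] at ha hb
  refine ⟨σ * Equiv.swap a b, ?_, fun x hx => ?_⟩
  · rw [Equiv.Perm.mem_alternatingGroup, Equiv.Perm.sign_mul, Equiv.Perm.sign_swap hab]
    rcases Int.units_eq_one_or (Equiv.Perm.sign σ) with h | h
    · exact absurd h hs
    · rw [h]; rfl
  · rw [Equiv.Perm.mul_apply, Equiv.swap_apply_of_ne_of_ne (fun (e : x = a) => ha (e ▸ hx))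
      (fun (e : x = b) => hb (e ▸ hx))]
    exact hσ ⟨x, hx⟩

/-- An even permutation with prescribed images inside a set, fixing the rest. -/
theorem exists_even_map_on {S A : Finset (Fin n)} {f : Fin n → Fin n} (hA : A ⊆ S) (hmap : ∀ x ∈ A, f x ∈ S)
    (hf : Set.InjOn f A) (hn : A.card + 2 ≤ S.card) :
    ∃ σ ∈ alternatingGroup (Fin n), (∀ x ∈ A, σ x = f x) ∧ ∀ x ∉ S, σ x = x := by
  classical
  let g : Fin n → Fin n := fun x => if x ∈ A then f x else x
  obtain ⟨σ, hσ⟩ := Equiv.Perm.exists_extending_pair (fun x : (A ∪ Sᶜ : Finset (Fin n)) => (x : Fin n))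
    (fun x : (A ∪ Sᶜ : Finset (Fin n)) => g x) Subtype.val_injective (fun x y h => by
      have hx := x.2
      have hy := y.2
      simp only [Finset.mem_union, Finset.mem_compl] at hx hy
      apply Subtype.ext
      simp only [g] at h
      split_ifs at h with h1 h2 h3
      · exact hf h1 h2 h
      · exact absurd (h ▸ hmap _ h1) (hy.resolve_left h2)
      · exact absurd (h ▸ hmap _ h3) (hx.resolve_left h1)
      · exact h)
  have hA' : ∀ x ∈ A, σ x = f x := fun x hx => by
    have h := hσ ⟨x, Finset.mem_union_left _ hx⟩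
    rw [h]; simp [g, hx]
  have hS' : ∀ x ∉ S, σ x = x := fun x hx => by
    have h := hσ ⟨x, Finset.mem_union_right _ (Finset.mem_compl.mpr hx)⟩
    rw [h]; exact if_neg fun hxA => hx (hA hxA)
  by_cases hs : Equiv.Perm.sign σ = 1
  · exact ⟨σ, hs, hA', hS'⟩
  obtain ⟨a, ha, b, hb, hab⟩ : ∃ a ∈ S \ A, ∃ b ∈ S \ A, a ≠ b :=
    Finset.one_lt_card.mp (by rw [Finset.card_sdiff_of_subset hA]; omega)
  rw [Finset.mem_sdiff] at ha hb
  have hfix : ∀ x, (x ∈ A ∨ x ∉ S) → Equiv.swap a b x = x := fun x hx => by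
    refine Equiv.swap_apply_of_ne_of_ne (fun e => ?_) (fun e => ?_) <;> subst e
    · exact hx.elim ha.2 fun h => h ha.1
    · exact hx.elim hb.2 fun h => h hb.1
  refine ⟨σ * Equiv.swap a b, ?_, fun x hx => ?_, fun x hx => ?_⟩
  · rw [Equiv.Perm.mem_alternatingGroup, Equiv.Perm.sign_mul, Equiv.Perm.sign_swap hab]
    rcases Int.units_eq_one_or (Equiv.Perm.sign σ) with h | h
    · exact absurd h hs
    · rw [h]; rfl
  · rw [Equiv.Perm.mul_apply, hfix x (Or.inl hx), hA' x hx]
  · rw [Equiv.Perm.mul_apply, hfix x (Or.inr hx), hS' x hx]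

/-- The range of `g - 1` for a monomial `g` lies in few coordinates. -/
theorem Frame.exists_coord_of_range (B : Frame Q n) {g : ↥(Iso Q)} (hg : B.Mono g) {W : Submodule F V}
    [FiniteDimensional F W] (hW : ∀ x, g.1 x - x ∈ W) :
    ∃ A : Finset (Fin n), A.card ≤ 2 * finrank F W ∧ ∀ x, g.1 x - x ∈ B.sub A := by
  classical
  let f : Fin n → V := fun i => g.1 (B.bas i) - B.bas i
  have hfW : Submodule.span F (Set.range f) ≤ W := Submodule.span_le.mpr (by rintro _ ⟨i, rfl⟩; exact hW _)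
  obtain ⟨b, hb1, hb2, hb3⟩ := exists_linearIndependent F (Set.range f)
  haveI : Fintype b := ((Set.finite_range f).subset hb1).fintype
  have hb4 : b.toFinset.card ≤ finrank F W := by
    have h1 : finrank F (Submodule.span F b) = b.toFinset.card := finrank_span_set_eq_card hb3
    rw [← h1, hb2]
    exact Submodule.finrank_mono hfW
  refine ⟨b.toFinset.biUnion B.supp, ?_, fun x => ?_⟩
  · refine Finset.card_biUnion_le.trans ?_
    refine (Finset.sum_le_card_nsmul _ _ 2 fun v hv => ?_).trans (by rw [smul_eq_mul]; omega)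
    obtain ⟨i, rfl⟩ := hb1 (Set.mem_toFinset.mp hv)
    obtain ⟨j, hj⟩ := (hg i).supp B
    refine (Finset.card_le_card (?_ : B.supp (f i) ⊆ {i, j})).trans Finset.card_le_two
    intro k hk
    simp only [f, B.mem_supp, B.co_sub] at hk
    simp only [Finset.mem_insert, Finset.mem_singleton]
    by_contra hcon
    push Not at hcon
    rw [B.co_bas_ne hcon.1.symm, sub_zero] at hk
    exact hcon.2 (Finset.mem_singleton.mp (hj ▸ B.mem_supp.mpr hk))
  · have hle : Submodule.span F b ≤ B.sub (b.toFinset.biUnion B.supp) := Submodule.span_le.mpr fun v hv =>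
      B.mem_sub_iff.mpr (Finset.subset_biUnion_of_mem B.supp (Set.mem_toFinset.mpr hv))
    rw [hb2] at hle
    rw [← B.sum_co x, map_sum, ← Finset.sum_sub_distrib]
    refine sum_mem fun i _ => ?_
    rw [map_smul, ← smul_sub]
    exact Submodule.smul_mem _ _ (hle (Submodule.subset_span ⟨i, rfl⟩))

end Cfsg.Agent.Classical.MFrame
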