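import Cfsg.Agent.Lib.Classical.Dickson.Classify
import Cfsg.Agent.Lib.Classical.Dickson.Orders

/-!
# When a subgroup of `SL₂` of a prime field is everything
-/

set_option autoImplicit false
set_option linter.unusedSectionVars false

namespace Cfsg.Agent.Classical.MFrame.Pl

open Cfsg.Agent.Small Cfsg.Agent.Small.SL2C Cfsg.Agent.Classical.Dickson

universe u

variable {F : Type u} [Field F]

local notation "SL2" => Matrix.SpecialLinearGroup (Fin 2) F
local notation "M2" => Matrix (Fin 2) (Fin 2) F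

theorem inv_val (g : SL2) : (g⁻¹ : SL2).1 = g.1.trace • (1 : M2) - g.1 := by
  rw [Matrix.SpecialLinearGroup.coe_inv, Matrix.adjugate_fin_two, Matrix.trace_fin_two]
  ext i j
  fin_cases i <;> fin_cases j <;> simp

theorem mem_top_of_root {H : Subgroup SL2} (hu : ∀ x : F, PSL2.uS x ∈ H) (hv : ∀ x : F, PSL2.vS x ∈ H) : H = ⊤ := by
  refine eq_top_iff.mpr fun g _ => ?_
  have key : ∀ g : SL2, g.1 1 0 ≠ 0 → g ∈ H := fun g hg => by
    have hd : g.1 0 0 * g.1 1 1 - g.1 0 1 * g.1 1 0 = 1 := by rw [← Matrix.det_fin_two]; exact g.2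
    have e : g = PSL2.uS ((g.1 0 0 - 1) / g.1 1 0) * PSL2.vS (g.1 1 0) * PSL2.uS ((g.1 1 1 - 1) / g.1 1 0) := by
      apply Subtype.ext
      rw [PSL2.val_mul, PSL2.val_mul, PSL2.uS_val, PSL2.uS_val, PSL2.vS_val]
      ext i j
      fin_cases i <;> fin_cases j <;> simp [Matrix.mul_apply, Fin.sum_univ_two] <;> field_simp <;>
        first | ring1 | linear_combination hd | linear_combination -hd | skip
    rw [e]
    exact mul_mem (mul_mem (hu _) (hv _)) (hu _)
  by_cases h : g.1 1 0 = 0
  · have h00 : g.1 0 0 ≠ 0 := fun h0 => by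
      have hd := g.2
      rw [Matrix.det_fin_two, h, h0] at hd
      simp at hd
    have := key (PSL2.vS 1 * g) (by rw [PSL2.val_mul, PSL2.vS_val]; simpa [Matrix.mul_apply, Fin.sum_univ_two, h] using h00)
    exact (mul_mem_cancel_left (hv 1)).mp this
  · exact key g h

theorem dihedral_conj {k : ℕ} (x y : DihedralGroup k) (hx : x * x ≠ 1) :
    y * x * y⁻¹ = x ∨ y * x * y⁻¹ = x⁻¹ := by
  rcases x with i | i
  · rcases y with j | j
    · left; simp
    · right; simp
  · exact absurd (by simp) hx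

theorem subfield_eq_top [Fintype F] (hp : (Fintype.card F).Prime) (K : Subfield F) : K = ⊤ := by
  haveI : Fact (Nat.card F).Prime := ⟨by rwa [Nat.card_eq_fintype_card]⟩
  rcases AddSubgroup.eq_bot_or_eq_top_of_prime_card (G := F) K.toAddSubgroup with h | h
  · have h1 : (1 : F) ∈ K.toAddSubgroup := K.one_mem
    rw [h, AddSubgroup.mem_bot] at h1
    exact absurd h1 one_ne_zero
  · exact eq_top_iff.mpr fun x _ => show x ∈ K.toAddSubgroup by rw [h]; trivial

/-- Powers up to the fifth of a non-scalar element are scalar only for special traces. -/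
theorem pow_cases {g : SL2} (hsc : ¬ IsSc g.1) :
    (IsSc (g ^ 2).1 → g.1.trace = 0) ∧ (IsSc (g ^ 3).1 → g.1.trace ^ 2 = 1) ∧
      (IsSc (g ^ 4).1 → g.1.trace * (g.1.trace ^ 2 - 2) = 0) ∧
      (IsSc (g ^ 5).1 → g.1.trace ^ 4 - 3 * g.1.trace ^ 2 + 1 = 0) := by
  have key : ∀ (k : ℕ) (α β : F), (g ^ k).1 = α • g.1 - β • (1 : M2) → IsSc (g ^ k).1 → α = 0 := by
    rintro k α β e ⟨r, hr⟩
    by_contra hα
    refine hsc ⟨α⁻¹ * (r + β), ?_⟩
    rw [e, sub_eq_iff_eq_add, ← add_smul] at hr
    rw [← smul_smul, ← hr, smul_smul, inv_mul_cancel₀ hα, one_smul]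
  have step : ∀ (k : ℕ) (α β : F), (g ^ k).1 = α • g.1 - β • (1 : M2) →
      (g ^ (k + 1)).1 = (α * g.1.trace - β) • g.1 - α • (1 : M2) := fun k α β e => by
    rw [pow_succ, val_mul', e, Matrix.sub_mul, Matrix.smul_mul, Matrix.smul_mul, sq_eq, Matrix.one_mul, smul_sub,
      smul_smul, sub_smul]
    abel
  have e2 := step 1 1 0 (by simp)
  have e3 := step 2 _ _ e2
  have e4 := step 3 _ _ e3
  have e5 := step 4 _ _ e4
  refine ⟨fun h => ?_, fun h => ?_, fun h => ?_, fun h => ?_⟩
  · linear_combination key 2 _ _ e2 h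
  · linear_combination key 3 _ _ e3 h
  · linear_combination key 4 _ _ e4 h
  · linear_combination key 5 _ _ e5 h

/-- A subgroup with an element of general trace, no fixed axis and no fixed point is everything. -/
theorem eq_top_of [Fintype F] (hp : (Fintype.card F).Prime) (h5 : 5 ≤ Fintype.card F) {H : Subgroup SL2}
    (hZ : Subgroup.center SL2 ≤ H) {g : SL2} (hg : g ∈ H) (hsc : ¬ IsSc g.1) (ht0 : g.1.trace ≠ 0)
    (hgood : g.1.trace ^ 2 = 4 ∨ (g.1.trace ^ 2 ≠ 1 ∧ g.1.trace ^ 2 ≠ 2 ∧ g.1.trace ^ 4 - 3 * g.1.trace ^ 2 + 1 ≠ 0))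
    (hA : ¬ ∀ y ∈ H, y * g * y⁻¹ = g ∨ y * g * y⁻¹ = g⁻¹)
    (hB : ¬ ∃ N : M2, N ≠ 0 ∧ N.trace = 0 ∧ N.det = 0 ∧ ∀ y ∈ H, ∃ r : F, y.1 * N * (y⁻¹ : SL2).1 = r • N) :
    H = ⊤ := by
  obtain ⟨q, hq⟩ := CharP.exists F
  haveI := hq
  have hqp : q.Prime := (CharP.char_is_prime_or_zero F q).resolve_right (CharP.char_ne_zero_of_finite F q)
  have hqF : q = Fintype.card F := by
    obtain ⟨m, -, hm⟩ := FiniteField.card F q
    have hqd : q ∣ Fintype.card F := by rw [hm]; exact dvd_pow_self q (by simp)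
    exact (Nat.prime_dvd_prime_iff_eq hqp hp).mp hqd
  have hcard : ∀ k : ℕ, 1 ≤ k → k < 5 → (k : F) ≠ 0 := fun k h1 hk h0 => by
    have := Nat.le_of_dvd (by omega) ((CharP.cast_eq_zero_iff F q k).mp h0)
    omega
  have h2 : (2 : F) ≠ 0 := by exact_mod_cast hcard 2 (by norm_num) (by norm_num)
  have htop : H.map PSL2.pr = ⊤ → H = ⊤ := fun h => by
    have h1 := Subgroup.comap_map_eq_self (f := PSL2.pr) (H := H) (by rw [PSL2.pr, QuotientGroup.ker_mk']; exact hZ)
    rw [← h1, h, Subgroup.comap_top]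
  have hne : PSL2.pr g * PSL2.pr g ≠ 1 := fun h => by
    rw [← map_mul, ← pow_two, pr_eq_one_iff] at h
    exact ht0 ((pow_cases hsc).1 h)
  have hfromP : (∀ y ∈ H, PSL2.pr (y * g * y⁻¹) = PSL2.pr g ∨ PSL2.pr (y * g * y⁻¹) = PSL2.pr g⁻¹) → False := by
    intro h
    refine hA fun y hy => ?_
    have htr : (y * g * y⁻¹ : SL2).1.trace = g.1.trace := (trace_conj (isConj_iff.mpr ⟨y, rfl⟩)).symm
    have hti : (g⁻¹ : SL2).1.trace = g.1.trace := by
      rw [inv_val, Matrix.trace_sub, Matrix.trace_smul, Matrix.trace_one, Fintype.card_fin]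
      simp; ring
    have key : ∀ w : SL2, w.1.trace = g.1.trace → PSL2.pr (y * g * y⁻¹) = PSL2.pr w → y * g * y⁻¹ = w := by
      intro w hw e
      obtain ⟨ε, hε, he⟩ := (PSL2.pr_eq_iff _ _).mp e
      have := congrArg Matrix.trace he
      rw [htr, Matrix.trace_smul, hw, smul_eq_mul] at this
      have h1 : ε = 1 := mul_right_cancel₀ ht0 (by rw [one_mul]; exact this.symm)
      exact Subtype.ext (by rw [he, h1, one_smul])
    rcases h y hy with h' | h'
    · exact Or.inl (key g rfl h')
    · exact Or.inr (key g⁻¹ hti h')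
  have hmemP : ∀ y ∈ H, PSL2.pr y ∈ H.map PSL2.pr := fun y hy => Subgroup.mem_map_of_mem _ hy
  obtain ⟨x, hxv⟩ : ∃ x : ↥(H.map PSL2.pr), x.1 = PSL2.pr g := ⟨⟨_, hmemP g hg⟩, rfl⟩
  -- small groups have elements of order at most five
  have small : ∀ {n : ℕ} (hn : Nat.card ↥(H.map PSL2.pr) = n),
      (x ^ 2 = 1 ∨ x ^ 3 = 1 ∨ x ^ 4 = 1 ∨ x ^ 5 = 1) → (5 ∣ n → Fintype.card F = 5 → H = ⊤) → H = ⊤ := by
    intro n hn hx h60
    have hsc' : ∀ k : ℕ, x ^ k = 1 → IsSc (g ^ k).1 := fun k hk => by
      have := congrArg Subtype.val hk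
      rw [SubgroupClass.coe_pow, hxv, OneMemClass.coe_one, ← map_pow, pr_eq_one_iff] at this
      exact this
    obtain ⟨p2, p3, p4, p5⟩ := pow_cases hsc
    have ht2 : g.1.trace ^ 2 ≠ 1 := by
      rcases hgood with h | h
      · rw [h]; intro e
        exact hcard 3 (by norm_num) (by norm_num) (by push_cast; linear_combination e)
      · exact h.1
    have ht4 : g.1.trace ^ 2 ≠ 2 := by
      rcases hgood with h | h
      · rw [h]; intro e
        exact h2 (by linear_combination e)
      · exact h.2.1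
    rcases hx with h | h | h | h
    · exact absurd (p2 (hsc' 2 h)) ht0
    · exact absurd (p3 (hsc' 3 h)) ht2
    · exact absurd (sub_eq_zero.mp ((mul_eq_zero.mp (p4 (hsc' 4 h))).resolve_left ht0)) ht4
    · have e := p5 (hsc' 5 h)
      rcases hgood with h4 | h4
      · rw [show g.1.trace ^ 4 = (g.1.trace ^ 2) ^ 2 by ring, h4] at e
        have e5 : (5 : F) = 0 := by linear_combination e
        have hc5 : Fintype.card F = 5 := by
          have h5d : q ∣ 5 := (CharP.cast_eq_zero_iff F q 5).mp (by exact_mod_cast e5)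
          rw [← hqF]
          exact (Nat.prime_dvd_prime_iff_eq hqp (by norm_num)).mp h5d
        refine h60 ?_ hc5
        haveI : Fact (Nat.Prime 5) := ⟨by norm_num⟩
        rw [← hn, ← orderOf_eq_prime h (fun h1 => hne (by rw [← hxv, h1]; simp))]
        exact orderOf_dvd_natCard x
      · exact absurd e h4.2.2
  have fin : Kind H → H = ⊤ := by
    intro hk
    cases hk with
    | cyclic k _ hc _ =>
      refine (hfromP fun y hy => Or.inl ?_).elim
      haveI := hc
      have := congrArg Subtype.val (IsCyclic.commGroup.mul_comm (⟨_, hmemP y hy⟩ : ↥(H.map PSL2.pr)) ⟨_, hmemP g hg⟩)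
      rw [map_mul, map_mul, map_inv, mul_inv_eq_iff_eq_mul]
      exact this
    | dihedral k _ _ hiso =>
      obtain ⟨e⟩ := hiso
      refine (hfromP fun y hy => ?_).elim
      obtain ⟨z, hz⟩ : ∃ z : ↥(H.map PSL2.pr), z.1 = PSL2.pr y := ⟨⟨_, hmemP y hy⟩, rfl⟩
      have hx2 : e x * e x ≠ 1 := fun h => hne (by
        have := congrArg Subtype.val (e.injective (by rw [map_mul, map_one, h] : e (x * x) = e 1))
        simpa [hxv] using this)
      rcases dihedral_conj (e x) (e z) hx2 with h | h
      · left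
        have := congrArg Subtype.val (e.injective (by rw [map_mul, map_mul, map_inv, h] : e (z * x * z⁻¹) = e x))
        simpa [hxv, hz] using this
      · right
        have := congrArg Subtype.val (e.injective (by rw [map_mul, map_mul, map_inv, h, map_inv] : e (z * x * z⁻¹) = e x⁻¹))
        simpa [hxv, hz] using this
    | borel P hP _ =>
      refine (hB ⟨P⁻¹.val * !![0, 1; 0, 0] * P.val, ?_, ?_, ?_, fun y hy => ?_⟩).elim
      · intro h
        have := congrArg (fun X : M2 => (P.val * X * P⁻¹.val) 0 1) h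
        simp [Matrix.mul_assoc] at this
      · rw [Matrix.trace_mul_comm, ← Matrix.mul_assoc, Units.mul_inv, Matrix.one_mul, Matrix.trace_fin_two]; simp
      · rw [Matrix.det_units_conj', Matrix.det_fin_two]; simp
      · obtain ⟨w, hw, hw10⟩ : ∃ w : SL2, PSL2.conjSL P y = w ∧ w.1 1 0 = 0 :=
          ⟨_, rfl, hP _ (Subgroup.mem_map_of_mem _ hy)⟩
        have hwE : w.1 * !![0, 1; 0, 0] * (w⁻¹ : SL2).1 = (w.1 0 0 * w.1 0 0) • !![(0 : F), 1; 0, 0] := by
          rw [Matrix.SpecialLinearGroup.coe_inv, Matrix.adjugate_fin_two]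
          ext i j
          fin_cases i <;> fin_cases j <;> simp [Matrix.mul_apply, Fin.sum_univ_two, hw10]
        have hwi : (w⁻¹ : SL2).1 = P.val * (y⁻¹ : SL2).1 * P⁻¹.val := by
          rw [← hw, ← map_inv, PSL2.conjSL_val]
        rw [hwi] at hwE
        rw [show w.1 = P.val * y.1 * P⁻¹.val by rw [← hw, PSL2.conjSL_val]] at hwE
        refine ⟨(P.val * y.1 * P⁻¹.val) 0 0 * (P.val * y.1 * P⁻¹.val) 0 0, ?_⟩
        have h3 := congrArg (fun X : M2 => P⁻¹.val * X * P.val) hwE
        generalize (!![(0 : F), 1; 0, 0] : M2) = E at h3 ⊢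
        generalize (P.val * y.1 * P⁻¹.val) 0 0 = z at h3 ⊢
        simp only [Matrix.mul_smul, Matrix.smul_mul] at h3
        rw [← h3]
        simp only [← Matrix.mul_assoc, Units.inv_mul, Matrix.one_mul]
        simp only [Matrix.mul_assoc, Units.inv_mul, Matrix.mul_one]
    | a4 _ hiso =>
      obtain ⟨e⟩ := hiso
      refine small (n := 12) (by rw [Nat.card_congr e.toEquiv, Nat.card_eq_fintype_card]; decide) ?_
        (fun h _ => absurd h (by norm_num))
      rcases pow_small_a4 (e x) with h | h | h | h <;>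
        [left; (right; left); (right; right; left); (right; right; right)] <;>
        exact e.injective (by rw [map_pow, h, map_one])
    | s4 _ hiso =>
      obtain ⟨e⟩ := hiso
      refine small (n := 24) (by rw [Nat.card_congr e.toEquiv, Nat.card_eq_fintype_card]; decide) ?_
        (fun h _ => absurd h (by norm_num))
      rcases pow_small_s4 (e x) with h | h | h | h <;>
        [left; (right; left); (right; right; left); (right; right; right)] <;>
        exact e.injective (by rw [map_pow, h, map_one])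
    | a5 _ hiso =>
      obtain ⟨e⟩ := hiso
      refine small (n := 60) (by rw [Nat.card_congr e.toEquiv, Nat.card_eq_fintype_card]; decide) ?_ ?_
      · rcases pow_small_a5 (e x) with h | h | h | h <;>
          [left; (right; left); (right; right; left); (right; right; right)] <;>
          exact e.injective (by rw [map_pow, h, map_one])
      · intro _ hc5
        refine htop (Subgroup.eq_top_of_card_eq _ ?_)
        have hc := card_psl F
        rw [hc5] at hc
        norm_num at hc
        rw [Nat.card_congr e.toEquiv, Nat.card_eq_fintype_card]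
        have : Fintype.card (alternatingGroup (Fin 5)) = 60 := by decide
        omega
    | field P K hlow _ _ =>
      have h := mem_top_of_root (H := H.map (PSL2.conjSL P).toMonoidHom)
        (fun x => (hlow x (by rw [subfield_eq_top hp K]; trivial)).1)
        (fun x => (hlow x (by rw [subfield_eq_top hp K]; trivial)).2)
      refine eq_top_iff.mpr fun y _ => ?_
      have hy : PSL2.conjSL P y ∈ H.map (PSL2.conjSL P).toMonoidHom := by rw [h]; trivial
      obtain ⟨z, hz, e⟩ := hy
      rwa [← (PSL2.conjSL P).injective e]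
  exact fin (kind hZ)

end Cfsg.Agent.Classical.MFrame.Pl
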