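import Cfsg.Agent.Lib.Classical.MonomFrame.Sphere
import Cfsg.Agent.Lib.Classical.MonomFrame.PlaneGroup

/-!
# Three reflections of a three-dimensional space over a prime field
-/

set_option autoImplicit false
set_option linter.unusedSectionVars false

namespace Cfsg.Agent.Classical.MFrame

open Module QuadraticMap OCount ORefl OOmega
open Cfsg.Agent.Small.SL2C (IsSc)

universe u v

variable {F : Type u} [Field F] {V : Type v} [AddCommGroup V] [Module F V] {Q : QuadraticForm F V}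

local notation "SL2" => Matrix.SpecialLinearGroup (Fin 2) F
local notation "M2" => Matrix (Fin 2) (Fin 2) F

/-- The ratio is neither special nor zero. -/
def Good (a : F) : Prop := a ≠ 0 ∧ (a = 1 ∨ (4 * a ≠ 1 ∧ 2 * a ≠ 1 ∧ 16 * a ^ 2 - 12 * a + 1 ≠ 0))

namespace Pl

theorem anticomm {A B : M2} (hA : A.trace = 0) (hB : B.trace = 0) :
    A * B + B * A = -((A + B).det - A.det - B.det) • (1 : M2) := by
  rw [Matrix.trace_fin_two] at hA hB
  have eA : A 1 1 = -A 0 0 := by linear_combination hA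
  have eB : B 1 1 = -B 0 0 := by linear_combination hB
  ext i j
  fin_cases i <;> fin_cases j <;>
    simp [Matrix.mul_apply, Fin.sum_univ_two, Matrix.det_fin_two, eA, eB] <;> ring

theorem sq_neg_det {A : M2} (hA : A.trace = 0) : A * A = -A.det • (1 : M2) := by
  rw [Matrix.trace_fin_two] at hA
  have eA : A 1 1 = -A 0 0 := by linear_combination hA
  ext i j
  fin_cases i <;> fin_cases j <;> simp [Matrix.mul_apply, Fin.sum_univ_two, Matrix.det_fin_two, eA] <;> ring

variable [Fintype F]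

/-- Trace-zero matrices of one nonzero determinant are conjugate in `SL₂`. -/
theorem exists_conj_trace_zero (h2 : (2 : F) ≠ 0) {A B : M2} (hA : A.trace = 0) (hB : B.trace = 0)
    (hd : A.det ≠ 0) (he : B.det = A.det) : ∃ g : SL2, g.1 * A * (g⁻¹ : SL2).1 = B := by
  have hns : ∀ X : M2, X.trace = 0 → X.det ≠ 0 → ¬ IsSc X := by
    rintro X hX hXd ⟨r, rfl⟩
    rw [Matrix.trace_smul, Matrix.trace_one, Fintype.card_fin, smul_eq_mul] at hX
    have : r = 0 := (mul_eq_zero.mp (by push_cast at hX; exact hX)).resolve_right h2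
    simp [this] at hXd
  obtain ⟨P, hP⟩ := Cfsg.Agent.Small.SL2C.exists_conj (hns A hA hd) (hns B hB (he ▸ hd)) (hA.trans hB.symm) he.symm
  have hr : P.val.det ≠ 0 := (P.isUnit.map Matrix.detMonoidHom).ne_zero
  obtain ⟨x, y, hxy⟩ := exists_rep h2 (one_ne_zero (α := F)) hd (P.val.det)⁻¹
  have hdet : (P.val * Cfsg.Agent.Small.SL2C.comb A x y).det = 1 := by
    rw [Matrix.det_mul, Cfsg.Agent.Small.SL2C.det_comb, Cfsg.Agent.Small.SL2C.Qf, hA]
    rw [show x * x + 0 * x * y + A.det * (y * y) = (P.val.det)⁻¹ by rw [← hxy]; ring, mul_inv_cancel₀ hr]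
  refine ⟨⟨_, hdet⟩, ?_⟩
  obtain ⟨g, hg⟩ : ∃ g : SL2, g = ⟨_, hdet⟩ := ⟨_, rfl⟩
  rw [← hg]
  have h1 : g.1 * A = B * g.1 := by
    rw [hg]
    show P.val * _ * A = B * (P.val * _)
    rw [Matrix.mul_assoc, Cfsg.Agent.Small.SL2C.comb_comm, ← Matrix.mul_assoc, hP, Matrix.mul_assoc]
  rw [h1, Matrix.mul_assoc, ← Cfsg.Agent.Small.PSL2.val_mul, mul_inv_cancel, Matrix.SpecialLinearGroup.coe_one,
    Matrix.mul_one]

end Pl

variable [Finite F] [FiniteDimensional F V]

/-- Coordinates of a three-dimensional space by trace-zero matrices. -/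
theorem exists_chart (h2 : (2 : F) ≠ 0) {U : Submodule F V} (hU : NDOn Q U) (h3 : finrank F U = 3) {p : V}
    (hp : p ∈ U) {c : F} (hc : c ≠ 0) (hpc : Q p = c) :
    ∃ (e : F) (ψ : M2 →ₗ[F] V), e ≠ 0 ∧ (∀ X, ψ X ∈ U) ∧ (∀ v ∈ U, ∃ X : M2, X.trace = 0 ∧ ψ X = v) ∧
      (∀ X : M2, X.trace = 0 → Q (ψ X) = -e * X.det) ∧ (∀ X : M2, X.trace = 0 → ψ X = 0 → X = 0) := by
  obtain ⟨b, hb, hpb, hbv⟩ := exists_value_perp h2 hU (le_of_eq h3.symm) hp (hpc ▸ hc) (-c)
  have hnc : -c ≠ 0 := neg_ne_zero.mpr hc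
  -- a third vector
  obtain ⟨w, hw, hpw, hbw, hQw⟩ : ∃ w ∈ U, polar Q p w = 0 ∧ polar Q b w = 0 ∧ Q w ≠ 0 := by
    have hlt : Submodule.span F ({p, b} : Set V) < U := by
      refine lt_of_le_of_ne (Submodule.span_le.mpr (Set.insert_subset hp (Set.singleton_subset_iff.mpr hb))) fun e => ?_
      classical
      have h1 := finrank_span_le_card (R := F) ({p, b} : Set V)
      rw [e, h3] at h1
      simp only [Set.toFinset_insert, Set.toFinset_singleton] at h1
      have := h1.trans (Finset.card_le_two)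
      omega
    obtain ⟨z, hz, hzn⟩ := SetLike.exists_of_lt hlt
    obtain ⟨w, hwd⟩ : ∃ w, w = z - (polar Q p z / (2 * c)) • p - (polar Q b z / (2 * -c)) • b := ⟨_, rfl⟩
    have hwU : w ∈ U := hwd ▸ sub_mem (sub_mem hz (U.smul_mem _ hp)) (U.smul_mem _ hb)
    have h1 : polar Q p w = 0 := by
      rw [hwd, polar_sub_right, polar_sub_right, polar_smul_right, polar_smul_right, hpb, polar_self_two, hpc,
        smul_eq_mul, div_mul_cancel₀ _ (mul_ne_zero h2 hc)]
      simp
    have h4 : polar Q b w = 0 := by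
      rw [hwd, polar_sub_right, polar_sub_right, polar_smul_right, polar_smul_right, polar_comm Q b p, hpb,
        polar_self_two, hbv, smul_eq_mul, smul_eq_mul, mul_zero, sub_zero,
        div_mul_cancel₀ _ (mul_ne_zero h2 hnc), sub_self]
    have hwn : w ∉ Submodule.span F ({p, b} : Set V) := fun hmem => hzn (by
      have : z = w + (polar Q p z / (2 * c)) • p + (polar Q b z / (2 * -c)) • b := by rw [hwd]; abel
      rw [this]
      exact add_mem (add_mem hmem (Submodule.smul_mem _ _ (Submodule.subset_span (by simp))))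
        (Submodule.smul_mem _ _ (Submodule.subset_span (by simp))))
    refine ⟨w, hwU, h1, h4, fun hQw => ?_⟩
    have hspan : Submodule.span F ({p, b} : Set V) ⊔ Submodule.span F {w} = U := by
      refine Submodule.eq_of_le_of_finrank_le (sup_le hlt.le ((Submodule.span_singleton_le_iff_mem _ _).mpr hwU)) ?_
      have hlt2 : Submodule.span F ({p, b} : Set V) < Submodule.span F ({p, b} : Set V) ⊔ Submodule.span F {w} :=
        lt_of_le_of_ne le_sup_left fun e => hwn (e ▸ Submodule.mem_sup_right (Submodule.mem_span_singleton_self w))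
      have hb1 : Submodule.span F ({p} : Set V) < Submodule.span F ({p, b} : Set V) := by
        refine lt_of_le_of_ne (Submodule.span_mono (by simp)) fun e => ?_
        have hb' : b ∈ Submodule.span F ({p} : Set V) := e ▸ Submodule.subset_span (by simp)
        obtain ⟨t, ht⟩ := Submodule.mem_span_singleton.mp hb'
        rw [← ht, polar_smul_right, polar_self_two, hpc, smul_eq_mul] at hpb
        rw [← ht, (mul_eq_zero.mp hpb).resolve_right (mul_ne_zero h2 hc), zero_smul, QuadraticMap.map_zero] at hbv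
        exact hnc hbv.symm
      have h1' := Submodule.finrank_lt_finrank_of_lt hb1
      rw [finrank_span_singleton (fun e => hc (by rw [← hpc, e, QuadraticMap.map_zero]))] at h1'
      have := Submodule.finrank_lt_finrank_of_lt hlt2
      omega
    have hw0 : (⟨w, hwU⟩ : U) = 0 := hU _ fun x => by
      show polar Q w x.1 = 0
      have hx := hspan.ge x.2
      rw [← Submodule.span_union] at hx
      refine Submodule.span_induction ?_ ?_ ?_ ?_ hx
      · intro y hy
        simp only [Set.mem_union, Set.mem_insert_iff, Set.mem_singleton_iff] at hy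
        rcases hy with (rfl | rfl) | rfl
        · rw [polar_comm, h1]
        · rw [polar_comm, h4]
        · rw [polar_self_two, hQw, mul_zero]
      · exact polar_zero_right _ _
      · intro _ _ _ _ ha hb'; rw [polar_add_right, ha, hb', add_zero]
      · intro _ _ _ ha; rw [polar_smul_right, ha, smul_zero]
    exact hwn (by rw [show w = 0 from congrArg Subtype.val hw0]; exact Submodule.zero_mem _)
  obtain ⟨e, hee⟩ : ∃ e, e = Q w := ⟨_, rfl⟩
  have he0 : e ≠ 0 := hee ▸ hQw
  let φ : M2 → V := fun X => ((X 0 0 - X 1 1) / 2) • w + X 1 0 • (p + b) + (X 0 1 * (e / (4 * c))) • (p - b)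
  have h4 : (4 : F) ≠ 0 := by
    rw [show (4 : F) = 2 * 2 by norm_num]; exact mul_ne_zero h2 h2
  refine ⟨e, ⟨⟨φ, fun X Y => ?_⟩, fun r X => ?_⟩, he0, fun X => ?_, fun v hv => ?_, fun X hX => ?_, fun X hX h0 => ?_⟩
  · simp only [φ, Matrix.add_apply]
    rw [show (X 0 0 + Y 0 0 - (X 1 1 + Y 1 1)) / 2 = (X 0 0 - X 1 1) / 2 + (Y 0 0 - Y 1 1) / 2 by ring, add_mul]
    simp only [add_smul]
    abel
  · simp only [φ, Matrix.smul_apply, RingHom.id_apply, smul_eq_mul, smul_add, smul_smul]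
    match_scalars <;> ring
  · exact add_mem (add_mem (U.smul_mem _ hw) (U.smul_mem _ (add_mem hp hb))) (U.smul_mem _ (sub_mem hp hb))
  · obtain ⟨α, hα⟩ : ∃ α, α = polar Q w v / (2 * e) := ⟨_, rfl⟩
    obtain ⟨β, hβ⟩ : ∃ β, β = polar Q p v / (2 * c) := ⟨_, rfl⟩
    obtain ⟨γ, hγ⟩ : ∃ γ, γ = polar Q b v / (2 * -c) := ⟨_, rfl⟩
    refine ⟨!![α, (β - γ) / 2 * (4 * c / e); (β + γ) / 2, -α], by simp [Matrix.trace_fin_two], ?_⟩
    show φ _ = v
    have hd0 : v - (α • w + β • p + γ • b) = 0 := by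
      have hmem : v - (α • w + β • p + γ • b) ∈ U :=
        sub_mem hv (add_mem (add_mem (U.smul_mem _ hw) (U.smul_mem _ hp)) (U.smul_mem _ hb))
      obtain ⟨d, hdd⟩ : ∃ d, d = v - (α • w + β • p + γ • b) := ⟨_, rfl⟩
      rw [← hdd] at hmem ⊢
      have horth : polar Q w d = 0 ∧ polar Q p d = 0 ∧ polar Q b d = 0 := by
        simp only [hdd, polar_sub_right, polar_add_right, polar_smul_right, polar_self_two, hpb, hpw, hbw, hpc, hbv,
          polar_comm Q w p, polar_comm Q w b, polar_comm Q b p, smul_eq_mul, ← hee, mul_zero, zero_add, add_zero,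
          hα, hβ, hγ]
        refine ⟨?_, ?_, ?_⟩ <;> field_simp <;> ring
      by_contra hd
      refine hd (congrArg Subtype.val ((hU (⟨d, hmem⟩ : U) ?_) : (⟨d, hmem⟩ : U) = 0))
      intro x
      have hli : LinearIndependent F ![(⟨w, hw⟩ : U), ⟨p, hp⟩, ⟨b, hb⟩] := by
        rw [Fintype.linearIndependent_iff]
        intro g hg
        have hg' : g 0 • w + g 1 • p + g 2 • b = 0 := by
          have := congrArg Subtype.val hg
          simpa [Fin.sum_univ_three] using this
        have a0 := congrArg (polar Q w) hg'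
        have a1 := congrArg (polar Q p) hg'
        have a2 := congrArg (polar Q b) hg'
        simp only [polar_add_right, polar_smul_right, polar_self_two, hpb, hpw, hbw, hpc, hbv, polar_comm Q w p,
          polar_comm Q w b, polar_comm Q b p, smul_eq_mul, ← hee, mul_zero, zero_add, add_zero, polar_zero_right] at a0 a1 a2
        intro i
        fin_cases i
        · exact (mul_eq_zero.mp a0).resolve_right (mul_ne_zero h2 he0)
        · exact (mul_eq_zero.mp a1).resolve_right (mul_ne_zero h2 hc)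
        · exact (mul_eq_zero.mp a2).resolve_right (mul_ne_zero h2 hnc)
      have htop := hli.span_eq_top_of_card_eq_finrank (by rw [Fintype.card_fin, h3])
      have hx : x ∈ (⊤ : Submodule F U) := trivial
      rw [← htop] at hx
      show polar Q d x.1 = 0
      refine Submodule.span_induction ?_ ?_ ?_ ?_ hx
      · rintro y ⟨i, rfl⟩
        fin_cases i
        · show polar Q d w = 0; rw [polar_comm]; exact horth.1
        · show polar Q d p = 0; rw [polar_comm]; exact horth.2.1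
        · show polar Q d b = 0; rw [polar_comm]; exact horth.2.2
      · exact polar_zero_right _ _
      · intro y z _ _ ha hb'; rw [Submodule.coe_add, polar_add_right, ha, hb', add_zero]
      · intro t y _ ha; rw [Submodule.coe_smul, polar_smul_right, ha, smul_zero]
    rw [sub_eq_zero.mp hd0]
    simp only [φ, Matrix.of_apply, Matrix.cons_val', Matrix.cons_val_zero, Matrix.cons_val_one, Matrix.empty_val',
      Matrix.cons_val_fin_one]
    rw [show (α - -α) / 2 = α by field_simp; ring,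
      show (β - γ) / 2 * (4 * c / e) * (e / (4 * c)) = (β - γ) / 2 by field_simp]
    match_scalars <;> field_simp <;> ring
  · show Q (φ X) = _
    rw [Matrix.trace_fin_two] at hX
    have e11 : X 1 1 = -X 0 0 := by linear_combination hX
    simp only [φ, map_two, map_sub_two, QuadraticMap.map_smul, polar_add_left, polar_smul_left, polar_smul_right,
      polar_add_right, polar_sub_right, polar_sub_left, polar_self_two, hpb, hpw, hbw, hpc, hbv, polar_comm Q w p,
      polar_comm Q w b, polar_comm Q b p, smul_eq_mul, ← hee, Matrix.det_fin_two, e11]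
    field_simp
    ring
  · replace h0 : φ X = 0 := h0
    rw [Matrix.trace_fin_two] at hX
    have e11 : X 1 1 = -X 0 0 := by linear_combination hX
    have a0 := congrArg (polar Q w) h0
    have a1 := congrArg (polar Q p) h0
    have a2 := congrArg (polar Q b) h0
    simp only [φ, polar_add_right, polar_sub_right, polar_smul_right, polar_self_two, hpb, hpw, hbw, hpc, hbv,
      polar_comm Q w p, polar_comm Q w b, polar_comm Q b p, smul_eq_mul, ← hee, polar_zero_right, e11] at a0 a1 a2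
    field_simp at a0 a1 a2
    have x0 : X 0 0 = 0 := by
      have : (2 * e * 4 * c) * X 0 0 = 0 := by linear_combination a0
      exact (mul_eq_zero.mp this).resolve_left (by simp [h2, h4, he0, hc])
    have x10 : X 1 0 = 0 := by
      have : (4 * 4 * 2 * c * c) * X 1 0 = 0 := by linear_combination a1 - a2
      exact (mul_eq_zero.mp this).resolve_left (by simp [h4, h2, hc])
    have x01 : X 0 1 = 0 := by
      have : (4 * 2 * e * c) * X 0 1 = 0 := by linear_combination a1 + a2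
      exact (mul_eq_zero.mp this).resolve_left (by simp [h4, h2, hc, he0])
    ext i j
    fin_cases i <;> fin_cases j <;> simp [x0, x10, x01, e11]

/-- Three reflections in general position give the sphere. -/
theorem plane_sph (hp : (Nat.card F).Prime) (h5 : 5 ≤ Nat.card F) (h2 : (2 : F) ≠ 0) {G : Subgroup ↥(Iso Q)}
    {c : F} (hc : c ≠ 0) {U : Submodule F V} (hU : NDOn Q U) (h3 : finrank F U = 3) {p₁ p₂ p₃ : V}
    (m₁ : p₁ ∈ U) (m₂ : p₂ ∈ U) (m₃ : p₃ ∈ U) (q₁ : Q p₁ = c) (q₂ : Q p₂ = c) (q₃ : Q p₃ = c)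
    (g₁ : rf Q p₁ ∈ G) (g₂ : rf Q p₂ ∈ G) (g₃ : rf Q p₃ ∈ G)
    (hspan : U ≤ Submodule.span F ({p₁, p₂, p₃} : Set V))
    (hlink : polar Q p₃ p₁ ≠ 0 ∨ polar Q p₃ p₂ ≠ 0) {a : F} (ha : Good a)
    (h12 : polar Q p₁ p₂ ^ 2 = 4 * c ^ 2 * a) : Sph G c U := by
  classical
  haveI := Fintype.ofFinite F
  have hpF : (Fintype.card F).Prime := by rwa [Nat.card_eq_fintype_card] at hp
  have h5F : 5 ≤ Fintype.card F := by rwa [Nat.card_eq_fintype_card] at h5
  obtain ⟨e, ψ, he, hψU, hsurj, hval, hinj⟩ := exists_chart h2 hU h3 m₁ hc q₁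
  obtain ⟨d, hd⟩ : ∃ d, d = -c / e := ⟨_, rfl⟩
  have hd0 : d ≠ 0 := hd ▸ div_ne_zero (neg_ne_zero.mpr hc) he
  have hed : e * d = -c := by rw [hd]; field_simp
  have hpolψ : ∀ {A X : M2}, A.trace = 0 → X.trace = 0 →
      A * X + X * A = (polar Q (ψ A) (ψ X) / e) • (1 : M2) := by
    intro A X hA hX
    rw [Pl.anticomm hA hX]
    congr 1
    rw [QuadraticMap.polar, ← map_add, hval _ (by rw [Matrix.trace_add, hA, hX, add_zero]), hval _ hA, hval _ hX]
    field_simp
    ring
  have hrf : ∀ {A X : M2}, A.trace = 0 → A.det = d → X.trace = 0 →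
      (rf Q (ψ A)).1 (ψ X) = ψ (d⁻¹ • (A * X * A)) ∧ (d⁻¹ • (A * X * A)).trace = 0 := by
    intro A X hA hAd hX
    constructor
    · have hQA : Q (ψ A) = c := by rw [hval _ hA, hAd]; linear_combination -hed
      have e1 : A * X * A = d • X + (polar Q (ψ A) (ψ X) / e) • A := by
        calc A * X * A = A * (A * X + X * A) - (A * A) * X := by noncomm_ring
          _ = _ := by
            rw [hpolψ hA hX, Pl.sq_neg_det hA, hAd, Matrix.mul_smul, Matrix.mul_one, Matrix.smul_mul, Matrix.one_mul,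
              neg_smul, sub_neg_eq_add, add_comm]
      show refl Q (ψ A) (ψ X) = _
      rw [refl_apply, hQA, e1, smul_add, smul_smul, smul_smul, inv_mul_cancel₀ hd0, one_smul, map_add, map_smul,
        sub_eq_add_neg, ← neg_smul]
      congr 2
      rw [hd]
      field_simp
    · rw [Matrix.trace_smul, Matrix.trace_mul_comm, ← Matrix.mul_assoc, Pl.sq_neg_det hA, Matrix.smul_mul,
        Matrix.one_mul, Matrix.trace_smul, hX, smul_zero, smul_zero]
  let K : Subgroup SL2 :=
    { carrier := {g | ∃ h ∈ G, ∀ X : M2, X.trace = 0 → h.1 (ψ X) = ψ (g.1 * X * (g⁻¹ : SL2).1)}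
      one_mem' := ⟨1, one_mem _, fun X _ => by simp⟩
      mul_mem' := by
        rintro g g' ⟨h, hh, hg⟩ ⟨h', hh', hg'⟩
        refine ⟨h * h', mul_mem hh hh', fun X hX => ?_⟩
        show h.1 (h'.1 (ψ X)) = _
        rw [hg' X hX, hg _ (by rw [Matrix.trace_mul_cycle, ← Cfsg.Agent.Small.PSL2.val_mul, inv_mul_cancel]; simpa),
          mul_inv_rev, Cfsg.Agent.Small.PSL2.val_mul, Cfsg.Agent.Small.PSL2.val_mul]
        simp only [Matrix.mul_assoc]
      inv_mem' := by
        rintro g ⟨h, hh, hg⟩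
        refine ⟨h⁻¹, inv_mem hh, fun X hX => ?_⟩
        apply h.1.injective
        show h.1 (h.1.symm (ψ X)) = _
        have ht : (((g⁻¹ : SL2)).1 * X * ((g⁻¹ : SL2)⁻¹ : SL2).1).trace = 0 := by
          rw [Matrix.trace_mul_cycle, ← Cfsg.Agent.Small.PSL2.val_mul, inv_inv, mul_inv_cancel]
          simpa
        rw [h.1.apply_symm_apply, hg _ ht, inv_inv, ← Matrix.mul_assoc, ← Matrix.mul_assoc,
          ← Cfsg.Agent.Small.PSL2.val_mul, Matrix.mul_assoc, ← Cfsg.Agent.Small.PSL2.val_mul, mul_inv_cancel]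
        simp }
  have hKtr : ∀ g : SL2, g ∈ K → ∀ X : M2, X.trace = 0 → (g.1 * X * (g⁻¹ : SL2).1).trace = 0 := fun g _ X hX => by
    rw [Matrix.trace_mul_cycle, ← Cfsg.Agent.Small.PSL2.val_mul, inv_mul_cancel]; simpa
  have hZ : Subgroup.center SL2 ≤ K := by
    intro z hz
    obtain ⟨r, hr⟩ := Cfsg.Agent.Small.SL2C.mem_center_iff.mp hz
    refine ⟨1, one_mem _, fun X _ => ?_⟩
    have : z.1 * X = X * z.1 := by rw [hr]; simp
    rw [this, Matrix.mul_assoc, ← Cfsg.Agent.Small.PSL2.val_mul, mul_inv_cancel]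
    simp
  -- products of two reflections
  have hpair : ∀ {A B : M2}, A.trace = 0 → B.trace = 0 → A.det = d → B.det = d → rf Q (ψ A) ∈ G → rf Q (ψ B) ∈ G →
      ∃ g ∈ K, g.1 = d⁻¹ • (A * B) ∧ g.1.trace = -(polar Q (ψ A) (ψ B)) / c ∧
        ∀ X : M2, X.trace = 0 → ψ (g.1 * X * (g⁻¹ : SL2).1) = (rf Q (ψ A)).1 ((rf Q (ψ B)).1 (ψ X)) := by
    intro A B hA hB hAd hBd hGA hGB
    have hdet : ∀ S T : M2, S.det = d → T.det = d → (d⁻¹ • (S * T)).det = 1 := fun S T hS hT => by
      rw [Matrix.det_smul, Matrix.det_mul, hS, hT, Fintype.card_fin]; field_simp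
    obtain ⟨g, hg⟩ : ∃ g : SL2, g = ⟨_, hdet A B hAd hBd⟩ := ⟨_, rfl⟩
    have hgv : g.1 = d⁻¹ • (A * B) := by rw [hg]
    have hgi : (g⁻¹ : SL2).1 = d⁻¹ • (B * A) := by
      have h1 : g * ⟨_, hdet B A hBd hAd⟩ = 1 := by
        apply Subtype.ext
        show g.1 * (d⁻¹ • (B * A)) = _
        rw [hgv, Matrix.smul_mul, Matrix.mul_smul, smul_smul,
          show A * B * (B * A) = A * (B * B) * A by noncomm_ring, Pl.sq_neg_det hB, hBd, Matrix.mul_smul,
          Matrix.mul_one, Matrix.smul_mul, Pl.sq_neg_det hA, hAd, smul_smul, smul_smul,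
          Matrix.SpecialLinearGroup.coe_one, show d⁻¹ * d⁻¹ * -d * -d = 1 by field_simp, one_smul]
      rw [inv_eq_of_mul_eq_one_right h1]
    have hact : ∀ X : M2, X.trace = 0 → ψ (g.1 * X * (g⁻¹ : SL2).1) = (rf Q (ψ A)).1 ((rf Q (ψ B)).1 (ψ X)) := by
      intro X hX
      rw [(hrf hB hBd hX).1, (hrf hA hAd (hrf hB hBd hX).2).1, hgv, hgi]
      simp only [Matrix.mul_smul, Matrix.smul_mul, smul_smul, Matrix.mul_assoc]
    refine ⟨g, ⟨rf Q (ψ A) * rf Q (ψ B), mul_mem hGA hGB, fun X hX => (hact X hX).symm⟩, hgv, ?_, hact⟩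
    rw [hgv, Matrix.trace_smul, smul_eq_mul]
    have h1 : 2 * (A * B).trace = 2 * (polar Q (ψ A) (ψ B) / e) := by
      have := congrArg Matrix.trace (hpolψ hA hB)
      rw [Matrix.trace_add, Matrix.trace_mul_comm B A, Matrix.trace_smul, Matrix.trace_one, Fintype.card_fin,
        smul_eq_mul] at this
      push_cast at this
      linear_combination this
    rw [mul_left_cancel₀ h2 h1, hd]
    field_simp
  obtain ⟨A₁, tA₁, eA₁⟩ := hsurj p₁ m₁
  obtain ⟨A₂, tA₂, eA₂⟩ := hsurj p₂ m₂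
  obtain ⟨A₃, tA₃, eA₃⟩ := hsurj p₃ m₃
  have hdetA : ∀ {A : M2}, A.trace = 0 → Q (ψ A) = c → A.det = d := fun {A} hA hq => by
    rw [hval _ hA] at hq
    rw [hd, eq_div_iff he]
    linear_combination -hq
  have dA₁ := hdetA tA₁ (eA₁ ▸ q₁)
  have dA₂ := hdetA tA₂ (eA₂ ▸ q₂)
  have dA₃ := hdetA tA₃ (eA₃ ▸ q₃)
  subst eA₁ eA₂ eA₃
  obtain ⟨g, hgK, hgv, hgt, hgact⟩ := hpair tA₁ tA₂ dA₁ dA₂ g₁ g₂
  -- independence
  have hind : ∀ x y z : F, x • ψ A₁ + y • ψ A₂ + z • ψ A₃ = 0 → x = 0 ∧ y = 0 ∧ z = 0 := by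
    have hli : LinearIndependent F ![ψ A₁, ψ A₂, ψ A₃] := by
      refine linearIndependent_iff_card_le_finrank_span.mpr ?_
      rw [Fintype.card_fin, Set.finrank]
      show 3 ≤ _
      rw [← h3]
      refine Submodule.finrank_mono (hspan.trans (le_of_eq ?_))
      congr 1
      ext v
      simp only [Set.mem_insert_iff, Set.mem_singleton_iff, Set.mem_range, Fin.exists_fin_succ, Matrix.cons_val_zero,
        Matrix.cons_val_succ, IsEmpty.exists_iff, or_false, eq_comm]
    intro x y z h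
    have := Fintype.linearIndependent_iff.mp hli ![x, y, z] (by simpa [Fin.sum_univ_three] using h)
    exact ⟨this 0, this 1, this 2⟩
  have hperp : ∀ z ∈ U, polar Q (ψ A₁) z = 0 → polar Q (ψ A₂) z = 0 → polar Q (ψ A₃) z = 0 → z = 0 := by
    intro z hz a1 a2 a3
    refine congrArg Subtype.val (hU ⟨z, hz⟩ fun x => ?_)
    show polar Q z x.1 = 0
    refine Submodule.span_induction ?_ ?_ ?_ ?_ (hspan x.2)
    · intro y hy
      simp only [Set.mem_insert_iff, Set.mem_singleton_iff] at hy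
      rcases hy with rfl | rfl | rfl <;> rw [polar_comm] <;> assumption
    · exact polar_zero_right _ _
    · intro _ _ _ _ h h'; rw [polar_add_right, h, h', add_zero]
    · intro _ _ _ h; rw [polar_smul_right, h, smul_zero]
  have hsc : ¬ IsSc g.1 := by
    rintro ⟨r, hr⟩
    rw [hgv] at hr
    have h1 := congrArg (fun X : M2 => A₁ * X) hr
    simp only [Matrix.mul_smul, ← Matrix.mul_assoc, Pl.sq_neg_det tA₁, dA₁, Matrix.smul_mul, Matrix.one_mul,
      Matrix.mul_one, smul_smul] at h1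
    have h4 : (d⁻¹ * -d) • ψ A₂ = r • ψ A₁ := by rw [← map_smul, ← map_smul, h1]
    have := (hind (-r) (d⁻¹ * -d) 0 (by rw [h4]; simp)).2.1
    rw [mul_neg, inv_mul_cancel₀ hd0, neg_eq_zero] at this
    exact one_ne_zero this
  have ht2 : g.1.trace ^ 2 = 4 * a := by
    rw [hgt, div_pow, neg_sq, h12]; field_simp
  have ht0 : g.1.trace ≠ 0 := fun h => ha.1 (by
    rw [h] at ht2
    exact (mul_eq_zero.mp (by linear_combination -ht2 : (4 : F) * a = 0)).resolve_left
      (by rw [show (4 : F) = 2 * 2 by norm_num]; exact mul_ne_zero h2 h2))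
  have hgood : g.1.trace ^ 2 = 4 ∨
      (g.1.trace ^ 2 ≠ 1 ∧ g.1.trace ^ 2 ≠ 2 ∧ g.1.trace ^ 4 - 3 * g.1.trace ^ 2 + 1 ≠ 0) := by
    rw [show g.1.trace ^ 4 = (g.1.trace ^ 2) ^ 2 by ring, ht2]
    rcases ha.2 with rfl | ⟨b1, b2, b3⟩
    · left; ring
    · exact Or.inr ⟨b1, fun h => b2 (mul_left_cancel₀ h2 (by linear_combination h)),
        fun h => b3 (by linear_combination h)⟩
  have htop : K = ⊤ := by
    refine Pl.eq_top_of hpF h5F hZ hgK hsc ht0 hgood ?_ ?_
    · intro hall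
      obtain ⟨Z, hZd⟩ : ∃ Z : M2, Z = g.1 - (g.1.trace / 2) • (1 : M2) := ⟨_, rfl⟩
      have hZt : Z.trace = 0 := by
        rw [hZd, Matrix.trace_sub, Matrix.trace_smul, Matrix.trace_one, Fintype.card_fin, smul_eq_mul]
        field_simp
        ring
      obtain ⟨k, hkK, -, -, hk⟩ := hpair tA₃ tA₁ dA₃ dA₁ g₃ g₁
      have hgv' : g.1.trace = -(polar Q (ψ A₁) (ψ A₂)) / c := hgt
      have hZ1 : polar Q (ψ A₁) (ψ Z) = 0 ∧ polar Q (ψ A₂) (ψ Z) = 0 := by
        have hs : ∀ {A : M2}, A.trace = 0 → A * Z + Z * A = 0 → polar Q (ψ A) (ψ Z) = 0 := by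
          intro A hA h0
          rw [hpolψ hA hZt] at h0
          have := congrFun (congrFun h0 0) 0
          simpa [he] using this
        have hsum : A₁ * A₂ + A₂ * A₁ = (polar Q (ψ A₁) (ψ A₂) / e) • (1 : M2) := hpolψ tA₁ tA₂
        have hk2 : g.1.trace * d = polar Q (ψ A₁) (ψ A₂) / e := by rw [hgt, hd]; field_simp
        constructor <;> refine hs ‹_› ?_ <;> rw [hZd, hgv] <;>
          simp only [Matrix.mul_sub, Matrix.sub_mul, Matrix.mul_smul, Matrix.smul_mul, Matrix.mul_one, Matrix.one_mul]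
        · rw [← hgv, show A₁ * (A₁ * A₂) = -d • A₂ by rw [← Matrix.mul_assoc, Pl.sq_neg_det tA₁, dA₁, Matrix.smul_mul, Matrix.one_mul],
            show A₁ * A₂ * A₁ = (polar Q (ψ A₁) (ψ A₂) / e) • A₁ + d • A₂ by
              calc A₁ * A₂ * A₁ = A₁ * (A₁ * A₂ + A₂ * A₁) - (A₁ * A₁) * A₂ := by noncomm_ring
                _ = _ := by rw [hsum, Pl.sq_neg_det tA₁, dA₁, Matrix.mul_smul, Matrix.mul_one, Matrix.smul_mul,
                              Matrix.one_mul, neg_smul, sub_neg_eq_add], ← hk2]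
          match_scalars <;> field_simp <;> ring
        · rw [← hgv, show A₁ * A₂ * A₂ = -d • A₁ by rw [Matrix.mul_assoc, Pl.sq_neg_det tA₂, dA₂, Matrix.mul_smul, Matrix.mul_one],
            show A₂ * (A₁ * A₂) = (polar Q (ψ A₁) (ψ A₂) / e) • A₂ + d • A₁ by
              calc A₂ * (A₁ * A₂) = (A₁ * A₂ + A₂ * A₁) * A₂ - A₁ * (A₂ * A₂) := by noncomm_ring
                _ = _ := by rw [hsum, Pl.sq_neg_det tA₂, dA₂, Matrix.mul_smul, Matrix.mul_one, Matrix.smul_mul,
                              Matrix.one_mul, neg_smul, sub_neg_eq_add], ← hk2]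
          match_scalars <;> field_simp <;> ring
      obtain ⟨s, hs⟩ : ∃ s : F, k.1 * Z * (k⁻¹ : SL2).1 = s • Z := by
        have hcomp : ∀ w : SL2, k * g * k⁻¹ = w →
            k.1 * Z * (k⁻¹ : SL2).1 = w.1 - (g.1.trace / 2) • (1 : M2) := fun w hw => by
          rw [hZd, Matrix.mul_sub, Matrix.sub_mul, Matrix.mul_smul, Matrix.smul_mul, Matrix.mul_one,
            ← Cfsg.Agent.Small.PSL2.val_mul, ← Cfsg.Agent.Small.PSL2.val_mul, ← Cfsg.Agent.Small.PSL2.val_mul,
            hw, mul_inv_cancel, Matrix.SpecialLinearGroup.coe_one]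
        rcases hall k hkK with h | h
        · exact ⟨1, by rw [hcomp g h, hZd, one_smul]⟩
        · refine ⟨-1, ?_⟩
          rw [hcomp _ h, hZd, Pl.inv_val]
          match_scalars <;> field_simp <;> ring
      have h31 := hk Z hZt
      rw [hs, map_smul] at h31
      have hfix : (rf Q (ψ A₁)).1 (ψ Z) = ψ Z := refl_fix hZ1.1
      rw [hfix] at h31
      change s • ψ Z = refl Q (ψ A₃) (ψ Z) at h31
      rw [refl_apply] at h31
      obtain ⟨q, hq⟩ : ∃ q, q = (Q (ψ A₃))⁻¹ * polar Q (ψ A₃) (ψ Z) := ⟨_, rfl⟩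
      rw [← hq] at h31
      by_cases hq0 : q = 0
      · have h3' : polar Q (ψ A₃) (ψ Z) = 0 :=
          (mul_eq_zero.mp (hq.symm.trans hq0)).resolve_left (inv_ne_zero (q₃.symm ▸ hc))
        refine hsc ⟨g.1.trace / 2, ?_⟩
        have := hinj Z hZt (hperp _ (hψU _) hZ1.1 hZ1.2 h3')
        rwa [hZd, sub_eq_zero] at this
      · have h4 : q • ψ A₃ = (1 - s) • ψ Z := by rw [sub_smul, one_smul, h31]; abel
        have e1 : q * polar Q (ψ A₁) (ψ A₃) = 0 := by
          rw [← smul_eq_mul, ← polar_smul_right, h4, polar_smul_right, hZ1.1, smul_zero]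
        have e2 : q * polar Q (ψ A₂) (ψ A₃) = 0 := by
          rw [← smul_eq_mul, ← polar_smul_right, h4, polar_smul_right, hZ1.2, smul_zero]
        rcases hlink with h | h <;> apply h <;> rw [polar_comm]
        · exact (mul_eq_zero.mp e1).resolve_left hq0
        · exact (mul_eq_zero.mp e2).resolve_left hq0
    · rintro ⟨N, hN0, hNt, hNd, hN⟩
      have hz0 : ψ N ≠ 0 := fun h => hN0 (hinj N hNt h)
      have hQz : Q (ψ N) = 0 := by rw [hval _ hNt, hNd, mul_zero]
      have step : ∀ {A B : M2}, A.trace = 0 → B.trace = 0 → A.det = d → B.det = d → rf Q (ψ A) ∈ G → rf Q (ψ B) ∈ G →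
          (∀ x y : F, x • ψ A + y • ψ B = 0 → x = 0 ∧ y = 0) →
          (polar Q (ψ A) (ψ N) = 0 ∧ polar Q (ψ B) (ψ N) = 0) ∨ ∃ x y : F, ψ N = x • ψ A + y • ψ B := by
        intro A B hA hB hAd hBd hGA hGB hAB
        obtain ⟨k, hk, -, -, hka⟩ := hpair hA hB hAd hBd hGA hGB
        obtain ⟨r, hr⟩ := hN k hk
        have h1 := hka N hNt
        rw [hr, map_smul] at h1
        have hQA : Q (ψ A) ≠ 0 := by rw [hval _ hA, hAd]; exact mul_ne_zero (neg_ne_zero.mpr he) hd0
        have hQB : Q (ψ B) ≠ 0 := by rw [hval _ hB, hBd]; exact mul_ne_zero (neg_ne_zero.mpr he) hd0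
        have h2' := congrArg (refl Q (ψ A)) h1
        change refl Q (ψ A) (r • ψ N) = refl Q (ψ A) (refl Q (ψ A) (refl Q (ψ B) (ψ N))) at h2'
        rw [show ∀ y, refl Q (ψ A) (refl Q (ψ A) y) = y from fun y => LinearEquiv.congr_fun (refl_mul_self (Q := Q) (ψ A)) y,
          map_smul, refl_apply, refl_apply] at h2'
        obtain ⟨α, hα⟩ : ∃ α, α = (Q (ψ A))⁻¹ * polar Q (ψ A) (ψ N) := ⟨_, rfl⟩
        obtain ⟨β, hβ⟩ : ∃ β, β = (Q (ψ B))⁻¹ * polar Q (ψ B) (ψ N) := ⟨_, rfl⟩
        rw [← hα, ← hβ] at h2'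
        by_cases hr1 : r = 1
        · left
          rw [hr1, one_smul] at h2'
          have h5' : α • ψ A = β • ψ B := sub_right_inj.mp h2'
          obtain ⟨a0, b0⟩ := hAB α (-β) (by rw [neg_smul, h5', add_neg_cancel])
          have this : α = 0 ∧ β = 0 := ⟨a0, neg_eq_zero.mp b0⟩
          exact ⟨(mul_eq_zero.mp (hα.symm.trans this.1)).resolve_left (inv_ne_zero hQA),
            (mul_eq_zero.mp (hβ.symm.trans this.2)).resolve_left (inv_ne_zero hQB)⟩
        · right
          have h6 : (r - 1) • ψ N = (r * α) • ψ A + (-β) • ψ B := by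
            rw [smul_sub, smul_smul] at h2'
            rw [sub_smul, one_smul, neg_smul, sub_eq_add_neg, ← sub_eq_add_neg]
            linear_combination (norm := module) h2'
          refine ⟨(r - 1)⁻¹ * (r * α), (r - 1)⁻¹ * (-β), ?_⟩
          rw [mul_smul (r - 1)⁻¹ (r * α), mul_smul (r - 1)⁻¹ (-β), ← smul_add, ← h6, smul_smul,
            inv_mul_cancel₀ (sub_ne_zero.mpr hr1), one_smul]
      have hline : ∀ (x : F) (A : M2), A.trace = 0 → A.det = d → ψ N = x • ψ A → False := by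
        intro x A hA hAd h
        rw [h, QuadraticMap.map_smul, smul_eq_mul, hval _ hA, hAd] at hQz
        have : x = 0 := mul_self_eq_zero.mp ((mul_eq_zero.mp hQz).resolve_right (mul_ne_zero (neg_ne_zero.mpr he) hd0))
        exact hz0 (by rw [h, this, zero_smul])
      have hI12 : ∀ x y : F, x • ψ A₁ + y • ψ A₂ = 0 → x = 0 ∧ y = 0 := fun x y h =>
        let t := hind x y 0 (by rw [zero_smul, add_zero, h]); ⟨t.1, t.2.1⟩
      have hI31 : ∀ x y : F, x • ψ A₃ + y • ψ A₁ = 0 → x = 0 ∧ y = 0 := fun x y h =>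
        let t := hind y 0 x (by rw [zero_smul, add_zero, add_comm, h]); ⟨t.2.2, t.1⟩
      have hI32 : ∀ x y : F, x • ψ A₃ + y • ψ A₂ = 0 → x = 0 ∧ y = 0 := fun x y h =>
        let t := hind 0 y x (by rw [zero_smul, zero_add, add_comm, h]); ⟨t.2.2, t.2.1⟩
      rcases step tA₁ tA₂ dA₁ dA₂ g₁ g₂ hI12 with ⟨a1, a2⟩ | ⟨x, y, hxy⟩ <;>
        rcases step tA₃ tA₁ dA₃ dA₁ g₃ g₁ hI31 with ⟨b3, b1⟩ | ⟨x', y', hxy'⟩
      · exact hz0 (hperp _ (hψU _) a1 a2 b3)
      · rcases step tA₃ tA₂ dA₃ dA₂ g₃ g₂ hI32 with ⟨c3, -⟩ | ⟨x'', y'', hxy''⟩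
        · exact hz0 (hperp _ (hψU _) a1 a2 c3)
        · rw [hxy'] at hxy''
          have := hind y' (-y'') (x' - x'') (by linear_combination (norm := module) hxy'')
          rw [this.1, zero_smul, add_zero] at hxy'
          exact hline x' A₃ tA₃ dA₃ hxy'
      · rcases step tA₃ tA₂ dA₃ dA₂ g₃ g₂ hI32 with ⟨-, c2⟩ | ⟨x'', y'', hxy''⟩
        · exact hz0 (hperp _ (hψU _) b1 c2 b3)
        · rw [hxy] at hxy''
          have := hind x (y - y'') (-x'') (by linear_combination (norm := module) hxy'')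
          rw [this.1, zero_smul, zero_add] at hxy
          exact hline y A₂ tA₂ dA₂ hxy
      · have h' := hxy
        rw [hxy'] at h'
        have := hind (y' - x) (-y) x' (by linear_combination (norm := module) h')
        rw [this.2.2, zero_smul, zero_add] at hxy'
        exact hline y' A₁ tA₁ dA₁ hxy'
  intro v hv hvc
  obtain ⟨B, tB, eB⟩ := hsurj v hv
  subst eB
  obtain ⟨s, hs⟩ := Pl.exists_conj_trace_zero h2 tA₁ tB (dA₁ ▸ hd0) ((hdetA tB hvc).trans dA₁.symm)
  obtain ⟨h, hh, hact⟩ : s ∈ K := by rw [htop]; trivial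
  have := rf_conj_mem hh g₁
  rwa [hact A₁ tA₁, hs] at this

end Cfsg.Agent.Classical.MFrame
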