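import Cfsg.Agent.Lib.Classical.MonomFrame.Grow
import Cfsg.Agent.Lib.Classical.MonomFrame.Plane

/-!
# A short non-monomial unit vector gives all reflections
-/

set_option autoImplicit false
set_option linter.unusedSectionVars false

namespace Cfsg.Agent.Classical.MFrame

open Module QuadraticMap OCount ORefl OOmega

variable {F : Type*} [Field F] [Finite F] {V : Type*} [AddCommGroup V] [Module F V] [FiniteDimensional F V]
variable {Q : QuadraticForm F V} {n : ℕ} (B : Frame Q n)

/-- A root: two places with equal squares. -/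
def Frame.IsRoot (u : V) : Prop := ∃ i j, i ≠ j ∧ B.supp u = {i, j} ∧ B.co u i ^ 2 = B.co u j ^ 2

theorem Frame.sum_sq (u : V) (hu : Q u = B.c) : ∑ i ∈ B.supp u, B.co u i ^ 2 = 1 := by
  have h := B.val_eq u
  rw [hu, ← B.sum_supp u (fun _ x => x ^ 2) (fun _ => by ring)] at h
  exact mul_left_cancel₀ B.c_ne (by rw [mul_one]; exact h.symm)

theorem small_ne_zero (hp : (Nat.card F).Prime) (h5 : 5 ≤ Nat.card F) (k : ℕ) (h1 : 1 ≤ k) (hk : k < 5) :
    (k : F) ≠ 0 := by
  haveI := Fintype.ofFinite F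
  intro h0
  obtain ⟨q, hq⟩ := CharP.exists F
  haveI := hq
  have hqp : q.Prime := (CharP.char_is_prime_or_zero F q).resolve_right (CharP.char_ne_zero_of_finite F q)
  obtain ⟨m, -, hm⟩ := FiniteField.card F q
  rw [Nat.card_eq_fintype_card] at hp h5
  have hqF : q = Fintype.card F :=
    (Nat.prime_dvd_prime_iff_eq hqp hp).mp (by rw [hm]; exact dvd_pow_self q (by simp))
  have := Nat.le_of_dvd (by omega) ((CharP.cast_eq_zero_iff F q k).mp h0)
  omega

section Big

variable {G : Subgroup ↥(Iso Q)} (hsg : ∀ i, B.sg i ∈ G) (hG : HasAlt B G) (hp : (Nat.card F).Prime)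
variable (h5 : 5 ≤ Nat.card F) (hn : 5 ≤ n)
include hsg hG hp h5 hn

theorem finish_of_set {S : Finset (Fin n)} (hS : 3 ≤ S.card) (h : Sph G B.c (B.sub S)) : Sph G B.c ⊤ := by
  obtain ⟨S₀, hS₀, hc⟩ := Finset.exists_subset_card_eq hS
  exact grow_all B hG h5 (by exact_mod_cast small_ne_zero hp h5 3 (by norm_num) (by norm_num)) hn hc
    fun v hv hvc => h v (fun i hi => hv i fun hi' => hi (hS₀ hi')) hvc

/-- A coordinate of square one. -/
theorem configA {u : V} (hu : Q u = B.c) (hGu : rf Q u ∈ G) (h2 : 2 ≤ (B.supp u).card)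
    (h7 : (B.supp u).card ≤ 7) {i : Fin n} (hi : B.co u i ^ 2 = 1) : Sph G B.c ⊤ := by
  classical
  have hi' : i ∈ B.supp u := B.mem_supp.mpr fun h => by simp [h] at hi
  obtain ⟨j, hj, hji⟩ := Finset.exists_mem_ne (s := B.supp u) (by omega) i
  obtain ⟨r, hr⟩ : ∃ r, r = u - B.co u i • B.bas i - B.co u j • B.bas j := ⟨_, rfl⟩
  have hrs : B.supp r = B.supp u \ {i, j} := by
    ext x
    rw [B.mem_supp, hr, B.co_sub, B.co_sub, B.co_smul, B.co_smul, B.co_bas, B.co_bas, Finset.mem_sdiff, B.mem_supp,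
      Finset.mem_insert, Finset.mem_singleton]
    by_cases hxi : i = x
    · subst hxi; simp [hji]
    · by_cases hxj : j = x
      · subst hxj; simp [hxi]
      · simp [hxi, hxj, Ne.symm hxi, Ne.symm hxj]
  obtain ⟨hW, hWd⟩ := B.ndOn_sub {i, j}
  rw [Finset.card_pair (Ne.symm hji)] at hWd
  have hwr : ∀ w ∈ B.sub {i, j}, polar Q r w = 0 := fun w hw => B.polar_zero_of_disjoint fun x => by
    by_cases hx : x ∈ ({i, j} : Finset (Fin n))
    · left; rw [← B.notMem_supp, hrs]; simp [hx]
    · exact Or.inr (hw x hx)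
  have hQr : Q r ≠ 0 := by
    have e : Q u = B.c * B.co u i ^ 2 + B.c * B.co u j ^ 2 + Q r := by
      have hu' : u = (B.co u i • B.bas i + B.co u j • B.bas j) + r := by rw [hr]; abel
      conv_lhs => rw [hu']
      rw [map_two, polar_comm, hwr _ (add_mem (Submodule.smul_mem _ _ (B.bas_mem_sub (by simp)))
        (Submodule.smul_mem _ _ (B.bas_mem_sub (by simp)))), map_two, QuadraticMap.map_smul, QuadraticMap.map_smul,
        polar_smul_left, polar_smul_right, B.orth i j (Ne.symm hji), B.val, B.val]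
      simp only [smul_eq_mul]
      ring
    intro h0
    rw [hu, h0, hi, mul_one, add_zero] at e
    have : B.c * B.co u j ^ 2 = 0 := by linear_combination -e
    exact mul_ne_zero B.c_ne (pow_ne_zero _ (B.mem_supp.mp hj)) this
  obtain ⟨hU, hUd⟩ := ndOn_sup_span B.two hW hwr hQr
  have hbi : B.bas i ∈ B.sub {i, j} ⊔ Submodule.span F {r} := Submodule.mem_sup_left (B.bas_mem_sub (by simp))
  have hbj : B.bas j ∈ B.sub {i, j} ⊔ Submodule.span F {r} := Submodule.mem_sup_left (B.bas_mem_sub (by simp))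
  have hur : u = r + (B.co u i • B.bas i + B.co u j • B.bas j) := by rw [hr]; abel
  have hu' : u ∈ B.sub {i, j} ⊔ Submodule.span F {r} := by
    rw [hur]
    exact add_mem (Submodule.mem_sup_right (Submodule.mem_span_singleton_self r))
      (add_mem (Submodule.smul_mem _ _ hbi) (Submodule.smul_mem _ _ hbj))
  have hspan : B.sub {i, j} ⊔ Submodule.span F {r} ≤ Submodule.span F ({B.bas i, u, B.bas j} : Set V) := by
    have mi : B.bas i ∈ Submodule.span F ({B.bas i, u, B.bas j} : Set V) := Submodule.subset_span (by simp)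
    have mj : B.bas j ∈ Submodule.span F ({B.bas i, u, B.bas j} : Set V) := Submodule.subset_span (by simp)
    have mu : u ∈ Submodule.span F ({B.bas i, u, B.bas j} : Set V) := Submodule.subset_span (by simp)
    refine sup_le (fun x hx => ?_) ((Submodule.span_singleton_le_iff_mem _ _).mpr ?_)
    · rw [← B.sum_co x]
      refine sum_mem fun k _ => ?_
      by_cases hk : k ∈ ({i, j} : Finset (Fin n))
      · simp only [Finset.mem_insert, Finset.mem_singleton] at hk
        rcases hk with rfl | rfl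
        · exact Submodule.smul_mem _ _ mi
        · exact Submodule.smul_mem _ _ mj
      · rw [hx k hk, zero_smul]; exact zero_mem _
    · rw [hr]
      exact sub_mem (sub_mem mu (Submodule.smul_mem _ _ mi)) (Submodule.smul_mem _ _ mj)
  have hS := plane_sph hp h5 B.two B.c_ne hU (by omega) hbi hu' hbj (B.val i) hu (B.val j) (hsg i) hGu (hsg j)
    hspan (Or.inr (by rw [B.polar_bas]; exact mul_ne_zero (mul_ne_zero B.two B.c_ne) (B.mem_supp.mp hj)))
    (a := 1) ⟨one_ne_zero, Or.inl rfl⟩ (by rw [B.polar_bas]; linear_combination 4 * B.c ^ 2 * hi)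
  have hT : (B.supp u \ {i, j}).card ≤ 5 := by
    rw [Finset.card_sdiff_of_subset (by simp [Finset.insert_subset_iff, hi', hj]), Finset.card_pair (Ne.symm hji)]
    omega
  have hgrown := grow_block B hsg h5 (fun k h1 h4 => small_ne_zero hp h5 k h1 (by omega)) _ _ (B.sub {i, j}) r rfl hT hrs
    (fun w hw x hx => hw x (Finset.mem_sdiff.mp hx).2) hW (le_of_eq hWd.symm) hQr hS
  have hsub : B.sub (B.supp u) ≤ B.sub {i, j} ⊔ B.sub (B.supp u \ {i, j}) := fun x hx => by
    rw [← B.sum_co x]
    refine sum_mem fun k _ => ?_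
    by_cases hk : k ∈ ({i, j} : Finset (Fin n))
    · exact Submodule.smul_mem _ _ (Submodule.mem_sup_left (B.bas_mem_sub hk))
    · by_cases hk' : k ∈ B.supp u
      · exact Submodule.smul_mem _ _ (Submodule.mem_sup_right (B.bas_mem_sub (Finset.mem_sdiff.mpr ⟨hk', hk⟩)))
      · rw [hx k hk', zero_smul]; exact zero_mem _
  refine finish_of_set B hsg hG hp h5 hn (S := B.supp u) ?_ fun v hv hvc => hgrown v (hsub hv) hvc
  by_contra hlt
  have he : B.supp u = {i, j} := (Finset.eq_of_subset_of_card_le (by simp [Finset.insert_subset_iff, hi', hj])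
    (by rw [Finset.card_pair (Ne.symm hji)]; omega)).symm
  refine hQr ?_
  have : r = 0 := B.ext_co fun x => by
    rw [B.co_zero, ← B.notMem_supp, hrs, he, Finset.sdiff_self]
    exact Finset.notMem_empty x
  rw [this, QuadraticMap.map_zero]

/-- Two vectors meeting in one place. -/
theorem configB {u w : V} (hu : Q u = B.c) (hw : Q w = B.c) (hGu : rf Q u ∈ G) (hGw : rf Q w ∈ G)
    (hu4 : (B.supp u).card ≤ 4) (hw4 : (B.supp w).card ≤ 4) {k : Fin n} (hk : B.supp u ∩ B.supp w = {k})
    (hu1 : B.co u k ^ 2 ≠ 1) (hw1 : B.co w k ^ 2 ≠ 1)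
    (hgood : Good (B.co u k ^ 2) ∨ Good (B.co u k ^ 2 * B.co w k ^ 2)) : Sph G B.c ⊤ := by
  classical
  have hk' : k ∈ B.supp u ∧ k ∈ B.supp w := Finset.mem_inter.mp (hk ▸ Finset.mem_singleton_self k)
  have hbk : B.bas k ∈ B.sub {k} := B.bas_mem_sub (Finset.mem_singleton_self k)
  have key : ∀ x : V, Q x = B.c → B.co x k ^ 2 ≠ 1 →
      B.supp (x - B.co x k • B.bas k) = (B.supp x).erase k ∧ Q (x - B.co x k • B.bas k) ≠ 0 := by
    intro x hx hx1
    refine ⟨?_, ?_⟩
    · ext i
      rw [B.mem_supp, B.co_sub, B.co_smul, B.co_bas, Finset.mem_erase, B.mem_supp]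
      by_cases h : k = i
      · subst h; simp
      · simp [h, Ne.symm h]
    · rw [map_sub_two, QuadraticMap.map_smul, polar_smul_right, polar_comm, B.polar_bas, B.val, hx]
      intro h0
      simp only [smul_eq_mul] at h0
      exact hx1 (mul_left_cancel₀ B.c_ne (by linear_combination -h0))
  obtain ⟨hru, hQru⟩ := key u hu hu1
  obtain ⟨hrw, hQrw⟩ := key w hw hw1
  obtain ⟨r, hr⟩ : ∃ r, r = u - B.co u k • B.bas k := ⟨_, rfl⟩
  obtain ⟨s, hs⟩ : ∃ s, s = w - B.co w k • B.bas k := ⟨_, rfl⟩
  rw [← hr] at hru hQru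
  rw [← hs] at hrw hQrw
  have hrk : B.co r k = 0 := B.notMem_supp.mp (by rw [hru]; exact Finset.notMem_erase k _)
  have hsk : B.co s k = 0 := B.notMem_supp.mp (by rw [hrw]; exact Finset.notMem_erase k _)
  have hdis : ∀ i, i ∈ (B.supp u).erase k → i ∉ (B.supp w).erase k := fun i hi hi' => by
    have : i ∈ ({k} : Finset (Fin n)) := hk ▸ Finset.mem_inter.mpr ⟨(Finset.mem_erase.mp hi).2, (Finset.mem_erase.mp hi').2⟩
    exact (Finset.mem_erase.mp hi).1 (Finset.mem_singleton.mp this)
  have hrs : polar Q r s = 0 := B.polar_zero_of_disjoint fun i => by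
    by_cases hi : i ∈ (B.supp u).erase k
    · exact Or.inr (B.notMem_supp.mp (hrw ▸ hdis i hi))
    · exact Or.inl (B.notMem_supp.mp (hru ▸ hi))
  have hperp : ∀ {x : V}, B.co x k = 0 → ∀ z ∈ B.sub {k}, polar Q x z = 0 := fun {x} hx z hz =>
    B.polar_zero_of_disjoint fun i => by
      by_cases hi : i = k
      · exact Or.inl (hi ▸ hx)
      · exact Or.inr (hz i (by simp [hi]))
  obtain ⟨hK, hKd⟩ := B.ndOn_sub {k}
  rw [Finset.card_singleton] at hKd
  obtain ⟨hW, hWd⟩ := ndOn_sup_span B.two hK (hperp hsk) hQrw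
  have hrW : ∀ z ∈ B.sub {k} ⊔ Submodule.span F {s}, polar Q r z = 0 := fun z hz => by
    obtain ⟨a, ha, b, hb, rfl⟩ := Submodule.mem_sup.mp hz
    obtain ⟨t, rfl⟩ := Submodule.mem_span_singleton.mp hb
    rw [polar_add_right, hperp hrk a ha, polar_smul_right, hrs, smul_zero, add_zero]
  obtain ⟨hU, hUd⟩ := ndOn_sup_span B.two hW hrW hQru
  have mk : B.bas k ∈ B.sub {k} ⊔ Submodule.span F {s} ⊔ Submodule.span F {r} :=
    Submodule.mem_sup_left (Submodule.mem_sup_left hbk)
  have mu : u ∈ B.sub {k} ⊔ Submodule.span F {s} ⊔ Submodule.span F {r} := by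
    rw [show u = r + B.co u k • B.bas k by rw [hr]; abel]
    exact add_mem (Submodule.mem_sup_right (Submodule.mem_span_singleton_self r)) (Submodule.smul_mem _ _ mk)
  have mw : w ∈ B.sub {k} ⊔ Submodule.span F {s} ⊔ Submodule.span F {r} := by
    rw [show w = s + B.co w k • B.bas k by rw [hs]; abel]
    exact add_mem (Submodule.mem_sup_left (Submodule.mem_sup_right (Submodule.mem_span_singleton_self s)))
      (Submodule.smul_mem _ _ mk)
  have hspan : ∀ A : Set V, A = {B.bas k, u, w} →
      B.sub {k} ⊔ Submodule.span F {s} ⊔ Submodule.span F {r} ≤ Submodule.span F A := by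
    rintro A rfl
    have h1 : B.bas k ∈ Submodule.span F ({B.bas k, u, w} : Set V) := Submodule.subset_span (by simp)
    refine sup_le (sup_le ?_ ((Submodule.span_singleton_le_iff_mem _ _).mpr ?_))
      ((Submodule.span_singleton_le_iff_mem _ _).mpr ?_)
    · intro x hx
      rw [← B.sum_co x]
      refine sum_mem fun i _ => ?_
      by_cases hi : i = k
      · subst hi; exact Submodule.smul_mem _ _ h1
      · rw [hx i (by simp [hi]), zero_smul]; exact zero_mem _
    · rw [hs]; exact sub_mem (Submodule.subset_span (by simp)) (Submodule.smul_mem _ _ h1)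
    · rw [hr]; exact sub_mem (Submodule.subset_span (by simp)) (Submodule.smul_mem _ _ h1)
  have hpu : polar Q (B.bas k) u = 2 * B.c * B.co u k := B.polar_bas k u
  have hpw : polar Q (B.bas k) w = 2 * B.c * B.co w k := B.polar_bas k w
  have h2c : 2 * B.c ≠ 0 := mul_ne_zero B.two B.c_ne
  have hS : Sph G B.c (B.sub {k} ⊔ Submodule.span F {s} ⊔ Submodule.span F {r}) := by
    rcases hgood with hg | hg
    · exact plane_sph hp h5 B.two B.c_ne hU (by omega) mk mu mw (B.val k) hu hw (hsg k) hGu hGw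
        (hspan _ rfl) (Or.inl (by rw [polar_comm, hpw]; exact mul_ne_zero h2c (B.mem_supp.mp hk'.2))) hg
        (by rw [hpu]; ring)
    · refine plane_sph hp h5 B.two B.c_ne hU (by omega) mu mw mk hu hw (B.val k) hGu hGw (hsg k)
        (hspan _ (by ext x; simp; tauto)) (Or.inl (by rw [hpu]; exact mul_ne_zero h2c (B.mem_supp.mp hk'.1))) hg ?_
      have e : polar Q u w = 2 * B.c * (B.co u k * B.co w k) := by
        rw [B.polar_eq, Finset.sum_eq_single k]
        · intro i _ hi
          by_contra hne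
          have : i ∈ ({k} : Finset (Fin n)) := hk ▸ Finset.mem_inter.mpr
            ⟨B.mem_supp.mpr (left_ne_zero_of_mul hne), B.mem_supp.mpr (right_ne_zero_of_mul hne)⟩
          exact hi (Finset.mem_singleton.mp this)
        · exact fun h => absurd (Finset.mem_univ k) h
      rw [e]; ring
  have hcast : ∀ m : ℕ, 1 ≤ m → m ≤ 4 → (m : F) ≠ 0 := fun m h1 h4 => small_ne_zero hp h5 m h1 (by omega)
  have h1 := grow_block B hsg h5 hcast _ _ (B.sub {k} ⊔ Submodule.span F {s}) r rfl (by rw [Finset.card_erase_of_mem hk'.1]; omega) hru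
    (fun z hz i hi => by
      obtain ⟨a, ha, b, hb, rfl⟩ := Submodule.mem_sup.mp hz
      obtain ⟨t, rfl⟩ := Submodule.mem_span_singleton.mp hb
      rw [B.co_add, B.co_smul, ha i (by simp [(Finset.mem_erase.mp hi).1]), B.notMem_supp.mp (hrw ▸ hdis i hi),
        mul_zero, add_zero]) hW (by omega) hQru hS
  -- the second block
  have hru_sub : B.sub (B.supp u) ≤ B.sub {k} ⊔ B.sub ((B.supp u).erase k) := fun x hx => by
    rw [← B.sum_co x]
    refine sum_mem fun i _ => ?_
    by_cases hi : i = k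
    · subst hi; exact Submodule.smul_mem _ _ (Submodule.mem_sup_left hbk)
    · by_cases hi' : i ∈ B.supp u
      · exact Submodule.smul_mem _ _ (Submodule.mem_sup_right (B.bas_mem_sub (Finset.mem_erase.mpr ⟨hi, hi'⟩)))
      · rw [hx i hi', zero_smul]; exact zero_mem _
  have hS2 : Sph G B.c (B.sub (B.supp u) ⊔ Submodule.span F {s}) := fun v hv hvc => h1 v
    (sup_le (hru_sub.trans (sup_le (le_sup_of_le_left le_sup_left) le_sup_right)) (le_sup_of_le_left le_sup_right) hv) hvc
  have hr0 : ((B.supp u).erase k).Nonempty := by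
    by_contra h
    refine hQru ?_
    have : r = 0 := B.ext_co fun i => by
      rw [B.co_zero, ← B.notMem_supp, hru, Finset.not_nonempty_iff_eq_empty.mp h]
      exact Finset.notMem_empty i
    rw [this, QuadraticMap.map_zero]
  obtain ⟨hD, hDd⟩ := B.ndOn_sub (B.supp u)
  have hu2 : 2 ≤ (B.supp u).card := by
    have := Finset.card_pos.mpr hr0
    rw [Finset.card_erase_of_mem hk'.1] at this
    omega
  have h2' := grow_block B hsg h5 hcast _ _ (B.sub (B.supp u)) s rfl (by rw [Finset.card_erase_of_mem hk'.2]; omega) hrw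
    (fun z hz i hi => hz i fun hiu => hdis i (Finset.mem_erase.mpr ⟨(Finset.mem_erase.mp hi).1, hiu⟩) hi)
    hD (by omega) hQrw hS2
  refine finish_of_set B hsg hG hp h5 hn (S := B.supp u ∪ (B.supp w).erase k) ?_ fun v hv hvc => h2' v ?_ hvc
  · rw [Finset.card_union_of_disjoint (Finset.disjoint_left.mpr fun i hi hi' =>
      hdis i (Finset.mem_erase.mpr ⟨(Finset.mem_erase.mp hi').1, hi⟩) hi')]
    have : ((B.supp w).erase k).Nonempty := by
      by_contra h
      refine hQrw ?_
      have : s = 0 := B.ext_co fun i => by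
        rw [B.co_zero, ← B.notMem_supp, hrw, Finset.not_nonempty_iff_eq_empty.mp h]
        exact Finset.notMem_empty i
      rw [this, QuadraticMap.map_zero]
    have := Finset.card_pos.mpr this
    omega
  · rw [← B.sum_co v]
    refine sum_mem fun i _ => ?_
    by_cases hi : i ∈ B.supp u
    · exact Submodule.smul_mem _ _ (Submodule.mem_sup_left (B.bas_mem_sub hi))
    · by_cases hi' : i ∈ (B.supp w).erase k
      · exact Submodule.smul_mem _ _ (Submodule.mem_sup_right (B.bas_mem_sub hi'))
      · rw [hv i (by simp only [Finset.mem_union]; tauto), zero_smul]; exact zero_mem _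

end Big

end Cfsg.Agent.Classical.MFrame
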