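import Cfsg.Agent.Lib.Classical.MonomFrame.Fibre

/-!
# A group with monomial line stabilisers is monomial
-/

set_option autoImplicit false
set_option linter.unusedSectionVars false

namespace Cfsg.Agent.Classical.MFrame

open Module QuadraticMap OCount ORefl OOmega

variable {F : Type*} [Field F] [Finite F] {V : Type*} [AddCommGroup V] [Module F V] [FiniteDimensional F V]
variable {Q : QuadraticForm F V} {n : ℕ} (B : Frame Q n) {H : Subgroup ↥(Iso Q)}

theorem Frame.flip_injective {D D' : Finset (Fin n)} (h : B.flip D = B.flip D') : D = D' := by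
  ext i
  have hi := congrArg (fun g : ↥(Iso Q) => B.co (g.1 (B.bas i)) i) h
  simp only [B.co_flip, B.co_bas_self] at hi
  have hne : (-1 : F) ≠ 1 := fun e => B.two (by linear_combination -e)
  split_ifs at hi with a b b
  · simp [a, b]
  · exact absurd hi hne
  · exact absurd hi.symm hne
  · simp [a, b]

/-- A monomial isometry carries a sign pair to a sign pair. -/
theorem Frame.conj_flip_pair {m : ↥(Iso Q)} (hm : B.Mono m) {a b : Fin n} (hab : a ≠ b) :
    ∃ a' b', a' ≠ b' ∧ m * B.flip {a, b} * m⁻¹ = B.flip {a', b'} := by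
  obtain ⟨τ, hτ⟩ := B.exists_hasPerm hm
  refine ⟨τ a, τ b, τ.injective.ne hab, ?_⟩
  have hsg : ∀ i, rf Q (m.1 (B.bas i)) = B.sg (τ i) := fun i => by
    rcases hτ i with h | h <;> rw [h]
    · rfl
    · rw [← neg_one_smul F (B.bas (τ i)), rf_smul (neg_ne_zero.mpr one_ne_zero)]; rfl
  rw [B.flip_pair hab, B.flip_pair (τ.injective.ne hab), ← hsg a, ← hsg b, ← conj_rf, ← conj_rf]
  simp only [Frame.sg]
  group

/-- The sign vectors met in the case of equality. -/
def Frame.GoodSign (H : Subgroup ↥(Iso Q)) (l : V) : Prop :=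
  (∀ k, B.co l k ^ 2 = 1) ∧ Q l ≠ 0 ∧ ∀ i j, i ≠ j →
    B.InT H (rf Q l * rf Q (B.co l j • B.bas i - B.co l i • B.bas j)) ∧
      ¬ B.Mono (rf Q l * rf Q (B.co l j • B.bas i - B.co l i • B.bas j))

theorem Frame.Star.exists_goodSign (S : B.Star H) {x : ↥(Iso Q)} (hx : B.InT H x) (hnm : ¬ B.Mono x) :
    ∃ l, B.GoodSign H l ∧ ∃ i j, i ≠ j ∧ x = rf Q l * rf Q (B.co l j • B.bas i - B.co l i • B.bas j) := by
  classical
  haveI := finite_iso (Q := Q)
  haveI : Fintype ↥(Iso Q) := Fintype.ofFinite _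
  obtain ⟨M, hM⟩ : ∃ M, M = B.monoIn H := ⟨_, rfl⟩
  have hmem : ∀ g : ↥H, g ∈ M ↔ B.Mono g.1 := fun g => by rw [hM]; rfl
  haveI : Fintype (↥H ⧸ M) := Fintype.ofFinite _
  let I := {q : ↥H ⧸ M // q ≠ ((1 : ↥H) : ↥H ⧸ M)}
  let Pr := {p // p ∈ Finset.powersetCard 2 (Finset.univ : Finset (Fin n))}
  have hrep : ∀ q : I, ∃ g : ↥H, (g : ↥H ⧸ M) = q.1 ∧ ¬ B.Mono g.1 := by
    rintro ⟨q, hq⟩
    obtain ⟨g, rfl⟩ := QuotientGroup.mk_surjective q
    exact ⟨g, rfl, fun h => hq (QuotientGroup.eq.mpr (by rw [mul_one, inv_mem_iff, hmem]; exact h))⟩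
  choose rep hrepq hrepm using hrep
  have hpair : ∀ p : Pr, ∃ a b, a ≠ b ∧ p.1 = {a, b} := fun p =>
    Finset.card_eq_two.mp (Finset.mem_powersetCard.mp p.2).2
  obtain ⟨Ψ, hΨ⟩ : ∃ Ψ : I × Pr → ↥(Iso Q), ∀ z, Ψ z = (rep z.1).1 * B.flip z.2.1 * (rep z.1).1⁻¹ :=
    ⟨fun z => _, fun _ => rfl⟩
  have hΨT : ∀ z, B.InT H (Ψ z) ∧ ¬ B.Mono (Ψ z) := by
    rintro ⟨q, p⟩
    obtain ⟨a, b, hab, hp⟩ := hpair p
    rw [hΨ, hp, B.flip_pair hab]
    exact ⟨⟨_, (rep q).2, a, b, hab, rfl⟩, fun h => hrepm q (S.mono_of_conj B (rep q).2 hab h)⟩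
  have hinj : Function.Injective Ψ := by
    rintro ⟨q, p⟩ ⟨q', p'⟩ e
    rw [hΨ, hΨ] at e
    obtain ⟨a, b, hab, hp⟩ := hpair p
    obtain ⟨a', b', hab', hp'⟩ := hpair p'
    have e' : (rep q').1⁻¹ * (rep q).1 * B.flip p.1 * ((rep q').1⁻¹ * (rep q).1)⁻¹ = B.flip p'.1 := by
      calc (rep q').1⁻¹ * (rep q).1 * B.flip p.1 * ((rep q').1⁻¹ * (rep q).1)⁻¹
          = (rep q').1⁻¹ * ((rep q).1 * B.flip p.1 * (rep q).1⁻¹) * (rep q').1 := by group
        _ = _ := by rw [e]; group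
    have hm : B.Mono ((rep q').1⁻¹ * (rep q).1) := by
      refine S.mono_of_conj B (mul_mem (inv_mem (rep q').2) (rep q).2) hab ?_
      rw [← B.flip_pair hab, ← hp, e', hp', B.flip_pair hab']
      exact (B.mono_sg _).mul B (B.mono_sg _)
    have hq : q = q' := Subtype.ext (by
      rw [← hrepq q, ← hrepq q']
      exact (QuotientGroup.eq.mpr ((hmem _).mpr hm)).symm)
    subst hq
    have h2 : B.flip p.1 = B.flip p'.1 := mul_left_cancel (mul_right_cancel e)
    exact Prod.ext rfl (Subtype.ext (B.flip_injective h2))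
  have hΨH : ∀ z, Ψ z ∈ H := fun z => by
    obtain ⟨a, b, hab, hp⟩ := hpair z.2
    rw [hΨ, hp, B.flip_pair hab]
    exact mul_mem (mul_mem (rep z.1).2 (S.pairs a b hab)) (inv_mem (rep z.1).2)
  obtain ⟨U, hU⟩ : ∃ U, U = Finset.univ.image Ψ := ⟨_, rfl⟩
  have hUc : U.card = Fintype.card I * n.choose 2 := by
    rw [hU, Finset.card_image_of_injective _ hinj, Finset.card_univ, Fintype.card_prod, Fintype.card_coe,
      Finset.card_powersetCard, Finset.card_univ, Fintype.card_fin]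
  have hUT : ∀ y ∈ U, B.InT H y ∧ ¬ B.Mono y ∧ y ∈ H ∧ y * y = 1 := by
    intro y hy
    rw [hU, Finset.mem_image] at hy
    obtain ⟨z, -, rfl⟩ := hy
    obtain ⟨u, v, P⟩ := S.exists_plane B (hΨT z).1 (hΨT z).2
    exact ⟨(hΨT z).1, (hΨT z).2, hΨH z, inv_eq_iff_mul_eq_one.mp P.inv_self⟩
  -- the coset of each element
  obtain ⟨χ, hχ⟩ : ∃ χ : {y // y ∈ U} → I, ∀ y, (χ y).1 = ((⟨y.1, (hUT y.1 y.2).2.2.1⟩ : ↥H) : ↥H ⧸ M) :=
    ⟨fun y => ⟨_, fun e => (hUT y.1 y.2).2.1 (by
      have h := QuotientGroup.eq.mp e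
      rwa [mul_one, inv_mem_iff, hmem] at h)⟩, fun _ => rfl⟩
  obtain ⟨fib, hfib⟩ : ∃ fib : I → Finset ↥(Iso Q),
      fib = fun q => (U.attach.filter fun y => χ y = q).image Subtype.val := ⟨_, rfl⟩
  have hfibmem : ∀ q y, y ∈ fib q ↔ ∃ h : y ∈ U, χ ⟨y, h⟩ = q := by
    intro q y
    rw [hfib]
    simp only [Finset.mem_image, Finset.mem_filter, Finset.mem_attach, true_and, Subtype.exists,
      exists_and_right, exists_eq_right]
  have hfibre : ∀ q, (fib q).card ≤ n.choose 2 ∧ ((fib q).card = n.choose 2 → ∃ l, Q l ≠ 0 ∧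
      (∀ k, B.co l k ≠ 0) ∧ (∀ i j, B.co l i ^ 2 = B.co l j ^ 2) ∧
        (∀ i j, i ≠ j → rf Q l * rf Q (B.co l j • B.bas i - B.co l i • B.bas j) ∈ fib q) ∧
        ∀ x ∈ fib q, ∃ i j, i ≠ j ∧ x = rf Q l * rf Q (B.co l j • B.bas i - B.co l i • B.bas j)) := by
    intro q
    refine S.fibre B (fun y hy => ?_) fun y hy y' hy' => ?_
    · obtain ⟨hyU, -⟩ := (hfibmem q y).mp hy
      exact ⟨(hUT y hyU).1, (hUT y hyU).2.1⟩
    · obtain ⟨hyU, hq⟩ := (hfibmem q y).mp hy
      obtain ⟨hyU', hq'⟩ := (hfibmem q y').mp hy'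
      have h := congrArg Subtype.val (hq.trans hq'.symm)
      rw [hχ, hχ, QuotientGroup.eq, hmem] at h
      rwa [show ((⟨y, _⟩ : ↥H)⁻¹ * ⟨y', _⟩ : ↥H).1 = y⁻¹ * y' from rfl,
        inv_eq_of_mul_eq_one_right (hUT y hyU).2.2.2] at h
  have hsum : ∑ q, (fib q).card = U.card := by
    rw [hfib]
    simp only [Finset.card_image_of_injective _ Subtype.val_injective]
    rw [← Finset.card_eq_sum_card_fiberwise (fun _ _ => Finset.mem_univ _), Finset.card_attach]
  have hfull : ∀ q, (fib q).card = n.choose 2 := fun q => by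
    have h := (Finset.sum_eq_sum_iff_of_le (fun q _ => (hfibre q).1) (s := Finset.univ)).mp
      (by rw [hsum, hUc, Finset.sum_const, smul_eq_mul, Finset.card_univ])
    exact h q (Finset.mem_univ q)
  -- locate the given element
  obtain ⟨g, hg, a, b, hab, hxe⟩ := hx
  have hxU : x ∈ U := by
    have hgm : ¬ B.Mono g := fun h => hnm (by
      rw [hxe]; exact (h.mul B ((B.mono_sg a).mul B (B.mono_sg b))).mul B (h.inv B))
    obtain ⟨q, hq⟩ : ∃ q : I, q.1 = ((⟨g, hg⟩ : ↥H) : ↥H ⧸ M) := ⟨⟨_, fun e => hgm (by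
      have h := QuotientGroup.eq.mp e
      rwa [mul_one, inv_mem_iff, hmem] at h)⟩, rfl⟩
    have hm : B.Mono ((rep q).1⁻¹ * g) := by
      have h := QuotientGroup.eq.mp ((hrepq q).trans hq)
      rwa [hmem] at h
    obtain ⟨a', b', hab', he⟩ := B.conj_flip_pair hm hab
    rw [hU, Finset.mem_image]
    refine ⟨(q, ⟨{a', b'}, Finset.mem_powersetCard.mpr ⟨Finset.subset_univ _, Finset.card_pair hab'⟩⟩),
      Finset.mem_univ _, ?_⟩
    rw [hΨ, hxe, ← B.flip_pair hab]
    show (rep q).1 * B.flip {a', b'} * (rep q).1⁻¹ = _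
    rw [← he]
    group
  obtain ⟨l, hQl, hne, hsq, hall, hform⟩ := (hfibre (χ ⟨x, hxU⟩)).2 (hfull _)
  have h0 : 0 < n := by have := S.big; omega
  obtain ⟨t, ht⟩ : ∃ t, t = (B.co l ⟨0, h0⟩)⁻¹ := ⟨_, rfl⟩
  have ht0 : t ≠ 0 := ht ▸ inv_ne_zero (hne _)
  have hscale : ∀ i j : Fin n, rf Q (t • l) * rf Q (B.co (t • l) j • B.bas i - B.co (t • l) i • B.bas j) =
      rf Q l * rf Q (B.co l j • B.bas i - B.co l i • B.bas j) := fun i j => by
    rw [rf_smul ht0, B.co_smul, B.co_smul, ← smul_smul, ← smul_smul, ← smul_sub, rf_smul ht0]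
  refine ⟨t • l, ⟨fun k => ?_, ?_, fun i j hij => ?_⟩, ?_⟩
  · rw [B.co_smul, mul_pow, hsq k ⟨0, h0⟩, ← mul_pow, ht, inv_mul_cancel₀ (hne _), one_pow]
  · rw [QuadraticMap.map_smul, smul_eq_mul]; exact mul_ne_zero (mul_ne_zero ht0 ht0) hQl
  · rw [hscale]
    obtain ⟨hU', -⟩ := (hfibmem _ _).mp (hall i j hij)
    exact ⟨(hUT _ hU').1, (hUT _ hU').2.1⟩
  · obtain ⟨i, j, hij, he⟩ := hform x ((hfibmem _ _).mpr ⟨hxU, rfl⟩)
    exact ⟨i, j, hij, by rw [hscale, he]⟩

theorem Frame.exists_sign (B : Frame Q n) {l : V} (h : ∀ k, B.co l k ^ 2 = 1) (D : Finset (Fin n)) :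
    ∀ k, B.co ((B.flip D).1 l) k ^ 2 = 1 := fun k => by
  rw [B.co_flip]; split_ifs <;> simp [h]

theorem Frame.val_sign (B : Frame Q n) {l : V} (h : ∀ k, B.co l k ^ 2 = 1) : Q l = B.c * (n : F) := by
  rw [B.val_eq, Finset.sum_congr rfl fun k _ => h k, Finset.sum_const, Finset.card_univ, Fintype.card_fin, nsmul_eq_mul,
    mul_one]

/-- The equality case forces `n = 8` in the field and closes the sign vectors under double flips. -/
theorem Frame.Star.goodSign_step (S : B.Star H) {l : V} (hl : B.GoodSign H l) {a b : Fin n} (hab : a ≠ b) :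
    (n : F) = 8 ∧ B.GoodSign H ((B.flip {a, b}).1 l) := by
  classical
  have hn := S.big
  obtain ⟨hl1, hQl, hlT⟩ := hl
  obtain ⟨i₁, hi₁, i₂, hi₂, h12⟩ : ∃ i ∈ (Finset.univ \ {a, b} : Finset (Fin n)), ∃ j ∈ (Finset.univ \ {a, b} : Finset (Fin n)), i ≠ j :=
    Finset.one_lt_card.mp (by rw [Finset.card_sdiff_of_subset (Finset.subset_univ _), Finset.card_univ, Fintype.card_fin, Finset.card_pair hab]; omega)
  simp only [Finset.mem_sdiff, Finset.mem_univ, true_and, Finset.mem_insert, Finset.mem_singleton, not_or] at hi₁ hi₂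
  obtain ⟨hxT, hxm⟩ := hlT i₁ i₂ h12
  obtain ⟨r, hr⟩ : ∃ r, r = B.co l i₂ • B.bas i₁ - B.co l i₁ • B.bas i₂ := ⟨_, rfl⟩
  rw [← hr] at hxT hxm
  obtain ⟨x, hx⟩ : ∃ x, x = rf Q l * rf Q r := ⟨_, rfl⟩
  rw [← hx] at hxT hxm
  obtain ⟨u, v, P⟩ := S.exists_plane B hxT hxm
  have hxinv := P.inv_self
  obtain ⟨g, hg, a', b', hab', hxe⟩ := hxT
  have hxH : x ∈ H := hxe ▸ mul_mem (mul_mem hg (S.pairs a' b' hab')) (inv_mem hg)
  obtain ⟨y, hy⟩ : ∃ y, y = x * (B.sg a * B.sg b) * x⁻¹ := ⟨_, rfl⟩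
  have hyT : B.InT H y := ⟨x, hxH, a, b, hab, hy⟩
  have hym : ¬ B.Mono y := fun h => hxm (S.mono_of_conj B hxH hab (hy ▸ h))
  obtain ⟨l', hl', i, j, hij, he⟩ := S.exists_goodSign B hyT hym
  have hc : B.c ≠ 0 := B.c_ne
  have hn0 : (n : F) ≠ 0 := fun e => hQl (by rw [B.val_sign hl1, e, mul_zero])
  -- images of the two axes
  have himg : ∀ k, k = a ∨ k = b → x.1 (B.bas k) = B.bas k - (2 * B.co l k / (n : F)) • l := by
    intro k hk
    rw [hx]
    show refl Q l (refl Q r (B.bas k)) = _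
    have hk1 : i₁ ≠ k := by rcases hk with rfl | rfl; exacts [hi₁.1, hi₁.2]
    have hk2 : i₂ ≠ k := by rcases hk with rfl | rfl; exacts [hi₂.1, hi₂.2]
    rw [refl_fix (show polar Q r (B.bas k) = 0 by
        rw [polar_comm, B.polar_bas, hr, B.co_sub, B.co_smul, B.co_smul, B.co_bas_ne hk1, B.co_bas_ne hk2]; ring),
      refl_apply, B.val_sign hl1, polar_comm, B.polar_bas]
    congr 2
    field_simp
  have hyP : ∀ w, y.1 w - w ∈ Submodule.span F ({x.1 (B.bas a), x.1 (B.bas b)} : Set V) := by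
    intro w
    rw [hy]
    obtain ⟨z, rfl⟩ := x.1.surjective w
    show x.1 ((B.sg a).1 ((B.sg b).1 (x.1.symm (x.1 z)))) - x.1 z ∈ _
    rw [x.1.symm_apply_apply, show (B.sg a).1 ((B.sg b).1 z) = (B.flip {a, b}).1 z by rw [B.flip_pair hab]; rfl, ← map_sub]
    have e : (B.flip {a, b}).1 z - z = (-2 * B.co z a) • B.bas a + (-2 * B.co z b) • B.bas b := B.ext_co fun k => by
      rw [B.co_sub, B.co_flip, B.co_add, B.co_smul, B.co_smul, B.co_bas, B.co_bas]
      by_cases h1 : a = k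
      · subst h1; simp [hab.symm]; ring
      · by_cases h2 : b = k
        · subst h2; simp [hab]; ring
        · simp [h1, h2, Ne.symm h1, Ne.symm h2]
    rw [e, map_add, map_smul, map_smul]
    exact add_mem (Submodule.smul_mem _ _ (Submodule.subset_span (by simp)))
      (Submodule.smul_mem _ _ (Submodule.subset_span (by simp)))
  have hneg : ∀ w, y.1 w = -w → w ∈ Submodule.span F ({x.1 (B.bas a), x.1 (B.bas b)} : Set V) := by
    intro w hw
    have h := hyP w
    rw [hw, show -w - w = (-2 : F) • w by module] at h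
    exact (Submodule.smul_mem_iff _ (neg_ne_zero.mpr B.two)).mp h
  obtain ⟨r', hr'⟩ : ∃ r', r' = B.co l' j • B.bas i - B.co l' i • B.bas j := ⟨_, rfl⟩
  rw [← hr'] at he
  have hperp : polar Q l' r' = 0 := by
    rw [hr', polar_sub_right, polar_smul_right, polar_smul_right, polar_comm, B.polar_bas, polar_comm, B.polar_bas,
      smul_eq_mul, smul_eq_mul]
    ring
  have hQr' : Q r' ≠ 0 := by
    rw [hr', map_sub_two, QuadraticMap.map_smul, QuadraticMap.map_smul, polar_smul_left, polar_smul_right,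
      B.orth i j hij, B.val, B.val]
    simp only [smul_eq_mul, mul_zero, sub_zero, ← pow_two, hl'.1 i, hl'.1 j, one_mul]
    rw [← two_mul]; exact mul_ne_zero B.two hc
  have hl'mem : l' ∈ Submodule.span F ({x.1 (B.bas a), x.1 (B.bas b)} : Set V) := by
    refine hneg _ ?_
    rw [he]
    show refl Q l' (refl Q r' l') = -l'
    rw [refl_fix (show polar Q r' l' = 0 by rw [polar_comm]; exact hperp), refl_self hl'.2.1]
  have hr'mem : r' ∈ Submodule.span F ({x.1 (B.bas a), x.1 (B.bas b)} : Set V) := by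
    refine hneg _ ?_
    rw [he]
    show refl Q l' (refl Q r' r') = -r'
    rw [refl_self hQr', map_neg, refl_fix hperp]
  obtain ⟨α, β, hαβ⟩ := Submodule.mem_span_pair.mp hr'mem
  obtain ⟨α', β', hαβ'⟩ := Submodule.mem_span_pair.mp hl'mem
  obtain ⟨m, hm⟩ : ∃ m, m = -(2 / (n : F)) * (α * B.co l a + β * B.co l b) := ⟨_, rfl⟩
  obtain ⟨μ, hμ⟩ : ∃ μ, μ = -(2 / (n : F)) * (α' * B.co l a + β' * B.co l b) := ⟨_, rfl⟩
  have hcor : ∀ k, B.co r' k = (if a = k then α else 0) + (if b = k then β else 0) + m * B.co l k := fun k => by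
    rw [← hαβ, himg a (Or.inl rfl), himg b (Or.inr rfl), hm]
    simp only [B.co_add, B.co_smul, B.co_sub, B.co_bas]
    split_ifs <;> ring
  have hcol : ∀ k, B.co l' k = (if a = k then α' else 0) + (if b = k then β' else 0) + μ * B.co l k := fun k => by
    rw [← hαβ', himg a (Or.inl rfl), himg b (Or.inr rfl), hμ]
    simp only [B.co_add, B.co_smul, B.co_sub, B.co_bas]
    split_ifs <;> ring
  obtain ⟨k, hk⟩ : ∃ k, k ∉ ({a, b, i, j} : Finset (Fin n)) := by
    by_contra! h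
    have := (Finset.card_le_card (s := Finset.univ) fun z _ => h z).trans Finset.card_le_four
    rw [Finset.card_univ, Fintype.card_fin] at this
    omega
  simp only [Finset.mem_insert, Finset.mem_singleton, not_or] at hk
  have hlne : ∀ z, B.co l z ≠ 0 := fun z e => by have := hl1 z; rw [e] at this; simp at this
  have hm0 : m = 0 := by
    have h := hcor k
    rw [hr', B.co_sub, B.co_smul, B.co_smul, B.co_bas_ne (Ne.symm hk.2.2.1), B.co_bas_ne (Ne.symm hk.2.2.2),
      if_neg (Ne.symm hk.1), if_neg (Ne.symm hk.2.1)] at h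
    exact (mul_eq_zero.mp (by linear_combination -h : m * B.co l k = 0)).resolve_right (hlne k)
  have hαβ0 : α * B.co l a + β * B.co l b = 0 := by
    rw [hm0] at hm
    exact (mul_eq_zero.mp hm.symm).resolve_left (neg_ne_zero.mpr (div_ne_zero B.two hn0))
  have hμ0 : μ ≠ 0 := fun e => by
    have h := hl'.1 k
    rw [hcol, if_neg (Ne.symm hk.1), if_neg (Ne.symm hk.2.1), e] at h
    simp at h
  have hμ2 : μ ^ 2 = 1 := by
    have h := hl'.1 k
    rw [hcol, if_neg (Ne.symm hk.1), if_neg (Ne.symm hk.2.1)] at h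
    have := hl1 k
    linear_combination h - μ ^ 2 * this
  -- the two flipped places carry equal shifts
  have hzero : α * B.co l' a + β * B.co l' b = 0 := by
    have h := hperp
    rw [B.polar_eq] at h
    have h' := (mul_eq_zero.mp h).resolve_left (mul_ne_zero B.two hc)
    rw [Finset.sum_congr rfl fun z _ => show B.co l' z * B.co r' z =
      (if a = z then α * B.co l' a else 0) + (if b = z then β * B.co l' b else 0) by
        rw [hcor z, hm0]; split_ifs with h1 h2 h2 <;> subst_vars <;> ring] at h'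
    simpa [Finset.sum_add_distrib] using h'
  have hα0 : α ≠ 0 := by
    intro e
    have hβ : β = 0 := (mul_eq_zero.mp (by rw [e] at hαβ0; linear_combination hαβ0 : β * B.co l b = 0)).resolve_right (hlne b)
    refine hQr' ?_
    rw [← hαβ, e, hβ, zero_smul, zero_smul, add_zero, QuadraticMap.map_zero]
  have la := hcol a
  rw [if_pos rfl, if_neg hab.symm, add_zero] at la
  have lb := hcol b
  rw [if_neg hab, if_pos rfl, zero_add] at lb
  have hrel : α' * B.co l b = β' * B.co l a := by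
    refine mul_left_cancel₀ hα0 ?_
    rw [la, lb] at hzero
    linear_combination B.co l b * hzero - (β' + μ * B.co l b) * hαβ0
  have hβ'eq : β' * B.co l b = α' * B.co l a := by
    linear_combination (-(B.co l a * B.co l b)) * hrel + (α' * B.co l a) * hl1 b - (β' * B.co l b) * hl1 a
  have hα' : α' = -2 * μ * B.co l a := by
    have h := hl'.1 a
    rw [la] at h
    have h1 : α' * (α' + 2 * μ * B.co l a) = 0 := by linear_combination h - μ ^ 2 * hl1 a - hμ2
    rcases mul_eq_zero.mp h1 with h2 | h2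
    · exfalso
      have h3 : β' = 0 := (mul_eq_zero.mp (by rw [h2] at hrel; linear_combination -hrel : β' * B.co l a = 0)).resolve_right (hlne a)
      rw [h2, h3] at hμ
      exact hμ0 (by rw [hμ]; ring)
    · linear_combination h2
  have hβ' : β' = -2 * μ * B.co l b := by
    have h := hβ'eq
    rw [hα'] at h
    linear_combination B.co l b * h - β' * hl1 b - 2 * μ * B.co l b * hl1 a
  have h8 : (n : F) = 8 := by
    rw [hα', hβ'] at hμ
    have e : μ * (n : F) = 8 * μ := by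
      have := congrArg (· * (n : F)) hμ
      field_simp at this
      linear_combination μ * this + 4 * μ * hl1 a + 4 * μ * hl1 b
    exact mul_left_cancel₀ hμ0 (by linear_combination e)
  have hflip : l' = μ • (B.flip {a, b}).1 l := B.ext_co fun z => by
    rw [hcol, B.co_smul, B.co_flip, hα', hβ']
    by_cases h1 : a = z
    · subst h1; simp [hab.symm]; ring
    · by_cases h2 : b = z
      · subst h2; simp [hab]; ring
      · simp [h1, h2, Ne.symm h1, Ne.symm h2]
  refine ⟨h8, B.exists_sign hl1 _, ?_, fun p q hpq => ?_⟩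
  · rw [(B.flip {a, b}).2]; exact hQl
  · have h := hl'.2.2 p q hpq
    rwa [hflip, rf_smul hμ0, B.co_smul, B.co_smul, ← smul_smul, ← smul_smul, ← smul_sub, rf_smul hμ0] at h

/-- An overgroup with monomial line stabilisers is monomial. -/
theorem Frame.Star.all_mono (S : B.Star H) : ∀ g ∈ H, B.Mono g := by
  classical
  by_contra! hcon
  obtain ⟨g, hg, hgm⟩ := hcon
  have hn := S.big
  obtain ⟨a, b, hab⟩ : ∃ a b : Fin n, a ≠ b := ⟨⟨0, by omega⟩, ⟨1, by omega⟩, by simp⟩
  obtain ⟨l, hl, -⟩ := S.exists_goodSign B (x := g * (B.sg a * B.sg b) * g⁻¹) ⟨g, hg, a, b, hab, rfl⟩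
    fun h => hgm (S.mono_of_conj B hg hab h)
  have h8 := (S.goodSign_step B hl hab).1
  -- flip six places
  obtain ⟨D, hD, hDc⟩ := Finset.exists_subset_card_eq (s := (Finset.univ \ {a, b} : Finset (Fin n))) (n := 6)
    (by rw [Finset.card_sdiff_of_subset (Finset.subset_univ _), Finset.card_univ, Fintype.card_fin, Finset.card_pair hab]; omega)
  have hflip : ∀ E ⊆ D, Even E.card → B.GoodSign H ((B.flip E).1 l) :=
    B.flip_induction (P := fun f => B.GoodSign H (f.1 l)) hl fun k _ m _ hkm f hf => by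
      have := (S.goodSign_step B hf hkm).2
      rw [B.flip_pair hkm] at this
      exact this
  obtain ⟨w, hw⟩ : ∃ w, w = (B.flip D).1 l := ⟨_, rfl⟩
  have hwg : B.GoodSign H w := hw ▸ hflip D (Finset.Subset.refl _) ⟨3, by omega⟩
  have hout : ∀ {k}, k = a ∨ k = b → k ∉ D := fun {k} hk hkD => by
    have := (Finset.mem_sdiff.mp (hD hkD)).2
    rcases hk with rfl | rfl <;> simp at this
  have hwa : B.co w a = B.co l a := by rw [hw, B.co_flip, if_neg (hout (Or.inl rfl))]
  have hwb : B.co w b = B.co l b := by rw [hw, B.co_flip, if_neg (hout (Or.inr rfl))]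
  obtain ⟨r, hr⟩ : ∃ r, r = B.co l b • B.bas a - B.co l a • B.bas b := ⟨_, rfl⟩
  have hX := hl.2.2 a b hab
  rw [← hr] at hX
  have hX' := hwg.2.2 a b hab
  rw [hwa, hwb, ← hr] at hX'
  obtain ⟨x, hx⟩ : ∃ x, x = rf Q l * rf Q r := ⟨_, rfl⟩
  rw [← hx] at hX
  obtain ⟨g₁, hg₁, a₁, b₁, hab₁, he₁⟩ := hX.1
  obtain ⟨g₂, hg₂, a₂, b₂, hab₂, he₂⟩ := hX'.1
  have hxH : x ∈ H := he₁ ▸ mul_mem (mul_mem hg₁ (S.pairs a₁ b₁ hab₁)) (inv_mem hg₁)
  obtain ⟨X, hXd⟩ : ∃ X, X = x * (rf Q w * rf Q r) * x⁻¹ := ⟨_, rfl⟩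
  obtain ⟨v, hv⟩ : ∃ v, v = w + l := ⟨_, rfl⟩
  have hvco : ∀ k, B.co v k = if k ∈ D then 0 else 2 * B.co l k := fun k => by
    rw [hv, B.co_add, hw, B.co_flip]; split_ifs <;> ring
  have hperp : polar Q l r = 0 ∧ polar Q w r = 0 := by
    constructor <;> rw [hr, polar_sub_right, polar_smul_right, polar_smul_right, polar_comm, B.polar_bas, polar_comm,
      B.polar_bas, smul_eq_mul, smul_eq_mul]
    · ring
    · rw [hwa, hwb]; ring
  have hxr : x.1 r = -r := by
    rw [hx]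
    show refl Q l (refl Q r r) = -r
    rw [refl_self ?_, map_neg, refl_fix hperp.1]
    rw [hr, map_sub_two, QuadraticMap.map_smul, QuadraticMap.map_smul, polar_smul_left, polar_smul_right,
      B.orth a b hab, B.val, B.val]
    simp only [smul_eq_mul, mul_zero, sub_zero, ← pow_two, hl.1 a, hl.1 b, one_mul]
    rw [← two_mul]; exact mul_ne_zero B.two B.c_ne
  have hxw : x.1 w = v := by
    rw [hx]
    show refl Q l (refl Q r w) = v
    rw [refl_fix (show polar Q r w = 0 by rw [polar_comm]; exact hperp.2), refl_apply, B.val_sign hl.1, B.polar_eq, hv]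
    have hs : ∑ k, B.co l k * B.co w k = (n : F) - 12 := by
      rw [Finset.sum_congr rfl fun k _ => show B.co l k * B.co w k = (if k ∈ D then (-2 : F) else 0) + 1 by
        rw [hw, B.co_flip]; have := hl.1 k; split_ifs; exacts [by linear_combination -this, by linear_combination this]]
      rw [Finset.sum_add_distrib, Finset.sum_ite_mem, Finset.univ_inter, Finset.sum_const, Finset.sum_const, hDc,
        Finset.card_univ, Fintype.card_fin]
      simp only [nsmul_eq_mul]
      push_cast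
      ring
    rw [hs, h8]
    have h80 : (8 : F) ≠ 0 := by
      rw [show (8 : F) = 2 * 2 * 2 by norm_num]; exact mul_ne_zero (mul_ne_zero B.two B.two) B.two
    have : (B.c * 8)⁻¹ * (2 * B.c * (8 - 12 : F)) = -1 := by have := B.c_ne; field_simp; ring
    rw [this, neg_one_smul, sub_neg_eq_add]
  have hXe : X = rf Q v * rf Q r := by
    have hcr : x * rf Q r * x⁻¹ = rf Q r := by
      rw [conj_rf, hxr, ← neg_one_smul F r, rf_smul (neg_ne_zero.mpr one_ne_zero)]
    calc X = x * rf Q w * x⁻¹ * (x * rf Q r * x⁻¹) := by rw [hXd]; group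
      _ = _ := by rw [hcr, conj_rf, hxw]
  have hXT : X = (x * g₂) * (B.sg a₂ * B.sg b₂) * (x * g₂)⁻¹ := by rw [hXd, he₂]; group
  have hXm : B.Mono X := by
    obtain ⟨d, hd⟩ : D.Nonempty := Finset.card_pos.mp (by omega)
    refine S.star X (by rw [hXT]; exact mul_mem (mul_mem (mul_mem hxH hg₂) (S.pairs a₂ b₂ hab₂)) (inv_mem (mul_mem hxH hg₂))) d (Or.inl ?_)
    rw [hXe]
    show refl Q v (refl Q r (B.bas d)) = B.bas d
    have had : a ≠ d := fun e => hout (Or.inl rfl) (e ▸ hd)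
    have hbd : b ≠ d := fun e => hout (Or.inr rfl) (e ▸ hd)
    rw [refl_fix (show polar Q r (B.bas d) = 0 by
        rw [polar_comm, B.polar_bas, hr, B.co_sub, B.co_smul, B.co_smul, B.co_bas_ne had, B.co_bas_ne hbd]; ring),
      refl_fix (show polar Q v (B.bas d) = 0 by rw [polar_comm, B.polar_bas, hvco, if_pos hd, mul_zero])]
  have hgm' := S.mono_of_conj B (mul_mem hxH hg₂) hab₂ (hXT ▸ hXm)
  obtain ⟨a₃, b₃, hab₃, he₃⟩ := B.conj_flip_pair hgm' hab₂
  rw [B.flip_pair hab₂, ← hXT] at he₃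
  have hsupp : B.supp v ⊆ {a₃, b₃} := by
    intro k hk
    by_contra hcon
    have hneg : X.1 v = -v := by
      rw [hXe, ← hxw, show (rf Q (x.1 w) * rf Q r).1 (x.1 w) = refl Q (x.1 w) (refl Q r (x.1 w)) from rfl]
      rw [refl_fix (show polar Q r (x.1 w) = 0 by
          have h := polar_iso x.2 r w
          rw [hxr, polar_neg_left, polar_comm Q r w, hperp.2, neg_eq_zero] at h
          exact h), refl_self]
      rw [x.2]; exact hwg.2.1
    have h1 := congrArg (fun z => B.co z k) hneg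
    simp only [he₃, B.co_flip, if_neg hcon, B.co_neg] at h1
    exact B.mem_supp.mp hk ((mul_eq_zero.mp (by linear_combination h1 : (2 : F) * B.co v k = 0)).resolve_left B.two)
  have hle := Finset.card_le_card (s := Finset.univ \ D) (t := B.supp v) fun k hk => by
    rw [B.mem_supp, hvco, if_neg (Finset.mem_sdiff.mp hk).2]
    have := hl.1 k
    exact mul_ne_zero B.two fun e => by rw [e] at this; simp at this
  rw [Finset.card_sdiff_of_subset (Finset.subset_univ _), Finset.card_univ, Fintype.card_fin, hDc] at hle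
  have := (Finset.card_le_card hsupp).trans Finset.card_le_two
  omega

end Cfsg.Agent.Classical.MFrame
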