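import Cfsg.Agent.Lib.Classical.MonomFrame.Basic
import Cfsg.Agent.Lib.Classical.OrthClassRefl

/-!
# Growing the sphere covered by the reflections of a group
-/

set_option autoImplicit false
set_option linter.unusedSectionVars false

namespace Cfsg.Agent.Classical.MFrame

open Module QuadraticMap OCount ORefl OOmega

variable {F : Type*} [Field F] {V : Type*} [AddCommGroup V] [Module F V] {Q : QuadraticForm F V}

/-- All vectors of value `c` in the subspace give reflections in the group. -/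
def Sph (G : Subgroup ↥(Iso Q)) (c : F) (U : Submodule F V) : Prop := ∀ v ∈ U, Q v = c → rf Q v ∈ G

/-- The form is non-degenerate on the subspace. -/
def NDOn (Q : QuadraticForm F V) (U : Submodule F V) : Prop := PND (QuadraticMap.comp Q U.subtype)

theorem rf_conj_mem {G : Subgroup ↥(Iso Q)} {g : ↥(Iso Q)} (hg : g ∈ G) {v : V} (hv : rf Q v ∈ G) :
    rf Q (g.1 v) ∈ G := by
  rw [← conj_rf]
  exact mul_mem (mul_mem hg hv) (inv_mem hg)

variable [Finite F] [FiniteDimensional F V] (h2 : (2 : F) ≠ 0)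

include h2

/-- The reflections of one class are transitive on each anisotropic value. -/
theorem class_transitive (hQ : PND Q) (hn : 3 ≤ finrank F V) (h5 : 5 ≤ Nat.card F) {c : F} (hc : c ≠ 0)
    {y y' : V} (hy : Q y ≠ 0) (he : Q y' = Q y) : ∃ h ∈ classGroup Q c, h.1 y = y' := by
  have hy' : Q y' ≠ 0 := he ▸ hy
  -- replace an arbitrary reflection by one in the class, or by a pair
  have hadj : ∀ d w : V, Q d ≠ 0 → (rf Q d).1 w = y' →
      rf Q d ∈ classGroup Q c ∨
      (¬ IsSquare (Q d / c) ∧ ∃ b, rf Q b * rf Q d ∈ classGroup Q c ∧ (rf Q b * rf Q d).1 w = y') := by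
    intro d w hd hw
    by_cases hs : IsSquare (Q d / c)
    · exact Or.inl (rf_mem_class hd hs)
    obtain ⟨u, hu, hu'⟩ := exists_perp h2 hQ (by omega) hy'
    have hP : PND (QuadraticMap.comp Q (LinearMap.ker (Q.polarBilin y')).subtype) := by
      intro v hv
      apply Subtype.ext
      refine hQ v.1 fun x => ?_
      have hvy : polar Q y' v.1 = 0 := v.2
      have hyy : polar Q y' y' ≠ 0 := by rw [polar_self_two]; exact mul_ne_zero h2 hy'
      have hx : x - (polar Q y' x / polar Q y' y') • y' ∈ LinearMap.ker (Q.polarBilin y') := by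
        rw [LinearMap.mem_ker, polarBilin_apply_apply, polar_sub_right, polar_smul_right, smul_eq_mul,
          div_mul_cancel₀ _ hyy, sub_self]
      have h0 : polar Q v.1 (x - (polar Q y' x / polar Q y' y') • y') = 0 := hv ⟨_, hx⟩
      rwa [polar_sub_right, polar_smul_right, polar_comm Q v.1 y', hvy, smul_zero, sub_zero] at h0
    have hdim : 2 ≤ finrank F (LinearMap.ker (Q.polarBilin y')) := by
      have h1 := LinearMap.finrank_range_add_finrank_ker (Q.polarBilin y')
      have h3 : finrank F (LinearMap.range (Q.polarBilin y')) ≤ 1 :=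
        (Submodule.finrank_le _).trans_eq (finrank_self F)
      omega
    obtain ⟨b, hb⟩ := exists_value h2 hP hdim (Q d)
    refine Or.inr ⟨hs, b.1, class_pair h2 hQ (Or.inr (Or.inr h5)) hc hd hs hb rfl, ?_⟩
    show (rf Q b.1).1 ((rf Q d).1 w) = y'
    rw [hw]
    exact refl_fix (show polar Q b.1 y' = 0 by rw [polar_comm]; exact b.2)
  by_cases h : Q (y - y') = 0
  · -- through the negative
    have h' : Q (y + y') ≠ 0 := by
      intro h'
      rw [map_sub_two] at h
      rw [map_two] at h'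
      have : (2 * 2 : F) * Q y = 0 := by linear_combination h + h' - 2 * he
      exact hy ((mul_eq_zero.mp this).resolve_left (mul_ne_zero h2 h2))
    have h1 : (rf Q (y + y')).1 y = -y' := by
      have := refl_sub_apply (Q := Q) (x := -y') (y := y) (by rw [QuadraticMap.map_neg, he])
        (by rwa [sub_neg_eq_add])
      rwa [sub_neg_eq_add] at this
    have h3 : (rf Q y').1 (-y') = y' := by
      show refl Q y' (-y') = y'
      rw [map_neg, ORefl.refl_self hy', neg_neg]
    rcases hadj y' (-y') hy' h3 with hin | ⟨hs', b, hin, hb⟩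
    · -- the first is in the class
      by_cases hs : IsSquare (Q (y + y') / c)
      · exact ⟨_, mul_mem hin (rf_mem_class h' hs), by show (rf Q y').1 ((rf Q (y + y')).1 y) = y'; rw [h1, h3]⟩
      · have h4 : (rf Q y' * rf Q (y + y')).1 y = y' := by
          show (rf Q y').1 ((rf Q (y + y')).1 y) = y'; rw [h1, h3]
        rw [show rf Q y' * rf Q (y + y') = rf Q ((rf Q y').1 (y + y')) * rf Q y' by
          rw [← conj_rf, mul_assoc, inv_mul_cancel, mul_one]] at h4
        rcases hadj _ ((rf Q y').1 y) (by rw [(rf Q y').2 _]; exact h') h4 with hin' | ⟨-, b, hin', hb⟩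
        · exact ⟨_, mul_mem hin' hin, h4⟩
        · exact ⟨_, mul_mem hin' hin, hb⟩
    · by_cases hs : IsSquare (Q (y + y') / c)
      · exact ⟨_, mul_mem hin (rf_mem_class h' hs), by show (rf Q b * rf Q y').1 ((rf Q (y + y')).1 y) = y'; rw [h1, hb]⟩
      · refine ⟨rf Q y' * rf Q (y + y'), ?_, by show (rf Q y').1 ((rf Q (y + y')).1 y) = y'; rw [h1, h3]⟩
        obtain ⟨r, hr⟩ : IsSquare ((Q y' / c) / (Q (y + y') / c)) := by
          rw [div_eq_mul_inv, isSquare_iff_mul h2 (div_ne_zero hy' hc) (inv_ne_zero (div_ne_zero h' hc)),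
            isSquare_inv]
          exact iff_of_false hs' hs
        have hr0 : r ≠ 0 := fun e => by
          rw [e, mul_zero] at hr
          exact div_ne_zero (div_ne_zero hy' hc) (div_ne_zero h' hc) hr
        rw [← rf_smul hr0 (y + y')]
        refine class_pair h2 hQ (Or.inr (Or.inr h5)) hc hy' hs' rfl ?_
        rw [QuadraticMap.map_smul, smul_eq_mul, ← hr]
        field_simp
  · have h1 : (rf Q (y - y')).1 y = y' := refl_sub_apply he.symm h
    rcases hadj _ y h h1 with hin | ⟨-, b, hin, hb⟩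
    exacts [⟨_, hin, h1⟩, ⟨_, hin, hb⟩]

/-- Class elements of a subspace lift into the group, fixing the orthogonal complement. -/
theorem exists_lift {G : Subgroup ↥(Iso Q)} {c : F} (hc : c ≠ 0) {U : Submodule F V} (hS : Sph G c U)
    {h : ↥(Iso (QuadraticMap.comp Q U.subtype))} (hh : h ∈ classGroup (QuadraticMap.comp Q U.subtype) c) :
    ∃ g ∈ G, (∀ x : U, g.1 x.1 = (h.1 x).1) ∧ ∀ f, (∀ u ∈ U, polar Q f u = 0) → g.1 f = f := by
  refine Subgroup.closure_induction (p := fun h _ => ∃ g ∈ G, (∀ x : U, g.1 x.1 = (h.1 x).1) ∧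
    ∀ f, (∀ u ∈ U, polar Q f u = 0) → g.1 f = f) ?_ ⟨1, one_mem _, fun _ => rfl, fun _ _ => rfl⟩ ?_ ?_ hh
  · rintro _ ⟨z, hz, ⟨r, hr⟩, rfl⟩
    have hz' : Q (z : V) = r * r * c := (div_eq_iff hc).mp hr
    have hz'' : Q (z : V) ≠ 0 := hz
    have hr0 : r ≠ 0 := fun e => hz'' (by rw [hz', e]; ring)
    refine ⟨rf Q (z : V), ?_, fun x => ?_, fun f hf => refl_fix (by rw [polar_comm]; exact hf z z.2)⟩
    · rw [← rf_smul (inv_ne_zero hr0) (z : V)]
      refine hS _ (U.smul_mem _ z.2) ?_
      rw [QuadraticMap.map_smul, smul_eq_mul, hz']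
      field_simp
    · show refl Q (z : V) x.1 = (refl (QuadraticMap.comp Q U.subtype) z x).1
      rw [refl_apply, refl_apply]
      rfl
  · rintro a b - - ⟨g, hg, hga, hgf⟩ ⟨g', hg', hgb, hgf'⟩
    refine ⟨g * g', mul_mem hg hg', fun x => ?_, fun f hf => ?_⟩
    · show g.1 (g'.1 x.1) = _
      rw [hgb, hga]
      rfl
    · show g.1 (g'.1 f) = f
      rw [hgf' f hf, hgf f hf]
  · rintro a - ⟨g, hg, hga, hgf⟩
    refine ⟨g⁻¹, inv_mem hg, fun x => ?_, fun f hf => ?_⟩
    · apply g.1.injective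
      show g.1 (g.1.symm x.1) = g.1 ((a.1.symm x).1)
      rw [g.1.apply_symm_apply, hga, a.1.apply_symm_apply]
    · apply g.1.injective
      show g.1 (g.1.symm f) = g.1 f
      rw [g.1.apply_symm_apply, hgf f hf]

/-- A vector orthogonal to a given one inside a subspace, of any value. -/
theorem exists_value_perp {U : Submodule F V} (hU : NDOn Q U) (h3 : 3 ≤ finrank F U) {y : V} (hy : y ∈ U)
    (hQy : Q y ≠ 0) (q : F) : ∃ z ∈ U, polar Q y z = 0 ∧ Q z = q := by
  let K := LinearMap.ker ((QuadraticMap.comp Q U.subtype).polarBilin ⟨y, hy⟩)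
  have hP : PND (QuadraticMap.comp (QuadraticMap.comp Q U.subtype) K.subtype) := by
    intro v hv
    apply Subtype.ext
    refine hU v.1 fun x => ?_
    have hvy : polar (QuadraticMap.comp Q U.subtype) ⟨y, hy⟩ v.1 = 0 := v.2
    have hyy : polar (QuadraticMap.comp Q U.subtype) ⟨y, hy⟩ ⟨y, hy⟩ ≠ 0 := by
      rw [polar_self_two]; exact mul_ne_zero h2 hQy
    have hx : x - (polar (QuadraticMap.comp Q U.subtype) ⟨y, hy⟩ x /
        polar (QuadraticMap.comp Q U.subtype) ⟨y, hy⟩ ⟨y, hy⟩) • (⟨y, hy⟩ : U) ∈ K := by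
      rw [LinearMap.mem_ker, polarBilin_apply_apply, polar_sub_right, polar_smul_right, smul_eq_mul,
        div_mul_cancel₀ _ hyy, sub_self]
    have h0 : polar (QuadraticMap.comp Q U.subtype) v.1 (x - (polar (QuadraticMap.comp Q U.subtype) ⟨y, hy⟩ x /
        polar (QuadraticMap.comp Q U.subtype) ⟨y, hy⟩ ⟨y, hy⟩) • (⟨y, hy⟩ : U)) = 0 := hv ⟨_, hx⟩
    rwa [polar_sub_right, polar_smul_right, polar_comm _ v.1 (⟨y, hy⟩ : U), hvy, smul_zero, sub_zero] at h0
  have hdim : 2 ≤ finrank F K := by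
    have h1 := LinearMap.finrank_range_add_finrank_ker ((QuadraticMap.comp Q U.subtype).polarBilin ⟨y, hy⟩)
    have h3' : finrank F (LinearMap.range ((QuadraticMap.comp Q U.subtype).polarBilin ⟨y, hy⟩)) ≤ 1 :=
      (Submodule.finrank_le _).trans_eq (finrank_self F)
    show 2 ≤ finrank F (LinearMap.ker ((QuadraticMap.comp Q U.subtype).polarBilin ⟨y, hy⟩))
    omega
  obtain ⟨z, hz⟩ := exists_value h2 hP hdim q
  exact ⟨z.1.1, z.1.2, z.2, hz⟩

theorem exists_field_avoid (h5 : 5 ≤ Nat.card F) (a b d : F) : ∃ m : F, m ≠ 0 ∧ m ≠ a ∧ m ≠ b ∧ m ≠ d := by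
  classical
  haveI := Fintype.ofFinite F
  by_contra hcon
  push Not at hcon
  have hsub : (Finset.univ : Finset F) ⊆ {0, a, b, d} := by
    intro m _
    simp only [Finset.mem_insert, Finset.mem_singleton]
    by_contra h
    push Not at h
    exact h.2.2.2 (hcon m h.1 h.2.1 h.2.2.1)
  have hle := (Finset.card_le_card hsub).trans Finset.card_le_four
  rw [Finset.card_univ, ← Nat.card_eq_fintype_card] at hle
  omega

/-- The sphere of a subspace and one vector off it give the sphere of the larger subspace. -/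
theorem sphere_step {G : Subgroup ↥(Iso Q)} {c : F} (hc : c ≠ 0) (h5 : 5 ≤ Nat.card F) {U : Submodule F V}
    (hU : NDOn Q U) (h3 : 3 ≤ finrank F U) (hS : Sph G c U) {f y₀ : V} {t : F}
    (hf : ∀ u ∈ U, polar Q f u = 0) (hQf : Q f ≠ 0) (ht : t ≠ 0) (hy₀ : y₀ ∈ U) (hQy₀ : Q y₀ ≠ 0)
    (hval : Q (y₀ + t • f) = c) (ha : rf Q (y₀ + t • f) ∈ G) : Sph G c (U ⊔ Submodule.span F {f}) := by
  have hsplit : ∀ (y : V) (α : F), y ∈ U → Q (y + α • f) = Q y + α * α * Q f := by
    intro y α hy
    rw [map_two, QuadraticMap.map_smul, polar_smul_right, polar_comm Q y f, hf y hy, smul_eq_mul, smul_eq_mul]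
    ring
  have hpol : ∀ (y z : V) (α β : F), y ∈ U → z ∈ U →
      polar Q (y + α • f) (z + β • f) = polar Q y z + 2 * α * β * Q f := by
    intro y z α β hy hz
    rw [polar_add_left, polar_add_right, polar_add_right, polar_smul_left, polar_smul_left, polar_smul_right,
      polar_smul_right, polar_comm Q y f, hf y hy, hf z hz, polar_self_two]
    simp only [smul_eq_mul]
    ring
  -- anisotropic levels
  have hL1 : ∀ (y : V) (α : F), y ∈ U → Q (y + α • f) = c → Q y ≠ 0 → rf Q (y + α • f) ∈ G := by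
    intro y α hy hv hQy
    obtain ⟨P, hPdef⟩ : ∃ P, P = -(α * c / t) := ⟨_, rfl⟩
    obtain ⟨s, hs⟩ : ∃ s, s = P / (2 * Q y₀) := ⟨_, rfl⟩
    obtain ⟨z', hz', hz'p, hz'v⟩ := exists_value_perp h2 hU h3 hy₀ hQy₀ (c - s * s * Q y₀)
    have hzU : s • y₀ + z' ∈ U := add_mem (U.smul_mem _ hy₀) hz'
    have hzc : Q (s • y₀ + z') = c := by
      rw [map_two, QuadraticMap.map_smul, polar_smul_left, hz'p, hz'v, smul_eq_mul, smul_zero]; ring
    have hzP : polar Q y₀ (s • y₀ + z') = P := by
      rw [polar_add_right, polar_smul_right, hz'p, polar_self_two, smul_eq_mul, add_zero, hs]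
      field_simp
    have hmem := rf_conj_mem ha (hS _ hzU hzc)
    have himg : (rf Q (y₀ + t • f)).1 (s • y₀ + z') = (s • y₀ + z' - (P / c) • y₀) + α • f := by
      show refl Q (y₀ + t • f) (s • y₀ + z') = _
      have e : polar Q (y₀ + t • f) (s • y₀ + z') = P := by
        rw [polar_add_left, hzP, polar_smul_left, hf _ hzU, smul_zero, add_zero]
      rw [refl_apply, e, hval]
      have e2 : α • f = -((c⁻¹ * P) • (t • f)) := by
        rw [smul_smul, ← neg_smul]
        congr 1
        rw [hPdef]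
        field_simp
      rw [e2, smul_add, show P / c = c⁻¹ * P by ring]
      abel
    rw [himg] at hmem
    have hy1 : s • y₀ + z' - (P / c) • y₀ ∈ U := sub_mem hzU (U.smul_mem _ hy₀)
    have hnorm : Q (s • y₀ + z' - (P / c) • y₀) = Q y := by
      have h1 : Q ((rf Q (y₀ + t • f)).1 (s • y₀ + z')) = c := by rw [(rf Q (y₀ + t • f)).2 _, hzc]
      rw [himg, hsplit _ _ hy1] at h1
      rw [hsplit _ _ hy] at hv
      linear_combination h1 - hv
    obtain ⟨h, hh, hhy⟩ := class_transitive h2 hU h3 h5 hc (y := (⟨_, hy1⟩ : U)) (y' := ⟨y, hy⟩)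
      (by show Q (s • y₀ + z' - (P / c) • y₀) ≠ 0; rw [hnorm]; exact hQy) (show Q y = _ from hnorm.symm)
    obtain ⟨g, hg, hgU, hgf⟩ := exists_lift h2 hc hS hh
    have := rf_conj_mem hg hmem
    rwa [map_add, map_smul, hgf f hf, hgU ⟨_, hy1⟩, hhy] at this
  intro v hv hvc
  obtain ⟨y, hy, w, hw, rfl⟩ := Submodule.mem_sup.mp hv
  obtain ⟨α, rfl⟩ := Submodule.mem_span_singleton.mp hw
  by_cases hQy : Q y = 0
  swap
  · exact hL1 y α hy hvc hQy
  have hα : α * α * Q f = c := by rw [hsplit _ _ hy, hQy, zero_add] at hvc; exact hvc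
  have hα0 : α ≠ 0 := fun e => hc (by rw [← hα, e]; ring)
  -- a reflection moving the level
  obtain ⟨γ, hγ0, hγ1, hγ2, -⟩ := exists_field_avoid h2 h5 α (-α) 0
  have hγc : γ * γ * Q f ≠ c := by
    intro e
    have : (γ - α) * (γ + α) = 0 := mul_right_cancel₀ hQf (by linear_combination e - hα)
    rcases mul_eq_zero.mp this with h | h
    · exact hγ1 (by linear_combination h)
    · exact hγ2 (by linear_combination h)
  obtain ⟨x, hx, hxq, hk⟩ : ∃ x ∈ U, Q x = c - γ * γ * Q f ∧
      polar Q x y + 2 * γ * α * Q f ≠ 0 ∧ polar Q x y + 2 * γ * α * Q f ≠ 2 * α * c / γ := by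
    by_cases hy0 : y = 0
    · obtain ⟨x, hx⟩ := exists_value h2 hU (by omega) (c - γ * γ * Q f)
      refine ⟨x.1, x.2, hx, ?_⟩
      rw [hy0, polar_zero_right, zero_add]
      refine ⟨mul_ne_zero (mul_ne_zero (mul_ne_zero h2 hγ0) hα0) hQf, fun e => hγc ?_⟩
      rw [eq_div_iff hγ0] at e
      exact mul_left_cancel₀ (mul_ne_zero h2 hα0) (by linear_combination e)
    · obtain ⟨w, hw1⟩ : ∃ w : U, polar Q y w.1 ≠ 0 := by
        by_contra hcon
        push Not at hcon
        exact hy0 (congrArg Subtype.val (hU ⟨y, hy⟩ hcon))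
      obtain ⟨w1, hw1e⟩ : ∃ w1 : V, w1 = (polar Q y w.1)⁻¹ • w.1 := ⟨_, rfl⟩
      have hp1 : polar Q y w1 = 1 := by
        rw [hw1e, polar_smul_right, smul_eq_mul, inv_mul_cancel₀ hw1]
      have hw1U : w1 ∈ U := hw1e ▸ U.smul_mem _ w.2
      obtain ⟨m, hm0, hm1, hm2, -⟩ := exists_field_avoid h2 h5 (-(2 * γ * α * Q f))
        (2 * α * c / γ - 2 * γ * α * Q f) 0
      obtain ⟨q, hq⟩ : ∃ q, q = c - γ * γ * Q f := ⟨_, rfl⟩
      refine ⟨m • (w1 - Q w1 • y) + (q / m) • y,
        add_mem (U.smul_mem _ (sub_mem hw1U (U.smul_mem _ hy))) (U.smul_mem _ hy), ?_, ?_, ?_⟩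
      · simp only [map_two, map_sub_two, QuadraticMap.map_smul, polar_smul_left, polar_smul_right, polar_sub_left,
          polar_sub_right, polar_self_two, hQy, polar_comm Q w1 y, hp1, ← hq, smul_eq_mul]
        field_simp
        ring
      · rw [polar_comm, polar_add_right, polar_smul_right, polar_smul_right, polar_sub_right, polar_smul_right,
          polar_self_two, hQy, hp1]
        simp only [smul_eq_mul]
        intro e
        exact hm1 (by linear_combination e)
      · rw [polar_comm, polar_add_right, polar_smul_right, polar_smul_right, polar_sub_right, polar_smul_right,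
          polar_self_two, hQy, hp1]
        simp only [smul_eq_mul]
        intro e
        exact hm2 (by linear_combination e)
  obtain ⟨k, hkdef⟩ : ∃ k, k = polar Q x y + 2 * γ * α * Q f := ⟨_, rfl⟩
  rw [← hkdef] at hk
  have hxc : Q (x + γ • f) = c := by rw [hsplit _ _ hx, hxq]; ring
  have hxm : rf Q (x + γ • f) ∈ G := hL1 x γ hx hxc (by rw [hxq]; exact sub_ne_zero.mpr (Ne.symm hγc))
  have himg : (rf Q (x + γ • f)).1 (y + α • f) = (y - (k / c) • x) + (α - k / c * γ) • f := by
    show refl Q (x + γ • f) (y + α • f) = _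
    rw [refl_apply, hpol _ _ _ _ hx hy, ← hkdef, hxc, smul_add, smul_smul, sub_smul,
      show k / c = c⁻¹ * k by ring]
    abel
  have hy' : y - (k / c) • x ∈ U := sub_mem hy (U.smul_mem _ hx)
  have hv' : Q (y - (k / c) • x + (α - k / c * γ) • f) = c := by
    rw [← himg, (rf Q (x + γ • f)).2 _]; exact hvc
  have hQy' : Q (y - (k / c) • x) ≠ 0 := by
    intro e
    rw [hsplit _ _ hy', e, zero_add] at hv'
    have : (k / c * γ) * (k / c * γ - 2 * α) = 0 := mul_right_cancel₀ hQf (by linear_combination hv' - hα)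
    rcases mul_eq_zero.mp this with h | h
    · rcases mul_eq_zero.mp h with h | h
      · exact hk.1 ((div_eq_zero_iff.mp h).resolve_right hc)
      · exact hγ0 h
    · refine hk.2 ?_
      rw [eq_div_iff hγ0]
      field_simp at h
      linear_combination h
  have hmem := rf_conj_mem hxm (hL1 _ _ hy' hv' hQy')
  rw [← himg] at hmem
  have hinv : (rf Q (x + γ • f)).1 ((rf Q (x + γ • f)).1 (y + α • f)) = y + α • f :=
    LinearEquiv.congr_fun (refl_mul_self (x + γ • f)) (y + α • f)
  rwa [hinv] at hmem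

end Cfsg.Agent.Classical.MFrame
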