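import Cfsg.Agent.Lib.Classical.MonomFrame.Basic
import Cfsg.Agent.Lib.Classical.MonomFrame.Sphere

/-!
# A group larger than the monomial group has a short non-monomial reflection
-/

set_option autoImplicit false
set_option linter.unusedSectionVars false

namespace Cfsg.Agent.Classical.MFrame

open Module QuadraticMap OCount ORefl OOmega

variable {F : Type*} [Field F] [Finite F] {V : Type*} [AddCommGroup V] [Module F V] [FiniteDimensional F V]
variable {Q : QuadraticForm F V} {n : ℕ} (B : Frame Q n) {G : Subgroup ↥(Iso Q)}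

/-- A short unit vector that is neither an axis nor a root, with its reflection in the group. -/
def Frame.Found (G : Subgroup ↥(Iso Q)) : Prop :=
  ∃ u, Q u = B.c ∧ rf Q u ∈ G ∧ (B.supp u).card ≤ 4 ∧ ¬ B.IsAx u ∧
    ¬ ∃ i j, i ≠ j ∧ B.supp u = {i, j} ∧ B.co u i ^ 2 = B.co u j ^ 2

/-- The elements fixing the frame outside a set of places. -/
def Frame.fixOut (G : Subgroup ↥(Iso Q)) (S : Finset (Fin n)) : Subgroup ↥(Iso Q) where
  carrier := {g | g ∈ G ∧ ∀ i ∉ S, g.1 (B.bas i) = B.bas i}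
  one_mem' := ⟨one_mem G, fun _ _ => rfl⟩
  mul_mem' := by
    rintro g h ⟨hg, hg'⟩ ⟨hh, hh'⟩
    exact ⟨mul_mem hg hh, fun i hi => by show g.1 (h.1 (B.bas i)) = _; rw [hh' i hi, hg' i hi]⟩
  inv_mem' := by
    rintro g ⟨hg, hg'⟩
    refine ⟨inv_mem hg, fun i hi => ?_⟩
    apply g.1.injective
    show g.1 (g.1.symm (B.bas i)) = g.1 (B.bas i)
    rw [g.1.apply_symm_apply, hg' i hi]

/-- The monomial subgroup. -/
def Frame.monoIn (K : Subgroup ↥(Iso Q)) [Finite ↥(Iso Q)] : Subgroup ↥K where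
  carrier := {g | B.Mono g.1}
  one_mem' := B.mono_one
  mul_mem' := fun hg hh => hg.mul B hh
  inv_mem' := fun hg => hg.inv B

theorem finite_iso : Finite ↥(Iso Q) := by
  haveI : Finite V := Module.finite_of_finite F
  haveI : Finite (V ≃ₗ[F] V) := Finite.of_injective (fun e : V ≃ₗ[F] V => (e : V → V)) DFunLike.coe_injective
  infer_instance

theorem sum_sq_one {u : V} (hu : Q u = B.c) : ∑ i ∈ B.supp u, B.co u i ^ 2 = 1 := by
  have h := B.val_eq u
  rw [hu, ← B.sum_supp u (fun _ x => x ^ 2) (fun _ => by ring)] at h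
  exact mul_left_cancel₀ B.c_ne (by rw [mul_one]; exact h.symm)

/-- A monomial unit reflection belongs to an axis or a root. -/
theorem axis_or_root_of_mono {u : V} (hu : Q u = B.c) (h : B.Mono (rf Q u)) :
    B.IsAx u ∨ ∃ i j, i ≠ j ∧ B.supp u = {i, j} ∧ B.co u i ^ 2 = B.co u j ^ 2 := by
  classical
  have hne : u ≠ 0 := fun e => B.c_ne (by rw [← hu, e, QuadraticMap.map_zero])
  obtain ⟨A, hA, hrange⟩ := B.exists_coord_of_range h (W := Submodule.span F {u}) fun x => by
    show refl Q u x - x ∈ _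
    rw [refl_apply, sub_sub_cancel_left]
    exact neg_mem (Submodule.smul_mem _ _ (Submodule.mem_span_singleton_self u))
  rw [finrank_span_singleton hne] at hA
  have hsub : B.supp u ⊆ A := by
    intro i hi
    by_contra hiA
    have h1 := hrange u i hiA
    rw [B.co_sub, show (rf Q u).1 u = -u from ORefl.refl_self (hu ▸ B.c_ne), B.co_neg] at h1
    have : (2 : F) * B.co u i = 0 := by linear_combination -h1
    exact B.mem_supp.mp hi ((mul_eq_zero.mp this).resolve_left B.two)
  have hc2 := (Finset.card_le_card hsub).trans hA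
  by_cases h1 : ∃ i, ∀ j, j ≠ i → B.co u j = 0
  · obtain ⟨i, hi⟩ := h1
    exact Or.inl (B.isAx_of_supp hu hi)
  right
  push Not at h1
  have hs1 := sum_sq_one B hu
  obtain ⟨i, hi⟩ : (B.supp u).Nonempty := by
    by_contra h0
    rw [Finset.not_nonempty_iff_eq_empty.mp h0, Finset.sum_empty] at hs1
    exact zero_ne_one hs1
  obtain ⟨j, hji, hj⟩ := h1 i
  have hp : B.supp u = {i, j} := (Finset.eq_of_subset_of_card_le
    (Finset.insert_subset hi (Finset.singleton_subset_iff.mpr (B.mem_supp.mpr hj)))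
    (by rw [Finset.card_pair hji.symm]; omega)).symm
  have half : ∀ a b : Fin n, a ≠ b → B.co u a ≠ 0 → B.co u b ≠ 0 → 2 * B.co u a ^ 2 = 1 := by
    intro a b hab ha hb
    have himg : ∀ k, B.co ((rf Q u).1 (B.bas a)) k = (if a = k then 1 else 0) - 2 * B.co u a * B.co u k := fun k => by
      rw [B.rf_unit hu, B.co_sub, B.co_smul, B.co_bas,
        show ∑ i, B.co u i * B.co (B.bas a) i = B.co u a by
          rw [Finset.sum_eq_single a (fun i _ hi => by rw [B.co_bas_ne hi.symm, mul_zero])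
            (fun h => absurd (Finset.mem_univ a) h), B.co_bas_self, mul_one]]
    obtain ⟨l, hl⟩ := (h a).supp B
    by_contra hne
    have m1 : a ∈ B.supp ((rf Q u).1 (B.bas a)) := B.mem_supp.mpr (by
      rw [himg, if_pos rfl]; intro e; exact hne (by linear_combination -e))
    have m2 : b ∈ B.supp ((rf Q u).1 (B.bas a)) := B.mem_supp.mpr (by
      rw [himg, if_neg hab]; simp [ha, hb, B.two])
    rw [hl, Finset.mem_singleton] at m1 m2
    exact hab (m1.trans m2.symm)
  refine ⟨i, j, hji.symm, hp, mul_left_cancel₀ B.two ?_⟩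
  rw [half i j hji.symm (B.mem_supp.mp hi) hj, half j i hji hj (B.mem_supp.mp hi)]

section

variable (hsg : ∀ i, B.sg i ∈ G) (hG : HasAlt B G) (hn : 5 ≤ n)
include hsg hG hn

theorem rf_col_mem {g : ↥(Iso Q)} (hg : g ∈ G) (j : Fin n) : rf Q (g.1 (B.bas j)) ∈ G := rf_conj_mem hg (hsg j)

/-- A column that is a root leads to a short vector, once all columns are axes or roots. -/
theorem found_of_root_columns {g : ↥(Iso Q)} (hg : g ∈ G) (hgm : ¬ B.Mono g)
    (hall : ∀ j, B.IsAx (g.1 (B.bas j)) ∨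
      ∃ i k, i ≠ k ∧ B.supp (g.1 (B.bas j)) = {i, k} ∧ B.co (g.1 (B.bas j)) i ^ 2 = B.co (g.1 (B.bas j)) k ^ 2) :
    B.Found G := by
  classical
  obtain ⟨a, ha⟩ : ∃ a, ¬ B.IsAx (g.1 (B.bas a)) := by
    by_contra! h
    exact hgm h
  obtain ⟨i, j, hij, hs, hsq⟩ := (hall a).resolve_left ha
  obtain ⟨x, hx⟩ : ∃ x, x = g.1 (B.bas a) := ⟨_, rfl⟩
  rw [← hx] at hs hsq
  have hxc : Q x = B.c := by rw [hx, g.2, B.val]
  have orth : ∀ c d : Fin n, c ≠ d → ∑ k, B.co (g.1 (B.bas c)) k * B.co (g.1 (B.bas d)) k = 0 := fun c d hcd => by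
    have h := B.polar_eq (g.1 (B.bas c)) (g.1 (B.bas d))
    rw [polar_iso g.2, B.orth c d hcd] at h
    exact (mul_eq_zero.mp h.symm).resolve_left (mul_ne_zero B.two B.c_ne)
  have hxi : B.co x i ≠ 0 := B.mem_supp.mp (by rw [hs]; simp)
  have hxj : B.co x j ≠ 0 := B.mem_supp.mp (by rw [hs]; simp)
  -- a column away from the pair
  have far : ∀ c, c ≠ a → ¬ Disjoint (B.supp x) (B.supp (g.1 (B.bas c))) →
      B.supp (g.1 (B.bas c)) = {i, j} ∧
        B.co x i * B.co (g.1 (B.bas c)) i + B.co x j * B.co (g.1 (B.bas c)) j = 0 := by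
    intro c hca hnd
    obtain ⟨y, hy⟩ : ∃ y, y = g.1 (B.bas c) := ⟨_, rfl⟩
    rw [← hy] at hnd ⊢
    have hxy : B.co x i * B.co y i + B.co x j * B.co y j = 0 := by
      have h := orth a c hca.symm
      rw [← hx, ← hy, ← Finset.sum_subset (Finset.subset_univ (B.supp x)) fun k _ hk => by
        rw [B.notMem_supp.mp hk, zero_mul], hs, Finset.sum_pair hij] at h
      exact h
    refine ⟨?_, hxy⟩
    obtain ⟨k, hkx, hky⟩ := Finset.not_disjoint_iff.mp hnd
    have hboth : B.co y i ≠ 0 ∧ B.co y j ≠ 0 := by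
      rw [hs, Finset.mem_insert, Finset.mem_singleton] at hkx
      rw [B.mem_supp] at hky
      rcases hkx with rfl | rfl
      · refine ⟨hky, fun h => ?_⟩
        rw [h, mul_zero, add_zero] at hxy
        exact mul_ne_zero hxi hky hxy
      · refine ⟨fun h => ?_, hky⟩
        rw [h, mul_zero, zero_add] at hxy
        exact mul_ne_zero hxj hky hxy
    have hle : (B.supp y).card ≤ 2 := by
      rcases hall c with h | ⟨p, q, hpq, he, -⟩
      · obtain ⟨l, hl⟩ := (hy ▸ h).supp B
        rw [hl]; simp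
      · rw [hy, he]; exact Finset.card_le_two
    exact (Finset.eq_of_subset_of_card_le
      (Finset.insert_subset (B.mem_supp.mpr hboth.1) (Finset.singleton_subset_iff.mpr (B.mem_supp.mpr hboth.2)))
      (by rw [Finset.card_pair hij]; omega)).symm
  obtain ⟨c, hca, hdis⟩ : ∃ c, c ≠ a ∧ Disjoint (B.supp x) (B.supp (g.1 (B.bas c))) := by
    by_contra! hcon
    obtain ⟨c, hc, d, hd, hcd⟩ : ∃ c ∈ Finset.univ.erase a, ∃ d ∈ Finset.univ.erase a, c ≠ d :=
      Finset.one_lt_card.mp (by simp; omega)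
    obtain ⟨sc, oc⟩ := far c (Finset.mem_erase.mp hc).1 (hcon c (Finset.mem_erase.mp hc).1)
    obtain ⟨sd, od⟩ := far d (Finset.mem_erase.mp hd).1 (hcon d (Finset.mem_erase.mp hd).1)
    have h := orth c d hcd
    rw [← Finset.sum_subset (Finset.subset_univ (B.supp (g.1 (B.bas c)))) fun k _ hk => by
      rw [B.notMem_supp.mp hk, zero_mul], sc, Finset.sum_pair hij] at h
    have hci : B.co (g.1 (B.bas c)) i ≠ 0 := B.mem_supp.mp (by rw [sc]; simp)
    have hdi : B.co (g.1 (B.bas d)) i ≠ 0 := B.mem_supp.mp (by rw [sd]; simp)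
    have hsum := sum_sq_one B hxc
    rw [hs, Finset.sum_pair hij] at hsum
    have : B.co (g.1 (B.bas c)) i * B.co (g.1 (B.bas d)) i * (B.co x i ^ 2 + B.co x j ^ 2) = 0 := by
      linear_combination (B.co x j ^ 2) * h + (B.co (g.1 (B.bas d)) i * B.co x i) * oc -
        (B.co (g.1 (B.bas c)) j * B.co x j) * od
    rw [hsum, mul_one] at this
    exact mul_ne_zero hci hdi this
  -- the root on the two chosen places
  obtain ⟨σ, hσA, hσ, -⟩ := exists_even_map_on (S := Finset.univ) (A := ({i, j} : Finset (Fin n)))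
    (f := fun k => if k = i then a else c) (Finset.subset_univ _) (fun _ _ => Finset.mem_univ _) (by
      intro p hp q hq e
      simp only [Finset.coe_insert, Finset.coe_singleton, Set.mem_insert_iff, Set.mem_singleton_iff] at hp hq
      rcases hp with rfl | rfl <;> rcases hq with rfl | rfl <;> simp [hij.symm, hca, hca.symm] at e ⊢)
    (by rw [Finset.card_univ, Fintype.card_fin, Finset.card_pair hij]; omega)
  obtain ⟨h, hh, hhσ⟩ := hG σ hσA
  have hyx : h.1 x = B.co x i • B.bas a + B.co x j • B.bas c := by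
    conv_lhs => rw [← B.sum_co x]
    rw [← Finset.sum_subset (Finset.subset_univ (B.supp x)) fun k _ hk => by
      rw [B.notMem_supp.mp hk, zero_smul], hs, Finset.sum_pair hij, map_add, map_smul, map_smul, hhσ, hhσ,
      hσ i (by simp), hσ j (by simp), if_pos rfl, if_neg hij.symm]
  obtain ⟨z, hz⟩ : ∃ z, z = g.1 (h.1 x) := ⟨_, rfl⟩
  have hzG : rf Q z ∈ G := hz ▸ rf_conj_mem hg (rf_conj_mem hh (hx ▸ rf_col_mem B hsg hG hn hg a))
  have hzc : Q z = B.c := by rw [hz, g.2, h.2, hxc]
  have hco : ∀ k, B.co z k = B.co x i * B.co x k + B.co x j * B.co (g.1 (B.bas c)) k := fun k => by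
    rw [hz, hyx, map_add, map_smul, map_smul, ← hx, B.co_add, B.co_smul, B.co_smul]
  have hsupp : B.supp z = B.supp x ∪ B.supp (g.1 (B.bas c)) := by
    ext k
    rw [Finset.mem_union, B.mem_supp, hco]
    by_cases h1 : k ∈ B.supp x
    · have h2 : B.co (g.1 (B.bas c)) k = 0 := B.notMem_supp.mp (Finset.disjoint_left.mp hdis h1)
      simp [h1, h2, hxi, B.mem_supp.mp h1]
    · simp [B.mem_supp, B.notMem_supp.mp h1, hxj]
  have hc1 : 1 ≤ (B.supp (g.1 (B.bas c))).card := by
    by_contra h0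
    have := sum_sq_one B (u := g.1 (B.bas c)) (by rw [g.2, B.val])
    rw [Finset.card_eq_zero.mp (by omega : (B.supp (g.1 (B.bas c))).card = 0), Finset.sum_empty] at this
    exact zero_ne_one this
  have hc2 : (B.supp (g.1 (B.bas c))).card ≤ 2 := by
    rcases hall c with h' | ⟨p, q, hpq, he, -⟩
    · obtain ⟨l, hl⟩ := h'.supp B
      rw [hl]; simp
    · rw [he]; exact Finset.card_le_two
  have hcz : (B.supp z).card = 2 + (B.supp (g.1 (B.bas c))).card := by
    rw [hsupp, Finset.card_union_of_disjoint hdis, hs, Finset.card_pair hij]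
  refine ⟨z, hzc, hzG, by omega, fun hax => ?_, ?_⟩
  · obtain ⟨l, hl⟩ := hax.supp B
    rw [hl, Finset.card_singleton] at hcz
    omega
  · rintro ⟨p, q, hpq, he, -⟩
    rw [he, Finset.card_pair hpq] at hcz
    omega

theorem found_of_nonMono_fix : ∀ (s : ℕ) (S : Finset (Fin n)), S.card = s →
    (∃ g ∈ B.fixOut G S, ¬ B.Mono g) → B.Found G := by
  classical
  haveI := finite_iso (Q := Q)
  intro s
  induction s using Nat.strong_induction_on with
  | _ s ih =>
    rintro S hS ⟨g₀, hg₀, hg₀m⟩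
    by_contra hno
    have hcolS : ∀ g ∈ B.fixOut G S, ∀ j ∈ S, B.supp (g.1 (B.bas j)) ⊆ S := by
      intro g hg j hj k hk
      by_contra hkS
      have hjk : j ≠ k := fun e => hkS (e ▸ hj)
      have h := polar_iso g.2 (B.bas k) (B.bas j)
      rw [hg.2 k hkS, B.polar_bas, B.orth k j hjk.symm] at h
      exact B.mem_supp.mp hk ((mul_eq_zero.mp h).resolve_left (mul_ne_zero B.two B.c_ne))
    have haxout : ∀ g ∈ B.fixOut G S, ∀ j ∉ S, B.IsAx (g.1 (B.bas j)) := fun g hg j hj => by
      rw [hg.2 j hj]; exact B.isAx_bas j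
    by_cases hs4 : s ≤ 4
    · refine hno (found_of_root_columns B hsg hG hn hg₀.1 hg₀m fun j => ?_)
      by_cases hj : j ∈ S
      · by_contra hcon
        push Not at hcon
        exact hno ⟨_, by rw [g₀.2, B.val], rf_col_mem B hsg hG hn hg₀.1 j,
          (Finset.card_le_card (hcolS g₀ hg₀ j hj)).trans (hS ▸ hs4), hcon.1,
          fun ⟨p, q, h1, h2, h3⟩ => hcon.2 p q h1 h2 h3⟩
      · exact Or.inl (haxout g₀ hg₀ j hj)
    push Not at hs4
    -- fixing one more place is monomial
    have hfix : ∀ g ∈ B.fixOut G S, ∀ k ∈ S, g.1 (B.bas k) = B.bas k → B.Mono g := by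
      intro g hg k hk hgk
      by_contra hgm
      refine hno (ih (s - 1) (by omega) (S.erase k) (by rw [Finset.card_erase_of_mem hk, hS]) ⟨g, ⟨hg.1, fun i hi => ?_⟩, hgm⟩)
      by_cases hik : i = k
      · exact hik ▸ hgk
      · exact hg.2 i fun h => hi (Finset.mem_erase.mpr ⟨hik, h⟩)
    let Gen : V → Prop := fun u => ¬ B.IsAx u ∧
      ¬ ∃ i j, i ≠ j ∧ B.supp u = {i, j} ∧ B.co u i ^ 2 = B.co u j ^ 2
    -- a general column is full
    have hfull : ∀ g ∈ B.fixOut G S, ∀ j ∈ S, Gen (g.1 (B.bas j)) → B.supp (g.1 (B.bas j)) = S := by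
      intro g hg j hj hgen
      by_contra hne
      obtain ⟨k, hkS, hk⟩ : ∃ k ∈ S, k ∉ B.supp (g.1 (B.bas j)) := by
        by_contra! h
        exact hne (Finset.Subset.antisymm (hcolS g hg j hj) h)
      have hzero : ∀ i, B.co (g.1 (B.bas j)) i = 0 → (rf Q (g.1 (B.bas j))).1 (B.bas i) = B.bas i := fun i hi =>
        refl_fix (by rw [polar_comm, B.polar_bas, hi, mul_zero])
      have hr : rf Q (g.1 (B.bas j)) ∈ B.fixOut G S := ⟨rf_col_mem B hsg hG hn hg.1 j, fun i hi =>
        hzero i (B.notMem_supp.mp fun h => hi (hcolS g hg j hj h))⟩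
      rcases axis_or_root_of_mono B (by rw [g.2, B.val]) (hfix _ hr k hkS (hzero k (B.notMem_supp.mp hk))) with h | h
      · exact hgen.1 h
      · exact hgen.2 h
    -- two general columns
    have htwo : ∀ g ∈ B.fixOut G S, ¬ B.Mono g →
        ∃ a ∈ S, ∃ b ∈ S, a ≠ b ∧ Gen (g.1 (B.bas a)) ∧ Gen (g.1 (B.bas b)) := by
      intro g hg hgm
      obtain ⟨a, ha⟩ : ∃ a, Gen (g.1 (B.bas a)) := by
        by_contra! h
        refine hno (found_of_root_columns B hsg hG hn hg.1 hgm fun j => ?_)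
        by_cases hax : B.IsAx (g.1 (B.bas j))
        · exact Or.inl hax
        · exact Or.inr (by by_contra hr; exact h j ⟨hax, hr⟩)
      have haS : a ∈ S := by
        by_contra h; exact ha.1 (haxout g hg a h)
      by_contra! hcon
      have hu := hfull g hg a haS ha
      obtain ⟨u, hud⟩ : ∃ u, u = g.1 (B.bas a) := ⟨_, rfl⟩
      rw [← hud] at hu
      have orth : ∀ c d : Fin n, c ≠ d → ∑ k, B.co (g.1 (B.bas c)) k * B.co (g.1 (B.bas d)) k = 0 :=
        fun c d hcd => by
          have h := B.polar_eq (g.1 (B.bas c)) (g.1 (B.bas d))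
          rw [polar_iso g.2, B.orth c d hcd] at h
          exact (mul_eq_zero.mp h.symm).resolve_left (mul_ne_zero B.two B.c_ne)
      have hroot : ∀ c ∈ S.erase a, (B.supp (g.1 (B.bas c))).card = 2 := by
        intro c hc
        obtain ⟨hca, hcS⟩ := Finset.mem_erase.mp hc
        have hng := hcon a haS c hcS hca.symm ha
        by_cases hax : B.IsAx (g.1 (B.bas c))
        · obtain ⟨l, hl⟩ := hax.supp B
          exfalso
          have h := orth a c hca.symm
          rw [← Finset.sum_subset (Finset.subset_univ ({l} : Finset (Fin n))) fun k _ hk => by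
            rw [show B.co (g.1 (B.bas c)) k = 0 from B.notMem_supp.mp (by rwa [hl]), mul_zero], Finset.sum_singleton] at h
          have hlS : l ∈ B.supp u := hu ▸ hcolS g hg c hcS (by rw [hl]; simp)
          exact mul_ne_zero (B.mem_supp.mp (hud ▸ hlS)) (B.mem_supp.mp (by rw [hl]; simp)) h
        · obtain ⟨p, q, hpq, he, -⟩ := not_not.mp fun h => hng ⟨hax, h⟩
          rw [he, Finset.card_pair hpq]
      have hpair : ∀ c ∈ S.erase a, ∀ d ∈ S.erase a, c ≠ d →
          Disjoint (B.supp (g.1 (B.bas c))) (B.supp (g.1 (B.bas d))) := by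
        intro c hc d hd hcd
        rw [Finset.disjoint_left]
        intro i hic hid
        obtain ⟨j, hj, hji⟩ := Finset.exists_mem_ne (s := B.supp (g.1 (B.bas c))) (by rw [hroot c hc]; norm_num) i
        have he : B.supp (g.1 (B.bas c)) = {i, j} := (Finset.eq_of_subset_of_card_le
          (Finset.insert_subset hic (Finset.singleton_subset_iff.mpr hj))
          (by rw [Finset.card_pair hji.symm, hroot c hc])).symm
        have hcd' := orth c d hcd
        have hua := orth a c (Finset.mem_erase.mp hc).1.symm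
        have hud' := orth a d (Finset.mem_erase.mp hd).1.symm
        rw [← Finset.sum_subset (Finset.subset_univ (B.supp (g.1 (B.bas c)))) fun k _ hk => by
          rw [B.notMem_supp.mp hk, zero_mul], he, Finset.sum_pair hji.symm] at hcd'
        rw [← Finset.sum_subset (Finset.subset_univ (B.supp (g.1 (B.bas c)))) fun k _ hk => by
          rw [B.notMem_supp.mp hk, mul_zero], he, Finset.sum_pair hji.symm, ← hud] at hua
        have hci := B.mem_supp.mp hic
        have hcj := B.mem_supp.mp hj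
        have hdi := B.mem_supp.mp hid
        have hdj : B.co (g.1 (B.bas d)) j ≠ 0 := fun h => by
          rw [h, mul_zero, add_zero] at hcd'
          exact mul_ne_zero hci hdi hcd'
        have hde : B.supp (g.1 (B.bas d)) = {i, j} := (Finset.eq_of_subset_of_card_le
          (Finset.insert_subset hid (Finset.singleton_subset_iff.mpr (B.mem_supp.mpr hdj)))
          (by rw [Finset.card_pair hji.symm, hroot d hd])).symm
        rw [← Finset.sum_subset (Finset.subset_univ (B.supp (g.1 (B.bas d)))) fun k _ hk => by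
          rw [B.notMem_supp.mp hk, mul_zero], hde, Finset.sum_pair hji.symm, ← hud] at hud'
        have hsum := sum_sq_one B (u := g.1 (B.bas c)) (by rw [g.2, B.val])
        rw [he, Finset.sum_pair hji.symm] at hsum
        have hui : B.co u i ≠ 0 := B.mem_supp.mp (hu ▸ hcolS g hg c (Finset.mem_erase.mp hc).2 hic)
        have : B.co u i * B.co (g.1 (B.bas d)) i *
            (B.co (g.1 (B.bas c)) i ^ 2 + B.co (g.1 (B.bas c)) j ^ 2) = 0 := by
          linear_combination (B.co (g.1 (B.bas d)) i * B.co (g.1 (B.bas c)) i) * hua +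
            B.co (g.1 (B.bas c)) j ^ 2 * hud' - (B.co u j * B.co (g.1 (B.bas c)) j) * hcd'
        rw [hsum, mul_one] at this
        exact mul_ne_zero hui hdi this
      have h1 := Finset.card_le_card (s := (S.erase a).biUnion fun c => B.supp (g.1 (B.bas c))) (t := S)
        (Finset.biUnion_subset.mpr fun c hc => hcolS g hg c (Finset.mem_erase.mp hc).2)
      rw [Finset.card_biUnion hpair, Finset.sum_congr rfl hroot, Finset.sum_const, smul_eq_mul,
        Finset.card_erase_of_mem haS, hS] at h1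
      omega
    -- frames of different cosets share no line
    have hshare : ∀ g ∈ B.fixOut G S, ∀ h ∈ B.fixOut G S, ∀ a ∈ S, ∀ b ∈ S,
        (g.1 (B.bas a) = h.1 (B.bas b) ∨ g.1 (B.bas a) = -h.1 (B.bas b)) → B.Mono (g⁻¹ * h) := by
      intro g hg h hh a ha b hb e
      obtain ⟨σ, hσA, hσ, hσo⟩ := exists_even_map_on (S := S) (A := ({a} : Finset (Fin n))) (f := fun _ => b)
        (Finset.singleton_subset_iff.mpr ha) (fun _ _ => hb) (by simp [Set.InjOn]) (by simp; omega)
      obtain ⟨π, hπ, hπσ⟩ := hG σ hσA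
      have hπK : π ∈ B.fixOut G S := ⟨hπ, fun i hi => by rw [hπσ, hσo i hi]⟩
      have hk : ((g⁻¹ * h).1 (B.bas b) = B.bas a) ∨ ((g⁻¹ * h).1 (B.bas b) = -B.bas a) := by
        show g.1.symm (h.1 (B.bas b)) = _ ∨ g.1.symm (h.1 (B.bas b)) = _
        rw [LinearEquiv.symm_apply_eq, LinearEquiv.symm_apply_eq, map_neg]
        rcases e with e | e
        · exact Or.inl e.symm
        · exact Or.inr (by rw [e, neg_neg])
      have hπa : π.1 (B.bas a) = B.bas b := by rw [hπσ, hσ a (by simp)]
      rcases hk with hk | hk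
      · refine (Frame.IsPerm.mono B hπσ).mul_cancel_left B (hfix _ (mul_mem hπK (mul_mem (inv_mem hg) hh)) b hb ?_)
        show π.1 ((g⁻¹ * h).1 (B.bas b)) = _
        rw [hk, hπa]
      · refine (Frame.IsPerm.mono B hπσ).mul_cancel_left B ((B.mono_sg b).mul_cancel_left B (hfix _ ?_ b hb ?_))
        · exact mul_mem ⟨hsg b, fun i hi => B.sg_ne fun e => hi (e ▸ hb)⟩ (mul_mem hπK (mul_mem (inv_mem hg) hh))
        · show (B.sg b).1 (π.1 ((g⁻¹ * h).1 (B.bas b))) = _
          rw [hk, map_neg, hπa, map_neg, B.sg_self, neg_neg]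
    -- the count
    obtain ⟨H, hH⟩ : ∃ H, H = B.monoIn (B.fixOut G S) := ⟨_, rfl⟩
    have hmemH : ∀ x : ↥(B.fixOut G S), x ∈ H ↔ B.Mono x.1 := fun x => by rw [hH]; rfl
    haveI : Fintype (↥(B.fixOut G S) ⧸ H) := Fintype.ofFinite _
    have hpick : ∀ q : {q : ↥(B.fixOut G S) ⧸ H // q ≠ ((1 : ↥(B.fixOut G S)) : ↥(B.fixOut G S) ⧸ H)},
        ∃ (g : ↥(B.fixOut G S)) (a b : Fin n), (g : ↥(B.fixOut G S) ⧸ H) = q.1 ∧ a ∈ S ∧ b ∈ S ∧ a ≠ b ∧
          Gen (g.1.1 (B.bas a)) ∧ Gen (g.1.1 (B.bas b)) := by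
      rintro ⟨q, hq⟩
      obtain ⟨g, rfl⟩ := QuotientGroup.mk_surjective q
      have hgm : ¬ B.Mono g.1 := fun h => hq (QuotientGroup.eq.mpr (by rw [mul_one, inv_mem_iff, hmemH]; exact h))
      obtain ⟨a, ha, b, hb, hab, h1, h2⟩ := htwo g.1 g.2 hgm
      exact ⟨g, a, b, rfl, ha, hb, hab, h1, h2⟩
    choose gq aq bq hgq haq hbq habq hga hgb using hpick
    obtain ⟨col, hcol⟩ : ∃ col : {q : ↥(B.fixOut G S) ⧸ H // q ≠ ((1 : ↥(B.fixOut G S)) : ↥(B.fixOut G S) ⧸ H)} × Bool → V,
        col = fun x => (gq x.1).1.1 (B.bas (if x.2 then aq x.1 else bq x.1)) := ⟨_, rfl⟩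
    have hcolK : ∀ x, rf Q (col x) ∈ B.fixOut G S ∧ B.supp (col x) = S ∧ Q (col x) = B.c ∧ ¬ B.Mono (rf Q (col x)) := by
      intro x
      obtain ⟨j, hjS, hgen, hj⟩ : ∃ j, j ∈ S ∧ Gen ((gq x.1).1.1 (B.bas j)) ∧ col x = (gq x.1).1.1 (B.bas j) := by
        rw [hcol]
        rcases x with ⟨q, _ | _⟩
        · exact ⟨bq q, hbq q, hgb q, rfl⟩
        · exact ⟨aq q, haq q, hga q, rfl⟩
      rw [hj]
      have hval : Q ((gq x.1).1.1 (B.bas j)) = B.c := by rw [(gq x.1).1.2, B.val]
      refine ⟨⟨rf_col_mem B hsg hG hn (gq x.1).2.1 j, fun i hi => refl_fix ?_⟩,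
        hfull _ (gq x.1).2 j hjS hgen, hval, fun hm => ?_⟩
      · rw [polar_comm, B.polar_bas, B.notMem_supp.mp fun h => hi (hcolS _ (gq x.1).2 j hjS h), mul_zero]
      · rcases axis_or_root_of_mono B hval hm with h | h
        · exact hgen.1 h
        · exact hgen.2 h
    obtain ⟨Φ, hΦ⟩ : ∃ Φ : {q : ↥(B.fixOut G S) ⧸ H // q ≠ ((1 : ↥(B.fixOut G S)) : ↥(B.fixOut G S) ⧸ H)} × Bool →
        {q : ↥(B.fixOut G S) ⧸ H // q ≠ ((1 : ↥(B.fixOut G S)) : ↥(B.fixOut G S) ⧸ H)},
        ∀ x, (Φ x).1 = ((⟨_, (hcolK x).1⟩ : ↥(B.fixOut G S)) : ↥(B.fixOut G S) ⧸ H) :=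
      ⟨fun x => ⟨_, fun e => (hcolK x).2.2.2 (by
        have := QuotientGroup.eq.mp e
        rwa [mul_one, inv_mem_iff, hmemH] at this)⟩, fun _ => rfl⟩
    obtain ⟨g₁, hg₁⟩ : ∃ g : ↥(B.fixOut G S), g.1 = g₀ := ⟨⟨g₀, hg₀⟩, rfl⟩
    haveI : Nonempty {q : ↥(B.fixOut G S) ⧸ H // q ≠ ((1 : ↥(B.fixOut G S)) : ↥(B.fixOut G S) ⧸ H)} :=
      ⟨⟨(g₁ : ↥(B.fixOut G S) ⧸ H), fun e => hg₀m (by
        have := QuotientGroup.eq.mp e
        rw [mul_one, inv_mem_iff, hmemH, hg₁] at this
        exact this)⟩⟩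
    obtain ⟨x, y, hxy, hΦxy⟩ := Fintype.exists_ne_map_eq_of_card_lt Φ (by
      rw [Fintype.card_prod, Fintype.card_bool]
      have := Fintype.card_pos (α := {q : ↥(B.fixOut G S) ⧸ H // q ≠ ((1 : ↥(B.fixOut G S)) : ↥(B.fixOut G S) ⧸ H)})
      omega)
    have hmono : B.Mono ((rf Q (col x))⁻¹ * rf Q (col y)) := by
      have h1 := congrArg Subtype.val hΦxy
      rw [hΦ, hΦ] at h1
      exact (hmemH _).mp (QuotientGroup.eq.mp h1)
    have hnotspan : col x ∉ Submodule.span F {col y} := by
      intro hmem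
      obtain ⟨t, ht⟩ := Submodule.mem_span_singleton.mp hmem
      have h1 := (hcolK x).2.2.1
      rw [← ht, QuadraticMap.map_smul, (hcolK y).2.2.1, smul_eq_mul] at h1
      have ht2 : (t - 1) * (t + 1) = 0 := by
        have := mul_right_cancel₀ B.c_ne (h1.trans (one_mul B.c).symm)
        linear_combination this
      have e : col x = col y ∨ col x = -col y := by
        rcases mul_eq_zero.mp ht2 with h | h
        · left; rw [← ht, sub_eq_zero.mp h, one_smul]
        · right; rw [← ht, eq_neg_of_add_eq_zero_left h, neg_one_smul]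
      obtain ⟨q, p⟩ := x
      obtain ⟨q', p'⟩ := y
      simp only [hcol] at e
      have hq : q = q' := by
        have hm := hshare _ (gq q).2 _ (gq q').2 (if p then aq q else bq q) (by split_ifs; exacts [haq q, hbq q])
          (if p' then aq q' else bq q') (by split_ifs; exacts [haq q', hbq q']) e
        apply Subtype.ext
        rw [← hgq q, ← hgq q']
        exact QuotientGroup.eq.mpr ((hmemH _).mpr hm)
      subst hq
      have hne : (if p then aq q else bq q) ≠ (if p' then aq q else bq q) := by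
        cases p <;> cases p' <;> simp only [Bool.false_eq_true, if_false, if_true] <;>
          first | exact absurd rfl hxy | exact habq q | exact (habq q).symm
      have hzero := B.orth _ _ hne
      rw [← polar_iso (gq q).1.2] at hzero
      rcases e with e | e <;> rw [e] at hzero
      · rw [polar_self_two, (gq q).1.2, B.val] at hzero
        exact mul_ne_zero B.two B.c_ne hzero
      · rw [polar_neg_left, polar_self_two, (gq q).1.2, B.val, neg_eq_zero] at hzero
        exact mul_ne_zero B.two B.c_ne hzero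
    obtain ⟨w, hw, hwx⟩ := exists_polar_sep B.pnd hnotspan 1
    have hQx : Q (col x) ≠ 0 := (hcolK x).2.2.1 ▸ B.c_ne
    have hne0 : ∀ z, col z ≠ 0 := fun z e => B.c_ne (by rw [← (hcolK z).2.2.1, e, QuadraticMap.map_zero])
    obtain ⟨A, hA, hrange⟩ := B.exists_coord_of_range hmono (W := Submodule.span F {col x} ⊔ Submodule.span F {col y}) fun v => by
      show (refl Q (col x))⁻¹ (refl Q (col y) v) - v ∈ _
      rw [refl_inv, refl_apply, refl_apply]
      rw [show ∀ a b : V, v - a - b - v = -(b + a) from fun a b => by abel]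
      exact neg_mem (add_mem (Submodule.mem_sup_left (Submodule.smul_mem _ _ (Submodule.mem_span_singleton_self _)))
        (Submodule.mem_sup_right (Submodule.smul_mem _ _ (Submodule.mem_span_singleton_self _))))
    have hA4 : A.card ≤ 4 := hA.trans (by
      have := Submodule.finrank_add_le_finrank_add_finrank (Submodule.span F {col x}) (Submodule.span F {col y})
      rw [finrank_span_singleton (hne0 x), finrank_span_singleton (hne0 y)] at this
      omega)
    have hsub : B.supp (col x) ⊆ A := by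
      intro i hi
      by_contra hiA
      have h1 := hrange w i hiA
      have hy0 : polar Q (col y) w = 0 := by
        rw [polar_comm]; exact hw _ (Submodule.mem_span_singleton_self _)
      have e : ((rf Q (col x))⁻¹ * rf Q (col y)).1 w - w = (-((Q (col x))⁻¹ * polar Q (col x) w)) • col x := by
        show (refl Q (col x))⁻¹ (refl Q (col y) w) - w = _
        rw [refl_inv, refl_fix hy0, refl_apply, sub_sub_cancel_left, neg_smul]
      rw [e, B.co_smul] at h1
      refine B.mem_supp.mp hi ((mul_eq_zero.mp h1).resolve_left ?_)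
      exact neg_ne_zero.mpr (mul_ne_zero (inv_ne_zero hQx) (by rw [polar_comm, hwx]; exact one_ne_zero))
    have := Finset.card_le_card hsub
    rw [(hcolK x).2.1, hS] at this
    omega

theorem found_of_not_mono (h : ∃ g ∈ G, ¬ B.Mono g) : B.Found G := by
  obtain ⟨g, hg, hgm⟩ := h
  exact found_of_nonMono_fix B hsg hG hn _ Finset.univ rfl ⟨g, ⟨hg, fun i hi => absurd (Finset.mem_univ i) hi⟩, hgm⟩

end

end Cfsg.Agent.Classical.MFrame
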