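import Cfsg.Agent.Lib.Classical.MonomFrame.Pairs

/-!
# The even-dimensional conclusion
-/

set_option autoImplicit false
set_option linter.unusedSectionVars false

namespace Cfsg.Agent.Classical.MFrame

open Module QuadraticMap OCount ORefl OOmega

variable {F : Type*} [Field F] [Finite F] {V : Type*} [AddCommGroup V] [Module F V] [FiniteDimensional F V]
variable {Q : QuadraticForm F V} {m : ℕ} (B : Frame Q (m + 1))

/-- A non-monomial element fixing one frame vector gives the pairs of unit reflections orthogonal to it. -/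
theorem Frame.stab_pairs (hp : (Nat.card F).Prime) (hodd : Odd m) (hm : 7 ≤ m) {H : Subgroup ↥(Iso Q)}
    (hH : H ≤ commutator ↥(Iso Q)) (hM : ∀ g ∈ commutator ↥(Iso Q), B.Mono g → g ∈ H) {k : Fin (m + 1)}
    {g₀ : ↥(Iso Q)} (hg₀ : g₀ ∈ H) (hfix₀ : g₀.1 (B.bas k) = B.bas k) (hm₀ : ¬ B.Mono g₀) :
    ∀ u, Q u = B.c → B.co u k = 0 → ∀ e, e ≠ k → rf Q u * B.sg e ∈ H := by
  classical
  have hd : 2 ≤ finrank F V := B.finrank_eq.symm ▸ (by omega)
  have hpairs : ∀ a b, a ≠ b → B.sg a * B.sg b ∈ H := fun a b _ =>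
    hM _ (B.sg_pair_mem (by omega) a b) ((B.mono_sg a).mul B (B.mono_sg b))
  obtain ⟨z, hz⟩ : ∃ z, z = B.flip (Finset.univ.erase k) := ⟨_, rfl⟩
  have hzk : z.1 (B.bas k) = B.bas k := by rw [hz, B.flip_bas, if_neg (Finset.notMem_erase k _)]
  have hzz : z * z = 1 := by rw [hz, B.flip_mul, symmDiff_self]; exact B.flip_empty
  have hzc : ∀ g : ↥(Iso Q), g.1 (B.bas k) = B.bas k → g * z = z * g := by
    intro g hg
    refine Subtype.ext (LinearEquiv.ext fun x => ?_)
    show g.1 (z.1 x) = z.1 (g.1 x)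
    have hzx : ∀ y, z.1 y = -y + (2 * B.co y k) • B.bas k := fun y => B.ext_co fun j => by
      rw [hz, B.co_flip, B.co_add, B.co_neg, B.co_smul, B.co_bas]
      by_cases h : k = j
      · subst h; simp; ring
      · simp [h, Ne.symm h]
    have hco : B.co (g.1 x) k = B.co x k := by
      have h := polar_iso g.2 (B.bas k) x
      rw [hg, B.polar_bas, B.polar_bas] at h
      exact mul_left_cancel₀ (mul_ne_zero B.two B.c_ne) h
    rw [hzx, hzx, map_add, map_neg, map_smul, hg, hco]
  -- the restricted space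
  obtain ⟨V', hV'⟩ : ∃ V' : Submodule F V, V' = B.sub (Finset.univ.erase k) := ⟨_, rfl⟩
  have hmemV : ∀ x, x ∈ V' ↔ B.co x k = 0 := fun x => by
    rw [hV', B.mem_sub]
    exact ⟨fun h => h k (Finset.notMem_erase k _), fun h i hi => by
      rw [show i = k by simpa using hi]; exact h⟩
  have hbasV : ∀ i : Fin m, B.bas (k.succAbove i) ∈ V' := fun i => (hmemV _).mpr (B.co_bas_ne (Fin.succAbove_ne k i))
  obtain ⟨E, hE⟩ : ∃ E : V' ≃ₗ[F] (Fin m → F), ∀ x i, E x i = B.co x.1 (k.succAbove i) := by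
    let f : V' →ₗ[F] (Fin m → F) :=
      { toFun := fun x i => B.co x.1 (k.succAbove i)
        map_add' := fun x y => funext fun i => B.co_add _ _ _
        map_smul' := fun t x => funext fun i => B.co_smul _ _ _ }
    refine ⟨LinearEquiv.ofBijective f ⟨fun x y h => Subtype.ext (B.ext_co fun j => ?_), fun c => ?_⟩, fun _ _ => rfl⟩
    · by_cases hj : j = k
      · rw [hj, (hmemV _).mp x.2, (hmemV _).mp y.2]
      · obtain ⟨i, rfl⟩ := Fin.exists_succAbove_eq hj
        exact congrFun h i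
    · refine ⟨⟨∑ i, c i • B.bas (k.succAbove i), sum_mem fun i _ => Submodule.smul_mem _ _ (hbasV i)⟩, funext fun j => ?_⟩
      show B.co (∑ i, c i • B.bas (k.succAbove i)) (k.succAbove j) = c j
      have hs : ∀ g : Fin m → V, B.co (∑ i, g i) (k.succAbove j) = ∑ i, B.co (g i) (k.succAbove j) :=
        fun g => by simp [Frame.co]
      simp [hs, B.co_smul, B.co_bas, Fin.succAbove_right_inj]
  let b' : Basis (Fin m) F V' := Basis.ofEquivFun E
  have hb' : ∀ i, (b' i).1 = B.bas (k.succAbove i) := fun i => by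
    have : b' i = ⟨_, hbasV i⟩ := by
      rw [Basis.coe_ofEquivFun]
      apply E.injective
      rw [E.apply_symm_apply]
      funext j
      rw [hE, B.co_bas]
      simp [Pi.single_apply, Fin.succAbove_right_inj, eq_comm]
    rw [this]
  let B' : Frame (QuadraticMap.comp Q V'.subtype) m :=
    { bas := b'
      c := B.c
      c_ne := B.c_ne
      two := B.two
      val := fun i => show Q (b' i).1 = B.c by rw [hb', B.val]
      orth := fun i j hij => show polar Q (b' i).1 (b' j).1 = 0 by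
        rw [hb', hb', B.orth _ _ (Fin.succAbove_right_injective.ne hij)] }
  have hco' : ∀ (x : V') i, B'.co x i = B.co x.1 (k.succAbove i) := fun x i => by
    show b'.repr x i = _
    rw [← hE]; rfl
  -- the restricted group
  let G : Subgroup ↥(Iso (QuadraticMap.comp Q V'.subtype)) :=
    { carrier := {g' | ∃ h : ↥(Iso Q), h.1 (B.bas k) = B.bas k ∧ (h ∈ H ∨ h * z ∈ H) ∧ ∀ x : V', h.1 x.1 = (g'.1 x).1}
      one_mem' := ⟨1, rfl, Or.inl (one_mem H), fun _ => rfl⟩
      mul_mem' := by
        rintro a b ⟨h, hk, hh, ha⟩ ⟨h', hk', hh', hb⟩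
        refine ⟨h * h', by show h.1 (h'.1 _) = _; rw [hk', hk], ?_, fun x => by
          show h.1 (h'.1 x.1) = (a.1 (b.1 x)).1; rw [hb, ha]⟩
        rcases hh with hx | hx <;> rcases hh' with hy | hy
        · exact Or.inl (mul_mem hx hy)
        · exact Or.inr (by rw [mul_assoc]; exact mul_mem hx hy)
        · exact Or.inr (by rw [mul_assoc, hzc h' hk', ← mul_assoc]; exact mul_mem hx hy)
        · refine Or.inl ?_
          have := mul_mem hx hy
          rwa [mul_assoc h z, ← mul_assoc z, ← hzc h' hk', mul_assoc h' z z, hzz, mul_one] at this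
      inv_mem' := by
        rintro a ⟨h, hk, hh, ha⟩
        have hk' : (h⁻¹).1 (B.bas k) = B.bas k := by
          apply h.1.injective
          show h.1 (h.1.symm (B.bas k)) = h.1 (B.bas k)
          rw [h.1.apply_symm_apply, hk]
        refine ⟨h⁻¹, hk', ?_, fun x => ?_⟩
        · rcases hh with hx | hx
          · exact Or.inl (inv_mem hx)
          · refine Or.inr ?_
            have := inv_mem hx
            rwa [mul_inv_rev, inv_eq_of_mul_eq_one_left hzz, ← hzc _ hk'] at this
        · apply h.1.injective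
          show h.1 (h.1.symm x.1) = h.1 ((a.1.symm x)).1
          rw [h.1.apply_symm_apply, ha, a.1.apply_symm_apply] }
  have hres : ∀ (u : V') (x : V'), (rf Q u.1).1 x.1 = ((rf (QuadraticMap.comp Q V'.subtype) u).1 x).1 := fun u x => by
    show refl Q u.1 x.1 = (refl (QuadraticMap.comp Q V'.subtype) u x).1
    rw [refl_apply, refl_apply]
    rfl
  have hne : ∀ {e}, e ≠ k → (B.sg e).1 (B.bas k) = B.bas k := fun he => B.sg_ne he
  have hsgz : ∀ e, e ≠ k → B.sg e * z ∈ H := by
    intro e he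
    have h1 : B.flip {e} = B.sg e := B.iso_ext_co fun x j => by rw [B.co_flip, B.co_sg]; simp [eq_comm]
    rw [← h1, hz, B.flip_mul]
    refine B.flip_induction (O := Finset.univ) (P := fun f => f ∈ H) (one_mem H)
      (fun a _ b _ hab f hf => mul_mem (hpairs a b hab) hf) _ (Finset.subset_univ _) ?_
    have hs : symmDiff ({e} : Finset (Fin (m + 1))) (Finset.univ.erase k) = (Finset.univ.erase k).erase e := by
      ext j
      by_cases hj : j = e <;> simp [Finset.mem_symmDiff, hj, he]
    rw [hs, Finset.card_erase_of_mem (by simp [he]), Finset.card_erase_of_mem (Finset.mem_univ k), Finset.card_univ,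
      Fintype.card_fin]
    obtain ⟨r, hr⟩ := hodd
    exact ⟨r, by omega⟩
  have hsg : ∀ i, B'.sg i ∈ G := fun i => by
    refine ⟨B.sg (k.succAbove i), hne (Fin.succAbove_ne k i), Or.inr (hsgz _ (Fin.succAbove_ne k i)), fun x => ?_⟩
    show (rf Q (B.bas (k.succAbove i))).1 x.1 = _
    rw [← hb' i]
    exact hres _ _
  have hG : HasAlt B' G := by
    intro σ hσ
    obtain ⟨τ, hτ⟩ : ∃ τ, τ = σ.extendDomain (finSuccAboveEquiv k) := ⟨_, rfl⟩
    have hτA : τ ∈ alternatingGroup (Fin (m + 1)) := by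
      rw [Equiv.Perm.mem_alternatingGroup, hτ, Equiv.Perm.sign_extendDomain]
      exact Equiv.Perm.mem_alternatingGroup.mp hσ
    have hτk : τ k = k := by rw [hτ]; exact Equiv.Perm.extendDomain_apply_not_subtype _ _ (by simp)
    have hτi : ∀ i, τ (k.succAbove i) = k.succAbove (σ i) := fun i => by
      rw [hτ]
      have := Equiv.Perm.extendDomain_apply_image σ (finSuccAboveEquiv k) i
      rwa [finSuccAboveEquiv_apply, finSuccAboveEquiv_apply] at this
    obtain ⟨π, hπ, hπτ⟩ := B.alt_mem (by omega) τ hτA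
    have hπH : π ∈ H := hM π hπ (Frame.IsPerm.mono B hπτ)
    have hmaps : ∀ x : V', π.1 x.1 ∈ V' := fun x => (hmemV _).mpr (by
      rw [show B.co (π.1 x.1) k = B.co (π.1 x.1) (τ k) by rw [hτk], B.co_perm hπτ]; exact (hmemV _).mp x.2)
    have hsmaps : ∀ x : V', π.1.symm x.1 ∈ V' := fun x => (hmemV _).mpr (by
      have := B.co_perm hπτ (π.1.symm x.1) k
      rw [π.1.apply_symm_apply, hτk] at this
      rw [← this]; exact (hmemV _).mp x.2)
    let e : V' ≃ₗ[F] V' :=
      { toFun := fun x => ⟨π.1 x.1, hmaps x⟩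
        invFun := fun x => ⟨π.1.symm x.1, hsmaps x⟩
        map_add' := fun x y => Subtype.ext (map_add π.1 x.1 y.1)
        map_smul' := fun t x => Subtype.ext (map_smul π.1 t x.1)
        left_inv := fun x => Subtype.ext (π.1.symm_apply_apply _)
        right_inv := fun x => Subtype.ext (π.1.apply_symm_apply _) }
    refine ⟨⟨e, fun x => π.2 x.1⟩, ⟨π, by rw [hπτ, hτk], Or.inl hπH, fun x => rfl⟩, fun i => Subtype.ext ?_⟩
    show π.1 (b' i).1 = (b' (σ i)).1
    rw [hb', hb', hπτ, hτi]
  have hnm : ∃ g' ∈ G, ¬ B'.Mono g' := by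
    have hcok : ∀ x, B.co (g₀.1 x) k = B.co x k := fun x => by
      have h := polar_iso g₀.2 (B.bas k) x
      rw [hfix₀, B.polar_bas, B.polar_bas] at h
      exact mul_left_cancel₀ (mul_ne_zero B.two B.c_ne) h
    let e : V' ≃ₗ[F] V' :=
      { toFun := fun x => ⟨g₀.1 x.1, (hmemV _).mpr (by rw [hcok]; exact (hmemV _).mp x.2)⟩
        invFun := fun x => ⟨g₀.1.symm x.1, (hmemV _).mpr (by
          rw [← hcok, g₀.1.apply_symm_apply]; exact (hmemV _).mp x.2)⟩
        map_add' := fun x y => Subtype.ext (map_add g₀.1 x.1 y.1)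
        map_smul' := fun t x => Subtype.ext (map_smul g₀.1 t x.1)
        left_inv := fun x => Subtype.ext (g₀.1.symm_apply_apply _)
        right_inv := fun x => Subtype.ext (g₀.1.apply_symm_apply _) }
    refine ⟨⟨e, fun x => g₀.2 x.1⟩, ⟨g₀, hfix₀, Or.inl hg₀, fun _ => rfl⟩, fun hmono => hm₀ fun j => ?_⟩
    by_cases hj : j = k
    · rw [hj, hfix₀]; exact B.isAx_bas k
    · obtain ⟨i, rfl⟩ := Fin.exists_succAbove_eq hj
      obtain ⟨l, hl⟩ := hmono i
      refine ⟨k.succAbove l, ?_⟩
      rw [← hb' i, ← hb' l]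
      rcases hl with hl | hl
      · exact Or.inl (congrArg Subtype.val hl)
      · exact Or.inr (congrArg Subtype.val hl)
  obtain ⟨u', hu', hGu', h4, hax, hroot⟩ := found_of_not_mono B' hsg hG (by omega) hnm
  have hS := all_of_short B' hsg hG hp hm hu' hGu' h4 hax hroot
  intro u hu huk e he
  obtain ⟨h, hhk, hh, hhx⟩ := hS ⟨u, (hmemV u).mpr huk⟩ trivial hu
  have heq : h = rf Q u := B.iso_ext fun j => by
    by_cases hj : j = k
    · rw [hj, hhk]
      exact (refl_fix (show polar Q u (B.bas k) = 0 by rw [polar_comm, B.polar_bas, huk, mul_zero])).symm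
    · obtain ⟨i, rfl⟩ := Fin.exists_succAbove_eq hj
      rw [hhx ⟨_, hbasV i⟩]
      exact (hres ⟨u, _⟩ ⟨_, hbasV i⟩).symm
  subst heq
  rcases hh with hh | hh
  · exfalso
    have h1 := hH hh
    rw [commutator_eq B.two B.pnd hd, MonoidHom.mem_ker] at h1
    have h2 : dsign B.two B.pnd (rf Q u) = 1 := congrArg Prod.fst h1
    rw [dsign_rf B.two B.pnd (hu ▸ B.c_ne)] at h2
    exact absurd h2 (by decide)
  · have := mul_mem hh (hsgz e he)
    rwa [mul_assoc (rf Q u) z, ← mul_assoc z, ← hzc (B.sg e) (hne he), mul_assoc _ z z, hzz, mul_one] at this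

/-- Even dimension: a subgroup between the monomial part and the derived group is one of them. -/
theorem Frame.mono_or_ge_even (hp : (Nat.card F).Prime) (hodd : Odd m) (hm : 9 ≤ m) {H : Subgroup ↥(Iso Q)}
    (hH : H ≤ commutator ↥(Iso Q)) (hM : ∀ g ∈ commutator ↥(Iso Q), B.Mono g → g ∈ H) :
    (∀ g ∈ H, B.Mono g) ∨ commutator ↥(Iso Q) ≤ H := by
  classical
  haveI := finite_iso (Q := Q)
  have hpairs : ∀ a b, a ≠ b → B.sg a * B.sg b ∈ H := fun a b _ =>
    hM _ (B.sg_pair_mem (by omega) a b) ((B.mono_sg a).mul B (B.mono_sg b))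
  have halt : HasAlt B H := fun σ hσ => by
    obtain ⟨g, hg, hgσ⟩ := B.alt_mem (by omega) σ hσ
    exact ⟨g, hM g hg (Frame.IsPerm.mono B hgσ), hgσ⟩
  by_cases hstar : ∀ h ∈ H, ∀ k, h.1 (B.bas k) = B.bas k ∨ h.1 (B.bas k) = -B.bas k → B.Mono h
  · exact Or.inl ((⟨by omega, hpairs, halt, hstar⟩ : B.Star H).all_mono B)
  right
  push Not at hstar
  obtain ⟨h₀, hh₀, k, hk, hm₀⟩ := hstar
  obtain ⟨g, hg, hgk, hgm⟩ : ∃ g ∈ H, g.1 (B.bas k) = B.bas k ∧ ¬ B.Mono g := by
    rcases hk with hk | hk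
    · exact ⟨h₀, hh₀, hk, hm₀⟩
    · obtain ⟨l, hl⟩ : ∃ l, l ≠ k := by
        obtain ⟨l, -, hl⟩ := Finset.exists_mem_ne (s := (Finset.univ : Finset (Fin (m + 1))))
          (by rw [Finset.card_univ, Fintype.card_fin]; omega) k
        exact ⟨l, hl⟩
      refine ⟨B.sg k * B.sg l * h₀, mul_mem (hpairs k l hl.symm) hh₀, ?_,
        fun h => hm₀ (((B.mono_sg k).mul B (B.mono_sg l)).mul_cancel_left B h)⟩
      show (B.sg k).1 ((B.sg l).1 (h₀.1 (B.bas k))) = _
      rw [hk, map_neg, B.sg_ne hl, map_neg, B.sg_self, neg_neg]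
  have hstab := B.stab_pairs hp hodd (by omega) hH hM hg hgk hgm
  obtain ⟨i₀, hi₀⟩ : ∃ i₀ : Fin (m + 1), i₀ = ⟨0, by omega⟩ := ⟨_, rfl⟩
  obtain ⟨Pr, hPr⟩ : ∃ Pr : V → Prop, ∀ u, Pr u ↔ rf Q u * B.sg i₀ ∈ H := ⟨fun u => rf Q u * B.sg i₀ ∈ H, fun _ => Iff.rfl⟩
  have hzero : ∀ u, Q u = B.c → (∃ j, B.co u j = 0) → Pr u := by
    intro u hu ⟨j, hj⟩
    obtain ⟨σ, hσA, hσ, -⟩ := exists_even_map_on (S := Finset.univ) (A := ({k} : Finset (Fin (m + 1))))
      (f := fun _ => j) (Finset.subset_univ _) (fun _ _ => Finset.mem_univ _) (by simp [Set.InjOn])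
      (by rw [Finset.card_univ, Fintype.card_fin, Finset.card_singleton]; omega)
    obtain ⟨π, hπ, hπσ⟩ := halt σ hσA
    have hσk : σ k = j := hσ k (by simp)
    obtain ⟨v, hv⟩ : ∃ v, v = π.1.symm u := ⟨_, rfl⟩
    have hπv : π.1 v = u := by rw [hv, π.1.apply_symm_apply]
    have hvk : B.co v k = 0 := by rw [← B.co_perm hπσ v k, hπv, hσk, hj]
    obtain ⟨e, hek⟩ : ∃ e, e ≠ k := by
      obtain ⟨l, -, hl⟩ := Finset.exists_mem_ne (s := (Finset.univ : Finset (Fin (m + 1))))
        (by rw [Finset.card_univ, Fintype.card_fin]; omega) k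
      exact ⟨l, hl⟩
    have h1 := mul_mem (mul_mem hπ (hstab v (by rw [← π.2 v, hπv, hu]) hvk e hek)) (inv_mem hπ)
    have h2 : rf Q u * B.sg (σ e) ∈ H := by
      rw [show π * (rf Q v * B.sg e) * π⁻¹ = π * rf Q v * π⁻¹ * (π * rf Q (B.bas e) * π⁻¹) by
        simp only [Frame.sg]; group, conj_rf, conj_rf, hπv, hπσ e] at h1
      exact h1
    rw [hPr]
    by_cases hei : σ e = i₀
    · rwa [hei] at h2
    · have := mul_mem h2 (hpairs _ _ hei)
      rwa [mul_assoc, ← mul_assoc (B.sg (σ e)), show B.sg (σ e) * B.sg (σ e) = 1 from rf_mul_self _, one_mul] at this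
  have hclosed : ∀ x y, Pr x → Pr y → Pr ((rf Q x).1 y) := by
    intro x y hx hy
    rw [hPr] at hx hy ⊢
    have := mul_mem (mul_mem hx (inv_mem hy)) hx
    rw [← conj_rf, rf_inv]
    convert this using 1
    rw [mul_inv_rev, rf_inv, show (B.sg i₀)⁻¹ = B.sg i₀ from rf_inv _]
    have hii : B.sg i₀ * B.sg i₀ = 1 := rf_mul_self _
    rw [show rf Q x * B.sg i₀ * (B.sg i₀ * rf Q y) * (rf Q x * B.sg i₀) =
      rf Q x * (B.sg i₀ * B.sg i₀) * rf Q y * rf Q x * B.sg i₀ by group, hii, mul_one]
  refine B.commutator_le (by omega) i₀ fun v hv => (hPr v).mp ?_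
  have hback : ∀ w, Q w = B.c → Pr w → Pr ((rf Q w).1 v) → Pr v := by
    intro w _ hw h
    have := hclosed w _ hw h
    rwa [show (rf Q w).1 ((rf Q w).1 v) = v from LinearEquiv.congr_fun (refl_mul_self (Q := Q) w) v] at this
  by_cases hfull : ∃ j, B.co v j = 0
  · exact hzero v hv hfull
  push Not at hfull
  have hn5 : 5 ≤ m + 1 := by omega
  by_cases h5 : 5 ≤ Nat.card F
  · -- a triple with non-zero value
    obtain ⟨A, hA, hQA⟩ : ∃ A : Finset (Fin (m + 1)), A.card = 3 ∧ (∑ i ∈ A, B.co v i ^ 2) ≠ 0 := by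
      by_contra! hcon
      have heq : ∀ i j, B.co v i ^ 2 = B.co v j ^ 2 := by
        intro i j
        by_cases hij : i = j
        · rw [hij]
        obtain ⟨R, hR, hRc⟩ := Finset.exists_subset_card_eq (s := (Finset.univ \ {i, j} : Finset (Fin (m + 1)))) (n := 2)
          (by rw [Finset.card_sdiff_of_subset (Finset.subset_univ _), Finset.card_univ, Fintype.card_fin, Finset.card_pair hij]; omega)
        have hi : i ∉ R := fun h => by simpa using (Finset.mem_sdiff.mp (hR h)).2
        have hj : j ∉ R := fun h => by simpa using (Finset.mem_sdiff.mp (hR h)).2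
        have a := hcon (insert i R) (by rw [Finset.card_insert_of_notMem hi, hRc])
        have b := hcon (insert j R) (by rw [Finset.card_insert_of_notMem hj, hRc])
        rw [Finset.sum_insert hi] at a
        rw [Finset.sum_insert hj] at b
        linear_combination a - b
      obtain ⟨T, -, hT⟩ := Finset.exists_subset_card_eq (s := (Finset.univ : Finset (Fin (m + 1)))) (n := 3)
        (by rw [Finset.card_univ, Fintype.card_fin]; omega)
      have h := hcon T hT
      rw [Finset.sum_congr rfl fun i _ => heq i i₀, Finset.sum_const, hT, nsmul_eq_mul] at h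
      exact mul_ne_zero (by exact_mod_cast small_ne_zero hp h5 3 (by norm_num) (by norm_num))
        (pow_ne_zero 2 (hfull i₀)) h
    obtain ⟨hU, hUd⟩ := B.ndOn_sub A
    obtain ⟨p, hp'⟩ : ∃ p, p = ∑ i ∈ A, B.co v i • B.bas i := ⟨_, rfl⟩
    have hpco : ∀ j, B.co p j = if j ∈ A then B.co v j else 0 := fun j => by
      have hs : ∀ g : Fin (m + 1) → V, B.co (∑ i ∈ A, g i) j = ∑ i ∈ A, B.co (g i) j := fun g => by simp [Frame.co]
      simp only [hp', hs, B.co_smul, B.co_bas, mul_ite, mul_one, mul_zero, Finset.sum_ite_eq']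
    have hpU : p ∈ B.sub A := fun j hj => by rw [hpco, if_neg hj]
    have hQp : Q p ≠ 0 := by
      rw [B.val_eq, ← Finset.sum_subset (Finset.subset_univ A) fun j _ hj => by rw [hpco, if_neg hj]; ring,
        Finset.sum_congr rfl fun j hj => by rw [hpco, if_pos hj]]
      exact mul_ne_zero B.c_ne hQA
    obtain ⟨l, hl⟩ : A.Nonempty := Finset.card_pos.mp (by omega)
    obtain ⟨hU2, hU2d⟩ := B.ndOn_sub (A.erase l)
    rw [Finset.card_erase_of_mem hl, hA] at hU2d
    obtain ⟨y, hy⟩ := exists_value B.two hU2 (by omega) (Q p)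
    have hyU : y.1 ∈ B.sub A := fun j hj => y.2 j fun h => hj (Finset.mem_of_mem_erase h)
    let G2 : Subgroup ↥(Iso Q) := Subgroup.closure {g | ∃ w, Q w = B.c ∧ (∃ j, B.co w j = 0) ∧ g = rf Q w}
    have hS2 : Sph G2 B.c (B.sub A) := fun w hw hwc => Subgroup.subset_closure ⟨w, hwc, by
      obtain ⟨j, hj⟩ : ∃ j, j ∉ A := by
        by_contra! h
        have := Finset.card_le_card (s := Finset.univ) (t := A) fun j _ => h j
        rw [Finset.card_univ, Fintype.card_fin] at this
        omega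
      exact ⟨j, hw j hj⟩, rfl⟩
    let K : Subgroup ↥(Iso Q) :=
      { carrier := {g | ∀ w, Pr (g.1 w) ↔ Pr w}
        one_mem' := fun w => Iff.rfl
        mul_mem' := fun {a b} ha hb w => (ha _).trans (hb w)
        inv_mem' := fun {a} ha w => by
          have := ha (a.1.symm w)
          rw [a.1.apply_symm_apply] at this
          exact this.symm }
    have hG2K : G2 ≤ K := (Subgroup.closure_le _).mpr (by
      rintro g ⟨w, hw, hj, rfl⟩ x
      refine ⟨fun h => ?_, hclosed w x (hzero w hw hj)⟩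
      have := hclosed w _ (hzero w hw hj) h
      rwa [show (rf Q w).1 ((rf Q w).1 x) = x from LinearEquiv.congr_fun (refl_mul_self (Q := Q) w) x] at this)
    obtain ⟨h', hh', hhy⟩ := class_transitive B.two hU (by omega) h5 B.c_ne (y := (⟨p, hpU⟩ : B.sub A))
      (y' := ⟨y.1, hyU⟩) hQp (show Q y.1 = Q p from hy)
    obtain ⟨g', hg', hgU, hgf⟩ := exists_lift B.two B.c_ne hS2 hh'
    refine (hG2K hg' v).mp (hzero _ (by rw [g'.2, hv]) ⟨l, ?_⟩)
    have hsplit : v = p + (v - p) := by abel
    rw [hsplit, map_add, hgf (v - p) (fun w hw => B.polar_zero_of_disjoint fun j => by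
        by_cases hj : j ∈ A
        · left; rw [B.co_sub, hpco, if_pos hj, sub_self]
        · exact Or.inr (hw j hj)), hgU ⟨p, hpU⟩, hhy, B.co_add, B.co_sub, hpco, if_pos hl, sub_self, add_zero]
    exact y.2 l (Finset.notMem_erase l A)
  · -- three elements
    have h3 : Nat.card F = 3 := by
      have := hp.two_le
      have h2 : Nat.card F ≠ 2 := fun h => by
        haveI := Fintype.ofFinite F
        haveI : CharP F 2 := charP_of_card_eq_prime (by rwa [← Nat.card_eq_fintype_card])
        exact B.two (by exact_mod_cast CharP.cast_eq_zero F 2)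
      have h4 : Nat.card F ≠ 4 := fun h => by rw [h] at hp; norm_num at hp
      omega
    haveI := Fintype.ofFinite F
    haveI : CharP F 3 := charP_of_card_eq_prime (by rwa [← Nat.card_eq_fintype_card])
    have h30 : (3 : F) = 0 := by exact_mod_cast CharP.cast_eq_zero F 3
    have hsq : ∀ x : F, x ≠ 0 → x ^ 2 = 1 := fun x hx => by
      have h := FiniteField.pow_card_sub_one_eq_one x hx
      rwa [← Nat.card_eq_fintype_card, h3] at h
    obtain ⟨T, -, hT⟩ := Finset.exists_subset_card_eq (s := (Finset.univ : Finset (Fin (m + 1)))) (n := 4)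
      (by rw [Finset.card_univ, Fintype.card_fin]; omega)
    obtain ⟨a, ha⟩ : T.Nonempty := Finset.card_pos.mp (by omega)
    obtain ⟨w, hw⟩ : ∃ w, w = ∑ i ∈ T, (if i = a then B.co v i else -B.co v i) • B.bas i := ⟨_, rfl⟩
    have hwc : ∀ j, B.co w j = if j ∈ T then (if j = a then B.co v j else -B.co v j) else 0 := fun j => by
      have hs : ∀ g : Fin (m + 1) → V, B.co (∑ i ∈ T, g i) j = ∑ i ∈ T, B.co (g i) j := fun g => by simp [Frame.co]
      simp only [hw, hs, B.co_smul, B.co_bas, mul_ite, mul_one, mul_zero, Finset.sum_ite_eq']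
    have hwsq : ∀ j, B.co w j ^ 2 = if j ∈ T then 1 else 0 := fun j => by
      rw [hwc]; split_ifs <;> simp [hsq _ (hfull j)]
    have hwQ : Q w = B.c := by
      rw [B.val_eq, Finset.sum_congr rfl fun j _ => hwsq j, Finset.sum_ite_mem, Finset.univ_inter, Finset.sum_const, hT,
        nsmul_eq_mul]
      push_cast
      linear_combination B.c * h30
    have hdot : ∑ j, B.co w j * B.co v j = 1 := by
      rw [Finset.sum_congr rfl fun j _ => show B.co w j * B.co v j =
        (if j ∈ T then (-1 : F) else 0) + if a = j then 2 else 0 by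
          have := hsq _ (hfull j)
          by_cases hj : a = j
          · subst hj; rw [hwc]; simp [ha]; linear_combination this
          · rw [hwc, if_neg (Ne.symm hj)]
            by_cases hjT : j ∈ T <;> simp [hjT, hj]
            linear_combination this]
      rw [Finset.sum_add_distrib, Finset.sum_ite_mem, Finset.univ_inter, Finset.sum_const, hT, Finset.sum_ite_eq,
        if_pos (Finset.mem_univ a), nsmul_eq_mul]
      push_cast
      linear_combination -h30
    obtain ⟨b, hb, hba⟩ := Finset.exists_mem_ne (s := T) (by omega) a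
    obtain ⟨j, hj⟩ : ∃ j, j ∉ T := by
      by_contra! h
      have := Finset.card_le_card (s := Finset.univ) (t := T) fun j _ => h j
      rw [Finset.card_univ, Fintype.card_fin] at this
      omega
    refine hback w hwQ (hzero w hwQ ⟨j, by rw [hwc, if_neg hj]⟩) (hzero _ (by rw [(rf Q w).2, hv]) ⟨b, ?_⟩)
    rw [B.rf_unit hwQ, B.co_sub, B.co_smul, hdot, hwc, if_pos hb, if_neg hba]
    linear_combination B.co v b * h30

end Cfsg.Agent.Classical.MFrame
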