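import Cfsg.Agent.Lib.Classical.MonomFrame.Rigid

/-!
# Conjugates of a sign pair in one coset of the monomial group
-/

set_option autoImplicit false
set_option linter.unusedSectionVars false

namespace Cfsg.Agent.Classical.MFrame

open Module QuadraticMap OCount ORefl OOmega

variable {F : Type*} [Field F] [Finite F] {V : Type*} [AddCommGroup V] [Module F V] [FiniteDimensional F V]
variable {Q : QuadraticForm F V} {n : ℕ} (B : Frame Q n) {H : Subgroup ↥(Iso Q)}

/-- A conjugate of a sign pair. -/
def Frame.InT (H : Subgroup ↥(Iso Q)) (x : ↥(Iso Q)) : Prop :=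
  ∃ g ∈ H, ∃ a b, a ≠ b ∧ x = g * (B.sg a * B.sg b) * g⁻¹

/-- Data for the plane of a non-monomial conjugate. -/
structure Frame.IsPlane (B : Frame Q n) (x : ↥(Iso Q)) (u v : V) : Prop where
  eq : x = rf Q u * rf Q v
  valu : Q u = B.c
  valv : Q v = B.c
  perp : polar Q u v = 0
  full : ∀ k, B.co u k = 0 → B.co v k = 0 → False

theorem Frame.Star.exists_plane (S : B.Star H) {x : ↥(Iso Q)} (hx : B.InT H x) (hnm : ¬ B.Mono x) :
    ∃ u v, B.IsPlane x u v := by
  obtain ⟨g, hg, a, b, hab, hxe⟩ := hx
  have he : x = rf Q (g.1 (B.bas a)) * rf Q (g.1 (B.bas b)) := by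
    rw [hxe, ← conj_rf, ← conj_rf, show B.sg a = rf Q (B.bas a) from rfl, show B.sg b = rf Q (B.bas b) from rfl]
    group
  refine ⟨_, _, he, by rw [g.2, B.val], by rw [g.2, B.val], by rw [polar_iso g.2, B.orth a b hab], fun k h1 h2 => hnm ?_⟩
  refine S.star x (hxe ▸ mul_mem (mul_mem hg (S.pairs a b hab)) (inv_mem hg)) k (Or.inl ?_)
  rw [he]
  show refl Q (g.1 (B.bas a)) (refl Q (g.1 (B.bas b)) (B.bas k)) = B.bas k
  rw [refl_fix (show polar Q (g.1 (B.bas b)) (B.bas k) = 0 by rw [polar_comm, B.polar_bas, h2, mul_zero]),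
    refl_fix (show polar Q (g.1 (B.bas a)) (B.bas k) = 0 by rw [polar_comm, B.polar_bas, h1, mul_zero])]

variable {B}

namespace Frame.IsPlane

variable {x y : ↥(Iso Q)} {u v u' v' : V} (P : B.IsPlane x u v)
include P

theorem nz : Q u ≠ 0 ∧ Q v ≠ 0 := ⟨P.valu ▸ B.c_ne, P.valv ▸ B.c_ne⟩

theorem polar_self : polar Q u u = 2 * B.c ∧ polar Q v v = 2 * B.c :=
  ⟨by rw [polar_self_two, P.valu], by rw [polar_self_two, P.valv]⟩

theorem apply_u : x.1 u = -u := by
  rw [P.eq]
  show refl Q u (refl Q v u) = -u
  rw [refl_fix (show polar Q v u = 0 by rw [polar_comm]; exact P.perp), refl_self P.nz.1]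

theorem apply_v : x.1 v = -v := by
  rw [P.eq]
  show refl Q u (refl Q v v) = -v
  rw [refl_self P.nz.2, map_neg, refl_fix P.perp]

theorem apply_span {w : V} (hw : w ∈ Submodule.span F ({u, v} : Set V)) : x.1 w = -w := by
  obtain ⟨α, β, rfl⟩ := Submodule.mem_span_pair.mp hw
  rw [map_add, map_smul, map_smul, P.apply_u, P.apply_v, smul_neg, smul_neg, neg_add]

theorem sub_eq (w : V) : x.1 w - w = -((B.c⁻¹ * polar Q u w) • u + (B.c⁻¹ * polar Q v w) • v) := by
  rw [P.eq]
  show refl Q u (refl Q v w) - w = _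
  rw [refl_apply, refl_apply, P.valu, P.valv, polar_sub_right, polar_smul_right, P.perp, smul_zero, sub_zero]
  abel

theorem sub_mem_span (w : V) : x.1 w - w ∈ Submodule.span F ({u, v} : Set V) := by
  rw [P.sub_eq]
  exact neg_mem (add_mem (Submodule.smul_mem _ _ (Submodule.subset_span (by simp)))
    (Submodule.smul_mem _ _ (Submodule.subset_span (by simp))))

theorem eq_zero {d : V} (hd : d ∈ Submodule.span F ({u, v} : Set V)) (h1 : polar Q d u = 0) (h2 : polar Q d v = 0) :
    d = 0 := by
  obtain ⟨α, β, rfl⟩ := Submodule.mem_span_pair.mp hd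
  simp only [polar_add_left, polar_smul_left, P.polar_self.1, P.polar_self.2, P.perp, polar_comm Q v u, smul_eq_mul,
    mul_zero, add_zero, zero_add] at h1 h2
  rw [(mul_eq_zero.mp h1).resolve_right (mul_ne_zero B.two B.c_ne),
    (mul_eq_zero.mp h2).resolve_right (mul_ne_zero B.two B.c_ne), zero_smul, zero_smul, add_zero]

/-- An isometry negating the plane and moving only into it is the involution of the plane. -/
theorem eq_of_negates {y : ↥(Iso Q)} (hu : y.1 u = -u) (hv : y.1 v = -v)
    (hm : ∀ w, y.1 w - w ∈ Submodule.span F ({u, v} : Set V)) : x = y := by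
  refine Subtype.ext (LinearEquiv.ext fun w => sub_eq_zero.mp (P.eq_zero ?_ ?_ ?_))
  · have := sub_mem (P.sub_mem_span w) (hm w)
    rwa [sub_sub_sub_cancel_right] at this
  · have a := polar_iso x.2 w u
    have b := polar_iso y.2 w u
    rw [P.apply_u, polar_neg_right] at a
    rw [hu, polar_neg_right] at b
    rw [polar_sub_left]
    linear_combination b - a
  · have a := polar_iso x.2 w v
    have b := polar_iso y.2 w v
    rw [P.apply_v, polar_neg_right] at a
    rw [hv, polar_neg_right] at b
    rw [polar_sub_left]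
    linear_combination b - a

theorem inv_self : x⁻¹ = x := by
  refine inv_eq_of_mul_eq_one_left (Subtype.ext (LinearEquiv.ext fun w => ?_))
  show x.1 (x.1 w) = w
  obtain ⟨d, hd⟩ : ∃ d, d = x.1 w - w := ⟨_, rfl⟩
  have h1 : x.1 w = w + d := by rw [hd]; abel
  rw [h1, map_add, P.apply_span (w := d) (by rw [hd]; exact P.sub_mem_span w), h1]
  abel

theorem supp_le {p q : V} (hp : p ∈ Submodule.span F ({u, v} : Set V)) (hq : q ∈ Submodule.span F ({u, v} : Set V))
    (hpq : ∀ t : F, q ≠ t • p) (hp0 : p ≠ 0) : n ≤ (B.supp p).card + (B.supp q).card := by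
  obtain ⟨α, β, rfl⟩ := Submodule.mem_span_pair.mp hp
  obtain ⟨γ, δ, rfl⟩ := Submodule.mem_span_pair.mp hq
  have hD : α * δ - β * γ ≠ 0 := by
    intro h
    by_cases hα : α = 0
    · subst hα
      have hβ : β ≠ 0 := fun e => hp0 (by rw [e, zero_smul, zero_smul, add_zero])
      have hγ : γ = 0 := (mul_eq_zero.mp (by linear_combination -h : β * γ = 0)).resolve_left hβ
      exact hpq (δ / β) (by rw [hγ]; simp [smul_smul, hβ])
    · refine hpq (γ / α) ?_
      rw [smul_add, smul_smul, smul_smul, div_mul_cancel₀ _ hα]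
      congr 2
      field_simp
      linear_combination h
  refine le_trans (le_of_eq ?_) (Finset.card_union_le _ _)
  refine (Finset.card_univ.trans (Fintype.card_fin n)).symm.trans (congrArg Finset.card ?_)
  refine (Finset.eq_univ_of_forall fun k => ?_).symm
  rw [Finset.mem_union, B.mem_supp, B.mem_supp, B.co_add, B.co_add, B.co_smul, B.co_smul, B.co_smul, B.co_smul]
  by_contra hcon
  push Not at hcon
  refine P.full k ((mul_eq_zero.mp ?_).resolve_left hD) ((mul_eq_zero.mp ?_).resolve_left hD)
  · linear_combination δ * hcon.1 - β * hcon.2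
  · linear_combination α * hcon.2 - γ * hcon.1

/-- Two different planes in one coset share a line, whose companion in the first plane is short. -/
theorem common_line (hn : 9 ≤ n) (P' : B.IsPlane y u' v') (hne : x ≠ y) (hm : B.Mono (x * y)) :
    ∃ α β : F, α • u + β • v ≠ 0 ∧ α • u + β • v ∈ Submodule.span F ({u', v'} : Set V) ∧
      (B.supp (-β • u + α • v)).card ≤ 4 := by
  classical
  obtain ⟨W, hW⟩ : ∃ W, W = Submodule.span F ({u, v} : Set V) ⊔ Submodule.span F ({u', v'} : Set V) := ⟨_, rfl⟩
  have hrange : ∀ w, (x * y).1 w - w ∈ W := fun w => by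
    show x.1 (y.1 w) - w ∈ W
    rw [← sub_add_sub_cancel _ (y.1 w) w, hW]
    exact Submodule.add_mem_sup (P.sub_mem_span _) (P'.sub_mem_span w)
  obtain ⟨A, hA, hAr⟩ := B.exists_coord_of_range hm hrange
  have hfin : ∀ p q : V, finrank F (Submodule.span F ({p, q} : Set V)) ≤ 2 := fun p q =>
    ((finrank_span_le_card _).trans (by simp [Set.toFinset_insert, Finset.card_le_two]))
  have hA8 : A.card ≤ 8 := hA.trans (by
    have := Submodule.finrank_add_le_finrank_add_finrank (Submodule.span F ({u, v} : Set V))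
      (Submodule.span F ({u', v'} : Set V))
    have := hfin u v; have := hfin u' v'
    rw [hW]; omega)
  -- a common line
  obtain ⟨α, β, h0, hmem⟩ : ∃ α β : F, α • u + β • v ≠ 0 ∧ α • u + β • v ∈ Submodule.span F ({u', v'} : Set V) := by
    by_contra! hcon
    have hsep : ∀ p q : V, (p = u ∧ q = v ∨ p = v ∧ q = u) → p ∈ B.sub A := by
      intro p q hpq
      have hnot : p ∉ Submodule.span F ({u', v', q} : Set V) := by
        intro h
        rw [show ({u', v', q} : Set V) = insert q {u', v'} by ext; simp; tauto, Submodule.mem_span_insert] at h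
        obtain ⟨t, z, hz, hpz⟩ := h
        have hz' : z = p - t • q := by rw [hpz]; abel
        rw [hz'] at hz
        rcases hpq with ⟨rfl, rfl⟩ | ⟨rfl, rfl⟩
        · refine hcon 1 (-t) ?_ (by rwa [one_smul, neg_smul, ← sub_eq_add_neg])
          intro e
          rw [one_smul] at e
          have h1 := congrArg (polar Q p) e
          rw [polar_add_right, polar_smul_right, P.polar_self.1, P.perp, smul_zero, add_zero, polar_zero_right] at h1
          exact mul_ne_zero B.two B.c_ne h1
        · refine hcon (-t) 1 ?_ (by rwa [one_smul, neg_smul, add_comm, ← sub_eq_add_neg])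
          intro e
          rw [one_smul] at e
          have h1 := congrArg (polar Q p) e
          rw [polar_add_right, polar_smul_right, P.polar_self.2, polar_comm Q p q, P.perp, smul_zero, zero_add,
            polar_zero_right] at h1
          exact mul_ne_zero B.two B.c_ne h1
      obtain ⟨w, hw, hwp⟩ := exists_polar_sep B.pnd hnot 1
      have hy : y.1 w = w := sub_eq_zero.mp (by
        rw [P'.sub_eq, polar_comm Q u' w, polar_comm Q v' w, hw _ (Submodule.subset_span (by simp)),
          hw _ (Submodule.subset_span (by simp))]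
        simp)
      have h1 := hAr w
      change x.1 (y.1 w) - w ∈ B.sub A at h1
      rw [hy, P.sub_eq, neg_mem_iff] at h1
      have hq : polar Q q w = 0 := by rw [polar_comm]; exact hw _ (Submodule.subset_span (by simp))
      have hp : polar Q p w = 1 := by rw [polar_comm]; exact hwp
      rcases hpq with ⟨rfl, rfl⟩ | ⟨rfl, rfl⟩ <;> rw [hq, hp, mul_zero, zero_smul, mul_one] at h1
      · rw [add_zero] at h1; exact (Submodule.smul_mem_iff _ (inv_ne_zero B.c_ne)).mp h1
      · rw [zero_add] at h1; exact (Submodule.smul_mem_iff _ (inv_ne_zero B.c_ne)).mp h1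
    have hu := hsep u v (Or.inl ⟨rfl, rfl⟩)
    have hv := hsep v u (Or.inr ⟨rfl, rfl⟩)
    have : (Finset.univ : Finset (Fin n)) ⊆ A := fun k _ => by
      by_contra hk
      exact P.full k (hu k hk) (hv k hk)
    have := Finset.card_le_card this
    rw [Finset.card_univ, Fintype.card_fin] at this
    omega
  refine ⟨α, β, h0, hmem, ?_⟩
  obtain ⟨l, hl⟩ : ∃ l, l = α • u + β • v := ⟨_, rfl⟩
  rw [← hl] at h0 hmem
  have hlP : l ∈ Submodule.span F ({u, v} : Set V) := hl ▸ Submodule.mem_span_pair.mpr ⟨α, β, rfl⟩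
  have hinter : ∀ d, d ∈ Submodule.span F ({u, v} : Set V) → d ∈ Submodule.span F ({u', v'} : Set V) →
      d ∈ Submodule.span F ({l} : Set V) := by
    intro d hd hd'
    by_contra hnot
    have hle : Submodule.span F ({u, v} : Set V) ≤ Submodule.span F ({u', v'} : Set V) := by
      have hsub : Submodule.span F ({l, d} : Set V) ≤ Submodule.span F ({u, v} : Set V) :=
        Submodule.span_le.mpr (Set.insert_subset hlP (Set.singleton_subset_iff.mpr hd))
      have hlt : Submodule.span F ({l} : Set V) < Submodule.span F ({l, d} : Set V) := by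
        refine lt_of_le_of_ne (Submodule.span_mono (by simp)) fun e => hnot ?_
        rw [e]; exact Submodule.subset_span (by simp)
      have h1 := Submodule.finrank_lt_finrank_of_lt hlt
      rw [finrank_span_singleton h0] at h1
      rw [← Submodule.eq_of_le_of_finrank_le hsub ((hfin u v).trans h1)]
      exact Submodule.span_le.mpr (Set.insert_subset hmem (Set.singleton_subset_iff.mpr hd'))
    refine hne (P.eq_of_negates (P'.apply_span (hle (Submodule.subset_span (by simp))))
      (P'.apply_span (hle (Submodule.subset_span (by simp)))) fun w => ?_)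
    have hlt : Submodule.span F ({u', v'} : Set V) ≤ Submodule.span F ({u, v} : Set V) := by
      refine le_of_eq (Submodule.eq_of_le_of_finrank_le hle ((hfin u' v').trans ?_)).symm
      have hlt : Submodule.span F ({u} : Set V) < Submodule.span F ({u, v} : Set V) := by
        refine lt_of_le_of_ne (Submodule.span_mono (by simp)) fun e => ?_
        have hv : v ∈ Submodule.span F ({u} : Set V) := e ▸ Submodule.subset_span (by simp)
        obtain ⟨t, ht⟩ := Submodule.mem_span_singleton.mp hv
        have h := P.perp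
        rw [← ht, polar_smul_right, P.polar_self.1, smul_eq_mul] at h
        have := P.nz.2
        rw [← ht, (mul_eq_zero.mp h).resolve_right (mul_ne_zero B.two B.c_ne), zero_smul, QuadraticMap.map_zero] at this
        exact this rfl
      have h1 := Submodule.finrank_lt_finrank_of_lt hlt
      rw [finrank_span_singleton (fun e => P.nz.1 (by rw [e, QuadraticMap.map_zero]))] at h1
      omega
    exact hlt (P'.sub_mem_span w)
  -- the range has dimension at most three
  have hW3 : finrank F W ≤ 3 := by
    have h := Submodule.finrank_sup_add_finrank_inf_eq (Submodule.span F ({u, v} : Set V))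
      (Submodule.span F ({u', v'} : Set V))
    have h1 : 1 ≤ finrank F ↥(Submodule.span F ({u, v} : Set V) ⊓ Submodule.span F ({u', v'} : Set V)) :=
      Submodule.one_le_finrank_iff.mpr fun e => h0 (by
        have : l ∈ Submodule.span F ({u, v} : Set V) ⊓ Submodule.span F ({u', v'} : Set V) := ⟨hlP, hmem⟩
        rw [e] at this; exact (Submodule.mem_bot F).mp this)
    have := hfin u v; have := hfin u' v'
    rw [hW]; omega
  -- the common line is fixed, so the range is perpendicular to it
  obtain ⟨W', hW'⟩ : ∃ W' : Submodule F V, W' = W ⊓ LinearMap.ker (Q.polarBilin l) := ⟨_, rfl⟩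
  have hlfix : (x * y).1 l = l := by
    show x.1 (y.1 l) = l
    rw [P'.apply_span hmem, map_neg, P.apply_span hlP, neg_neg]
  have hrange' : ∀ w, (x * y).1 w - w ∈ W' := fun w => by
    rw [hW']
    refine ⟨hrange w, ?_⟩
    show Q.polarBilin l ((x * y).1 w - w) = 0
    rw [polarBilin_apply_apply, polar_sub_right]
    nth_rewrite 1 [← hlfix]
    rw [polar_iso (x * y).2, sub_self]
  have hW2 : finrank F W' ≤ 2 := by
    have hlt : W' < W := by
      refine lt_of_le_of_ne (hW' ▸ inf_le_left) fun e => h0 (P.eq_zero hlP ?_ ?_)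
      · have hu : u ∈ W' := by rw [e, hW]; exact Submodule.mem_sup_left (Submodule.subset_span (by simp))
        rw [hW'] at hu
        exact hu.2
      · have hv : v ∈ W' := by rw [e, hW]; exact Submodule.mem_sup_left (Submodule.subset_span (by simp))
        rw [hW'] at hv
        exact hv.2
    have := Submodule.finrank_lt_finrank_of_lt hlt
    omega
  obtain ⟨A, hA, hAr⟩ := B.exists_coord_of_range hm hrange'
  refine (Finset.card_le_card (t := A) fun k hk => ?_).trans (by omega)
  by_contra hkA
  obtain ⟨i, hi⟩ := hm k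
  have hfix : (x * y).1 (B.bas k) = B.bas k := by
    have h1 := hAr (B.bas k) k hkA
    rw [B.co_sub, B.co_bas_self] at h1
    rcases hi with hi | hi <;> rw [hi] at h1 ⊢
    · by_cases hik : i = k
      · rw [hik]
      · rw [B.co_bas_ne hik] at h1; simp at h1
    · by_cases hik : i = k
      · subst hik
        rw [B.co_neg, B.co_bas_self] at h1
        exact absurd (by linear_combination -h1) B.two
      · rw [B.co_neg, B.co_bas_ne hik] at h1; simp at h1
  have hxy : y.1 (B.bas k) = x.1 (B.bas k) := by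
    change x.1 (y.1 (B.bas k)) = B.bas k at hfix
    have := congrArg x.1 hfix
    rwa [show x.1 (x.1 (y.1 (B.bas k))) = (x * x).1 (y.1 (B.bas k)) from rfl,
      show x * x = 1 from inv_eq_iff_mul_eq_one.mp P.inv_self] at this
  have hd := hinter (x.1 (B.bas k) - B.bas k) (P.sub_mem_span _) (hxy ▸ P'.sub_mem_span _)
  obtain ⟨t, ht⟩ := Submodule.mem_span_singleton.mp hd
  rw [P.sub_eq, polar_comm Q u, polar_comm Q v, B.polar_bas, B.polar_bas, hl] at ht
  have h2 : ∀ z : F, B.c⁻¹ * (2 * B.c * z) = 2 * z := fun z => by have := B.c_ne; field_simp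
  rw [h2, h2] at ht
  have e0 : (t * α + 2 * B.co u k) • u + (t * β + 2 * B.co v k) • v = 0 := by
    rw [smul_add, smul_smul, smul_smul] at ht
    linear_combination (norm := module) ht
  have a1 := congrArg (polar Q u) e0
  have a2 := congrArg (polar Q v) e0
  simp only [polar_add_right, polar_smul_right, P.polar_self.1, P.polar_self.2, P.perp, polar_comm Q v u,
    polar_zero_right, smul_eq_mul, mul_zero, add_zero, zero_add] at a1 a2
  have b1 := (mul_eq_zero.mp a1).resolve_right (mul_ne_zero B.two B.c_ne)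
  have b2 := (mul_eq_zero.mp a2).resolve_right (mul_ne_zero B.two B.c_ne)
  rw [B.mem_supp, B.co_add, B.co_smul, B.co_smul] at hk
  exact hk ((mul_eq_zero.mp (by linear_combination α * b2 - β * b1 :
    (2 : F) * (-β * B.co u k + α * B.co v k) = 0)).resolve_left B.two)

end Frame.IsPlane

variable (B)

/-- A monomial map fixing a singular vector and trivial on its orthogonal, modulo it, fixes the places outside. -/
theorem Frame.siegel_out {g : ↥(Iso Q)} (hg : B.Mono g) {l : V}
    (hd : ∀ w, polar Q l w = 0 → g.1 w - w ∈ Submodule.span F ({l} : Set V)) {i : Fin n} (hi : i ∉ B.supp l) :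
    g.1 (B.bas i) = B.bas i := by
  obtain ⟨t, ht⟩ := Submodule.mem_span_singleton.mp
    (hd (B.bas i) (by rw [polar_comm, B.polar_bas, B.notMem_supp.mp hi, mul_zero]))
  have h1 := congrArg (fun w => B.co w i) ht
  simp only [B.co_smul, B.co_sub, B.notMem_supp.mp hi, mul_zero, B.co_bas_self] at h1
  obtain ⟨j, hj⟩ := hg i
  rcases hj with hj | hj <;> rw [hj] at h1 ⊢
  · by_cases hji : j = i
    · rw [hji]
    · rw [B.co_bas_ne hji] at h1; simp at h1
  · by_cases hji : j = i
    · subst hji
      rw [B.co_neg, B.co_bas_self] at h1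
      exact absurd (by linear_combination h1) B.two
    · rw [B.co_neg, B.co_bas_ne hji] at h1; simp at h1

theorem Frame.siegel_large {g : ↥(Iso Q)} (hg : B.Mono g) {l : V} (hl : g.1 l = l)
    (hd : ∀ w, polar Q l w = 0 → g.1 w - w ∈ Submodule.span F ({l} : Set V)) (h5 : 5 ≤ (B.supp l).card) : g = 1 := by
  classical
  obtain ⟨τ, hτ⟩ := B.exists_hasPerm hg
  have hmem : ∀ i, B.supp (g.1 (B.bas i)) = {τ i} := fun i => by
    rcases hτ i with h | h <;> rw [h]
    · exact B.supp_bas _
    · rw [← neg_one_smul F (B.bas (τ i)), B.supp_smul (neg_ne_zero.mpr one_ne_zero), B.supp_bas]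
  have hin : ∀ i ∈ B.supp l, ∀ j ∈ B.supp l, i ≠ j → τ i = i ∨ τ i = j := by
    intro i hi j hj hij
    obtain ⟨t, ht⟩ := Submodule.mem_span_singleton.mp (hd (B.co l j • B.bas i - B.co l i • B.bas j) (by
      rw [polar_sub_right, polar_smul_right, polar_smul_right, polar_comm Q l, polar_comm Q l, B.polar_bas,
        B.polar_bas, smul_eq_mul, smul_eq_mul]
      ring))
    have hsub : B.supp (t • l) ⊆ ({τ i, τ j, i, j} : Finset (Fin n)) := by
      rw [ht]
      intro k hk
      rw [map_sub, map_smul, map_smul, B.mem_supp, B.co_sub, B.co_sub, B.co_sub, B.co_smul, B.co_smul, B.co_smul,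
        B.co_smul] at hk
      by_contra hcon
      simp only [Finset.mem_insert, Finset.mem_singleton, not_or] at hcon
      have h1 : B.co (g.1 (B.bas i)) k = 0 := B.notMem_supp.mp (by rw [hmem]; simp [hcon.1])
      have h2 : B.co (g.1 (B.bas j)) k = 0 := B.notMem_supp.mp (by rw [hmem]; simp [hcon.2.1])
      exact hk (by rw [h1, h2, B.co_bas_ne (Ne.symm hcon.2.2.1), B.co_bas_ne (Ne.symm hcon.2.2.2)]; ring)
    by_cases ht0 : t = 0
    · rw [ht0, zero_smul] at ht
      by_contra hcon
      push Not at hcon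
      have hk := congrArg (fun w => B.co w (τ i)) ht
      simp only [map_sub, map_smul, B.co_sub, B.co_smul, B.co_zero, B.co_bas_ne (Ne.symm hcon.1),
        B.co_bas_ne (Ne.symm hcon.2)] at hk
      have h2 : B.co (g.1 (B.bas j)) (τ i) = 0 := B.notMem_supp.mp (by rw [hmem]; simp [τ.injective.ne hij])
      rw [h2] at hk
      have h3 : B.co (g.1 (B.bas i)) (τ i) ≠ 0 := B.mem_supp.mp (by rw [hmem]; simp)
      exact mul_ne_zero (B.mem_supp.mp hj) h3 (by linear_combination -hk)
    · rw [B.supp_smul ht0] at hsub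
      have := (Finset.card_le_card hsub).trans Finset.card_le_four
      omega
  refine B.iso_ext fun i => ?_
  show g.1 (B.bas i) = B.bas i
  by_cases hi : i ∈ B.supp l
  · obtain ⟨j, hj, hji⟩ := Finset.exists_mem_ne (s := B.supp l) (by omega) i
    obtain ⟨k, hk, hkj⟩ := Finset.exists_mem_ne (s := (B.supp l).erase i)
      (by rw [Finset.card_erase_of_mem hi]; omega) j
    obtain ⟨hki, hkl⟩ := Finset.mem_erase.mp hk
    have hτi : τ i = i := by
      rcases hin i hi j hj hji.symm with h | h
      · exact h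
      · rcases hin i hi k hkl hki.symm with h' | h'
        · exact h'
        · exact absurd (h'.symm.trans h) hkj
    have h := hτ i
    rw [hτi] at h
    rcases h with h | h
    · exact h
    · exfalso
      have hp := polar_iso g.2 (B.bas i) l
      rw [h, hl, polar_neg_left, B.polar_bas] at hp
      refine B.mem_supp.mp hi ((mul_eq_zero.mp (?_ : (2 * 2 * B.c) * B.co l i = 0)).resolve_left
        (mul_ne_zero (mul_ne_zero B.two B.two) B.c_ne))
      linear_combination -hp
  · exact B.siegel_out hg hd hi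

theorem Frame.Star.singular_card (S : B.Star H) {s : Finset ↥(Iso Q)}
    (hm : ∀ x ∈ s, ∀ y ∈ s, B.Mono (x * y)) {l : V} (hl0 : l ≠ 0) (hQl : Q l = 0)
    (hpl : ∀ x ∈ s, ∃ u v, B.IsPlane x u v ∧ l ∈ Submodule.span F ({u, v} : Set V)) : s.card < n.choose 2 := by
  classical
  have h36 : 36 ≤ n.choose 2 := le_trans (by decide) (Nat.choose_le_choose 2 S.big)
  rcases s.eq_empty_or_nonempty with rfl | ⟨x₀, hx₀⟩
  · simp; omega
  have hfix : ∀ x ∈ s, (x₀ * x).1 l = l ∧
      ∀ w, polar Q l w = 0 → (x₀ * x).1 w - w ∈ Submodule.span F ({l} : Set V) := by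
    intro x hx
    have key : ∀ z ∈ s, z.1 l = -l ∧ ∀ w, polar Q l w = 0 → z.1 w - w ∈ Submodule.span F ({l} : Set V) := by
      intro z hz
      obtain ⟨u, v, P, hmem⟩ := hpl z hz
      refine ⟨P.apply_span hmem, fun w hw => ?_⟩
      obtain ⟨α, β, hab⟩ := Submodule.mem_span_pair.mp hmem
      obtain ⟨γ, δ, hgd⟩ := Submodule.mem_span_pair.mp (P.sub_mem_span w)
      have hperp : polar Q l (z.1 w - w) = 0 := by
        have h := polar_iso z.2 l w
        rw [P.apply_span hmem, polar_neg_left, hw, neg_eq_zero] at h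
        rw [polar_sub_right, h, hw, sub_zero]
      rw [← hab] at hQl
      rw [map_two, QuadraticMap.map_smul, QuadraticMap.map_smul, polar_smul_left, polar_smul_right, P.perp, P.valu,
        P.valv] at hQl
      simp only [smul_eq_mul, mul_zero, add_zero] at hQl
      have hs : α ^ 2 + β ^ 2 = 0 :=
        (mul_eq_zero.mp (by linear_combination hQl : B.c * (α ^ 2 + β ^ 2) = 0)).resolve_left B.c_ne
      rw [← hgd, ← hab] at hperp
      simp only [polar_add_left, polar_add_right, polar_smul_left, polar_smul_right, P.polar_self.1, P.polar_self.2,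
        P.perp, polar_comm Q v u, smul_eq_mul, mul_zero, add_zero, zero_add] at hperp
      have hpp : α * γ + β * δ = 0 :=
        (mul_eq_zero.mp (by linear_combination hperp : (2 * B.c) * (α * γ + β * δ) = 0)).resolve_left
          (mul_ne_zero B.two B.c_ne)
      have hα : α ≠ 0 := fun e => by
        rw [e] at hs
        refine hl0 ?_
        rw [← hab, e, show β = 0 from pow_eq_zero_iff (n := 2) (by norm_num) |>.mp (by linear_combination hs)]
        simp
      have hβ : β ≠ 0 := fun e => hα (pow_eq_zero_iff (n := 2) (by norm_num) |>.mp (by rw [e] at hs; linear_combination hs))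
      refine Submodule.mem_span_singleton.mpr ⟨γ / α, ?_⟩
      rw [← hgd, ← hab, smul_add, smul_smul, smul_smul, div_mul_cancel₀ _ hα]
      congr 2
      field_simp
      refine mul_right_cancel₀ hβ ?_
      linear_combination γ * hs - α * hpp
    obtain ⟨h1, h2⟩ := key x₀ hx₀
    obtain ⟨h3, h4⟩ := key x hx
    refine ⟨by show x₀.1 (x.1 l) = l; rw [h3, map_neg, h1, neg_neg], fun w hw => ?_⟩
    show x₀.1 (x.1 w) - w ∈ _
    obtain ⟨t, ht⟩ := Submodule.mem_span_singleton.mp (h4 w hw)
    have hxw : x.1 w = w + t • l := by rw [ht]; abel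
    rw [hxw, map_add, map_smul, h1, add_sub_right_comm]
    exact add_mem (h2 w hw) (Submodule.smul_mem _ _ (neg_mem (Submodule.mem_span_singleton_self l)))
  by_cases h5 : 5 ≤ (B.supp l).card
  · have : s ⊆ {x₀⁻¹} := fun x hx => by
      rw [Finset.mem_singleton]
      exact eq_inv_of_mul_eq_one_right (B.siegel_large (hm _ hx₀ _ hx) (hfix x hx).1 (hfix x hx).2 h5)
    have := Finset.card_le_card this
    rw [Finset.card_singleton] at this
    omega
  have hτ : ∀ x : {x // x ∈ s}, ∃ τ, B.HasPerm (x₀ * x.1) τ ∧ ∀ i ∉ B.supp l, τ i = i := fun x => by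
    obtain ⟨τ, hτ⟩ := B.exists_hasPerm (hm _ hx₀ _ x.2)
    refine ⟨τ, hτ, fun i hi => ?_⟩
    have h := B.siegel_out (hm _ hx₀ _ x.2) (hfix x.1 x.2).2 hi
    rcases hτ i with h' | h' <;> rw [h] at h'
    · exact (B.bas_ne_neg (Or.inl h')).symm
    · exact (B.bas_ne_neg (Or.inr h')).symm
  choose τ hτp hτo using hτ
  have hmaps : ∀ (x : {x // x ∈ s}) (i : Fin n), τ x i ∈ B.supp l ↔ i ∈ B.supp l := by
    intro x i
    constructor
    · intro h
      by_contra hn'
      exact hn' (hτo x i hn' ▸ h)
    · intro h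
      by_contra hn'
      exact hn' (by rwa [(τ x).injective (hτo x _ hn')])
  obtain ⟨Φ, hΦ⟩ : ∃ Φ : {x // x ∈ s} → Equiv.Perm {i // i ∈ B.supp l}, ∀ x i, (Φ x i).1 = τ x i.1 :=
    ⟨fun x => (τ x).subtypePerm (hmaps x), fun _ _ => rfl⟩
  have hinj : Function.Injective Φ := by
    intro x y e
    apply Subtype.ext
    refine mul_left_cancel (a := x₀) (B.iso_ext fun i => ?_)
    by_cases hi : i ∈ B.supp l
    · have ht : τ x i = τ y i := by rw [← hΦ x ⟨i, hi⟩, ← hΦ y ⟨i, hi⟩, e]
      have px := polar_iso (x₀ * x.1).2 (B.bas i) l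
      have py := polar_iso (x₀ * y.1).2 (B.bas i) l
      rw [(hfix x.1 x.2).1] at px
      rw [(hfix y.1 y.2).1] at py
      rcases hτp x i with a | a <;> rcases hτp y i with b | b <;> rw [ht] at a
      · rw [a, b]
      · exfalso
        rw [a] at px; rw [b, polar_neg_left] at py
        simp only [B.polar_bas] at px py
        refine B.mem_supp.mp hi ((mul_eq_zero.mp (?_ : (2 * 2 * B.c) * B.co l i = 0)).resolve_left
          (mul_ne_zero (mul_ne_zero B.two B.two) B.c_ne))
        linear_combination -px - py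
      · exfalso
        rw [a, polar_neg_left] at px; rw [b] at py
        refine B.mem_supp.mp hi ((mul_eq_zero.mp (?_ : (2 * 2 * B.c) * B.co l i = 0)).resolve_left
          (mul_ne_zero (mul_ne_zero B.two B.two) B.c_ne))
        simp only [B.polar_bas] at px py
        linear_combination -px - py
      · rw [a, b]
    · rw [B.siegel_out (hm _ hx₀ _ x.2) (hfix x.1 x.2).2 hi, B.siegel_out (hm _ hx₀ _ y.2) (hfix y.1 y.2).2 hi]
  have := Fintype.card_le_of_injective Φ hinj
  rw [Fintype.card_coe, Fintype.card_perm, Fintype.card_coe] at this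
  have h24 : (B.supp l).card.factorial ≤ Nat.factorial 4 := Nat.factorial_le (by omega)
  rw [show Nat.factorial 4 = 24 from rfl] at h24
  omega

theorem Frame.Star.nonsingular_card (S : B.Star H) {s : Finset ↥(Iso Q)}
    (hm : ∀ x ∈ s, ∀ y ∈ s, B.Mono (x * y)) {l : V} (hQl : Q l ≠ 0)
    (hpl : ∀ x ∈ s, ∃ u v, B.IsPlane x u v ∧ l ∈ Submodule.span F ({u, v} : Set V)) :
    s.card < n.choose 2 ∨ s.card ≤ n.choose 2 ∧ (s.card = n.choose 2 →
      (∀ k, B.co l k ≠ 0) ∧ (∀ i j, B.co l i ^ 2 = B.co l j ^ 2) ∧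
        (∀ i j, i ≠ j → rf Q l * rf Q (B.co l j • B.bas i - B.co l i • B.bas j) ∈ s) ∧
        ∀ x ∈ s, ∃ i j, i ≠ j ∧ x = rf Q l * rf Q (B.co l j • B.bas i - B.co l i • B.bas j)) := by
  classical
  have hn := S.big
  have h36 : 36 ≤ n.choose 2 := le_trans (by decide) (Nat.choose_le_choose 2 hn)
  have h2n : 2 * n < n.choose 2 := by
    rw [Nat.choose_two_right, Nat.lt_div_iff_mul_lt' (by
      exact (Nat.even_mul_pred_self n).two_dvd)]
    have h6 : 6 ≤ n - 1 := by omega
    calc 2 * (2 * n) = n * 4 := by ring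
      _ < n * (n - 1) := Nat.mul_lt_mul_of_pos_left (by omega) (by omega)
  -- the companion of the common line
  have hb : ∀ x : {x // x ∈ s}, ∃ b : V, Q b ≠ 0 ∧ polar Q l b = 0 ∧ x.1 = rf Q l * rf Q b ∧
      ∀ k, B.co l k = 0 → B.co b k ≠ 0 := by
    rintro ⟨x, hx⟩
    obtain ⟨u, v, P, hmem⟩ := hpl x hx
    obtain ⟨α, β, hab⟩ := Submodule.mem_span_pair.mp hmem
    have hQb : Q (-β • u + α • v) = Q l := by
      rw [← hab, map_two, map_two, QuadraticMap.map_smul, QuadraticMap.map_smul, QuadraticMap.map_smul,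
        QuadraticMap.map_smul, polar_smul_left, polar_smul_right, polar_smul_left, polar_smul_right, P.perp, P.valu,
        P.valv]
      simp only [smul_eq_mul]
      ring
    have hperp : polar Q l (-β • u + α • v) = 0 := by
      rw [← hab]
      simp only [polar_add_left, polar_add_right, polar_smul_left, polar_smul_right, P.polar_self.1, P.polar_self.2,
        P.perp, polar_comm Q v u, smul_eq_mul]
      ring
    refine ⟨-β • u + α • v, hQb ▸ hQl, hperp, ?_, fun k hk hbk => ?_⟩
    · have hbP : -β • u + α • v ∈ Submodule.span F ({u, v} : Set V) := Submodule.mem_span_pair.mpr ⟨_, _, rfl⟩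
      have hyl : (rf Q l * rf Q (-β • u + α • v)).1 l = -l := by
        show refl Q l (refl Q _ l) = -l
        rw [refl_fix (show polar Q (-β • u + α • v) l = 0 by rw [polar_comm]; exact hperp), refl_self hQl]
      have hyb : (rf Q l * rf Q (-β • u + α • v)).1 (-β • u + α • v) = -(-β • u + α • v) := by
        show refl Q l (refl Q _ (-β • u + α • v)) = _
        rw [refl_self (hQb ▸ hQl), map_neg, refl_fix hperp]
      have hD : α ^ 2 + β ^ 2 ≠ 0 := fun e => hQl (by
        rw [← hab, map_two, QuadraticMap.map_smul, QuadraticMap.map_smul, polar_smul_left, polar_smul_right, P.perp,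
          P.valu, P.valv]
        simp only [smul_eq_mul]
        linear_combination B.c * e)
      have hu' : (α ^ 2 + β ^ 2) • u = α • l + (-β) • (-β • u + α • v) := by
        rw [← hab]; module
      have hv' : (α ^ 2 + β ^ 2) • v = β • l + α • (-β • u + α • v) := by
        rw [← hab]; module
      refine P.eq_of_negates ?_ ?_ fun w => ?_
      · apply smul_right_injective V hD
        simp only [← map_smul, smul_neg]
        rw [hu', map_add, map_smul, map_smul, hyl, hyb, smul_neg, smul_neg, neg_add]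
      · apply smul_right_injective V hD
        simp only [← map_smul, smul_neg]
        rw [hv', map_add, map_smul, map_smul, hyl, hyb, smul_neg, smul_neg, neg_add]
      · show refl Q l (refl Q _ w) - w ∈ _
        rw [refl_apply, refl_apply, show ∀ a b : V, w - a - b - w = -(a + b) from fun a b => by abel]
        exact neg_mem (add_mem (Submodule.smul_mem _ _ hbP) (Submodule.smul_mem _ _ hmem))
    · have hD : α ^ 2 + β ^ 2 ≠ 0 := fun e => hQl (by
        rw [← hab, map_two, QuadraticMap.map_smul, QuadraticMap.map_smul, polar_smul_left, polar_smul_right, P.perp,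
          P.valu, P.valv]
        simp only [smul_eq_mul]
        linear_combination B.c * e)
      rw [← hab, B.co_add, B.co_smul, B.co_smul] at hk
      rw [B.co_add, B.co_smul, B.co_smul] at hbk
      exact P.full k ((mul_eq_zero.mp (by linear_combination α * hk - β * hbk :
          (α ^ 2 + β ^ 2) * B.co u k = 0)).resolve_left hD)
        ((mul_eq_zero.mp (by linear_combination β * hk + α * hbk :
          (α ^ 2 + β ^ 2) * B.co v k = 0)).resolve_left hD)
  choose bf hbQ hbl hbx hbk using hb
  have hpair : ∀ x y, B.Mono (rf Q (bf x) * rf Q (bf y)) := by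
    intro x y
    have h := hm _ x.2 _ y.2
    rw [hbx x, hbx y] at h
    have hc : rf Q l * rf Q (bf x) = rf Q (bf x) * rf Q l := by
      rw [Frame.mul_rf_fix (show (rf Q l).1 (bf x) = bf x from refl_fix (hbl x))]
    rw [hc] at h
    rwa [show rf Q (bf x) * rf Q l * (rf Q l * rf Q (bf y)) = rf Q (bf x) * (rf Q l * rf Q l) * rf Q (bf y) by group,
      rf_mul_self, mul_one] at h
  have hext : ∀ x y, rf Q (bf x) = rf Q (bf y) → x = y := fun x y e => Subtype.ext (by rw [hbx x, hbx y, e])
  by_cases hnm : ∃ x, ¬ B.Mono (rf Q (bf x))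
  · -- one frame image pins each element
    left
    obtain ⟨x₀, hx₀⟩ := hnm
    simp only [Frame.Mono, not_forall] at hx₀
    obtain ⟨k, hk⟩ := hx₀
    have hrepr : ∀ y, ∃ p : Fin n × Bool,
        (rf Q (bf y)).1 (B.bas k) = (rf Q (bf x₀)).1 (if p.2 then B.bas p.1 else -B.bas p.1) := by
      intro y
      have hinv : ∀ z, (rf Q (bf x₀)).1 ((rf Q (bf x₀)).1 z) = z := fun z => by
        show (rf Q (bf x₀) * rf Q (bf x₀)).1 z = z
        rw [rf_mul_self]; rfl
      obtain ⟨j, hj⟩ := hpair x₀ y k
      change (rf Q (bf x₀)).1 ((rf Q (bf y)).1 (B.bas k)) = _ ∨ (rf Q (bf x₀)).1 ((rf Q (bf y)).1 (B.bas k)) = _ at hj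
      rcases hj with h | h
      · exact ⟨(j, true), by rw [if_pos rfl, ← h, hinv]⟩
      · exact ⟨(j, false), by rw [if_neg (by simp), ← h, hinv]⟩
    choose p hp using hrepr
    have hinj : Function.Injective p := by
      intro y z e
      have hyz : (rf Q (bf y)).1 (B.bas k) = (rf Q (bf z)).1 (B.bas k) := by rw [hp, hp, e]
      have hne : ∀ y, polar Q (bf y) (B.bas k) ≠ 0 := by
        intro y hy
        refine hk ?_
        have hfix : (rf Q (bf y)).1 (B.bas k) = B.bas k := refl_fix hy
        have h := hpair x₀ y k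
        change B.IsAx ((rf Q (bf x₀)).1 ((rf Q (bf y)).1 (B.bas k))) at h
        rwa [hfix] at h
      change refl Q (bf y) (B.bas k) = refl Q (bf z) (B.bas k) at hyz
      rw [refl_apply, refl_apply, sub_right_inj] at hyz
      obtain ⟨c1, hc1⟩ : ∃ c1, c1 = (Q (bf y))⁻¹ * polar Q (bf y) (B.bas k) := ⟨_, rfl⟩
      obtain ⟨c2, hc2⟩ : ∃ c2, c2 = (Q (bf z))⁻¹ * polar Q (bf z) (B.bas k) := ⟨_, rfl⟩
      rw [← hc1, ← hc2] at hyz
      have hc10 : c1 ≠ 0 := hc1 ▸ mul_ne_zero (inv_ne_zero (hbQ y)) (hne y)
      have hc20 : c2 ≠ 0 := hc2 ▸ mul_ne_zero (inv_ne_zero (hbQ z)) (hne z)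
      exact hext y z (by rw [← rf_smul hc10 (bf y), ← rf_smul hc20 (bf z), hyz])
    have := Fintype.card_le_of_injective p hinj
    rw [Fintype.card_coe, Fintype.card_prod, Fintype.card_fin, Fintype.card_bool] at this
    omega
  push Not at hnm
  have hshape : ∀ x, (B.supp (bf x)).card ≤ 2 ∧
      ∀ i j, i ≠ j → B.co (bf x) i ≠ 0 → B.co (bf x) j ≠ 0 → B.co (bf x) i ^ 2 = B.co (bf x) j ^ 2 := by
    intro x
    have hne : bf x ≠ 0 := fun e => hbQ x (by rw [e, QuadraticMap.map_zero])
    obtain ⟨A, hA, hAr⟩ := B.exists_coord_of_range (hnm x) (W := Submodule.span F {bf x}) fun w => by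
      show refl Q (bf x) w - w ∈ _
      rw [refl_apply, sub_sub_cancel_left]
      exact neg_mem (Submodule.smul_mem _ _ (Submodule.mem_span_singleton_self _))
    rw [finrank_span_singleton hne] at hA
    have hsub : B.supp (bf x) ⊆ A := fun i hi => by
      by_contra hiA
      have h1 := hAr (bf x) i hiA
      rw [show (rf Q (bf x)).1 (bf x) = -bf x from refl_self (hbQ x), B.co_sub, B.co_neg] at h1
      exact B.mem_supp.mp hi ((mul_eq_zero.mp (by linear_combination -h1 : (2 : F) * B.co (bf x) i = 0)).resolve_left B.two)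
    have hsupp := (Finset.card_le_card hsub).trans hA
    refine ⟨hsupp, fun i j hij hi hj => ?_⟩
    have half : ∀ a b : Fin n, a ≠ b → B.co (bf x) a ≠ 0 → B.co (bf x) b ≠ 0 →
        2 * B.c * B.co (bf x) a ^ 2 = Q (bf x) := by
      intro a b hab ha hb
      have himg : ∀ k, B.co ((rf Q (bf x)).1 (B.bas a)) k =
          (if a = k then 1 else 0) - (Q (bf x))⁻¹ * (2 * B.c * B.co (bf x) a) * B.co (bf x) k := fun k => by
        show B.co (refl Q (bf x) (B.bas a)) k = _
        rw [refl_apply, B.co_sub, B.co_smul, B.co_bas, polar_comm, B.polar_bas]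
      obtain ⟨c', hc'⟩ := (hnm x a).supp B
      by_contra hcon
      have m1 : a ∈ B.supp ((rf Q (bf x)).1 (B.bas a)) := B.mem_supp.mpr (by
        rw [himg, if_pos rfl]; intro e
        refine hcon ?_
        have := hbQ x
        field_simp at e
        linear_combination -e)
      have m2 : b ∈ B.supp ((rf Q (bf x)).1 (B.bas a)) := B.mem_supp.mpr (by
        rw [himg, if_neg hab]; simp [hbQ x, ha, hb, B.two, B.c_ne])
      rw [hc', Finset.mem_singleton] at m1 m2
      exact hab (m1.trans m2.symm)
    exact mul_left_cancel₀ (mul_ne_zero B.two B.c_ne) ((half i j hij hi hj).trans (half j i hij.symm hj hi).symm)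
  have hdot : ∀ x, ∑ k ∈ B.supp (bf x), B.co l k * B.co (bf x) k = 0 := fun x => by
    have h := hbl x
    rw [B.polar_eq] at h
    rw [Finset.sum_subset (Finset.subset_univ _) fun k _ hk => by rw [B.notMem_supp.mp hk, mul_zero]]
    exact (mul_eq_zero.mp h).resolve_left (mul_ne_zero B.two B.c_ne)
  by_cases hz : ∃ k, B.co l k = 0
  · -- at most two elements
    left
    obtain ⟨k, hk⟩ := hz
    have hsame : ∀ x y, B.supp (bf x) ⊆ B.supp (bf y) := by
      intro x y i hi
      refine B.mem_supp.mpr (hbk y i ?_)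
      by_cases hik : i = k
      · exact hik ▸ hk
      · have hki : k ∈ B.supp (bf x) := B.mem_supp.mpr (hbk x k hk)
        have he : B.supp (bf x) = {k, i} := (Finset.eq_of_subset_of_card_le
          (Finset.insert_subset hki (Finset.singleton_subset_iff.mpr hi))
          (by rw [Finset.card_pair (Ne.symm hik)]; exact (hshape x).1)).symm
        have h := hdot x
        rw [he, Finset.sum_pair (Ne.symm hik), hk, zero_mul, zero_add] at h
        exact (mul_eq_zero.mp h).resolve_right (B.mem_supp.mp hi)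
    rcases s.eq_empty_or_nonempty with rfl | ⟨x₀, hx₀⟩
    · simp; omega
    obtain ⟨S₂, hS₂⟩ : ∃ S₂, S₂ = B.supp (bf ⟨x₀, hx₀⟩) := ⟨_, rfl⟩
    have hsupp : ∀ x, B.supp (bf x) = S₂ := fun x => hS₂ ▸ Finset.Subset.antisymm (hsame _ _) (hsame _ _)
    obtain ⟨Φ, hΦ⟩ : ∃ Φ : {x // x ∈ s} → Bool, ∀ x, Φ x = true ↔
        ∀ i ∈ S₂, ∀ j ∈ S₂, B.co (bf x) i = B.co (bf x) j :=
      ⟨fun x => decide (∀ i ∈ S₂, ∀ j ∈ S₂, B.co (bf x) i = B.co (bf x) j), fun x => decide_eq_true_iff⟩
    have hkS : k ∈ S₂ := hS₂ ▸ B.mem_supp.mpr (hbk _ k hk)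
    have hinj : Function.Injective Φ := by
      intro x y e
      refine hext x y ?_
      obtain ⟨t, ht⟩ : ∃ t, t = B.co (bf y) k / B.co (bf x) k := ⟨_, rfl⟩
      have ht0 : t ≠ 0 := ht ▸ div_ne_zero (hbk y k hk) (hbk x k hk)
      have hpm : ∀ z, ∀ i ∈ S₂, B.co (bf z) i = B.co (bf z) k ∨ B.co (bf z) i = -B.co (bf z) k := by
        intro z i hi
        by_cases hik : i = k
        · exact Or.inl (by rw [hik])
        · have h := (hshape z).2 i k hik (B.mem_supp.mp (hsupp z ▸ hi)) (hbk z k hk)
          rcases mul_eq_zero.mp (show (B.co (bf z) i - B.co (bf z) k) * (B.co (bf z) i + B.co (bf z) k) = 0 by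
            linear_combination h) with h' | h'
          · exact Or.inl (sub_eq_zero.mp h')
          · exact Or.inr (eq_neg_of_add_eq_zero_left h')
      have hsign : ∀ i ∈ S₂, B.co (bf x) i = B.co (bf x) k ↔ B.co (bf y) i = B.co (bf y) k := by
        intro i hi
        have hS2 : S₂.card ≤ 2 := hsupp x ▸ (hshape x).1
        have key : ∀ z, i ≠ k → (Φ z = true ↔ B.co (bf z) i = B.co (bf z) k) := by
          intro z hik
          rw [hΦ]
          constructor
          · exact fun h => h i hi k hkS
          · intro h a ha b hb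
            have he : S₂ = {k, i} := (Finset.eq_of_subset_of_card_le
              (Finset.insert_subset hkS (Finset.singleton_subset_iff.mpr hi))
              (by rw [Finset.card_pair (Ne.symm hik)]; exact hS2)).symm
            rw [he, Finset.mem_insert, Finset.mem_singleton] at ha hb
            rcases ha with rfl | rfl <;> rcases hb with rfl | rfl <;> simp [h]
        by_cases hik : i = k
        · subst hik; simp
        · rw [← key x hik, ← key y hik, e]
      have hyx : bf y = t • bf x := B.ext_co fun i => by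
        rw [B.co_smul]
        by_cases hi : i ∈ S₂
        · have htk : t * B.co (bf x) k = B.co (bf y) k := by rw [ht, div_mul_cancel₀ _ (hbk x k hk)]
          rcases hpm x i hi with a | a
          · rw [a, htk, (hsign i hi).mp a]
          · rcases hpm y i hi with b | b
            · have := (hsign i hi).mpr b
              rw [a] at this
              exfalso
              exact hbk x k hk ((mul_eq_zero.mp (by linear_combination -this :
                (2 : F) * B.co (bf x) k = 0)).resolve_left B.two)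
            · rw [a, b, mul_neg, htk]
        · rw [show B.co (bf x) i = 0 from B.notMem_supp.mp (by rw [hsupp x]; exact hi),
            show B.co (bf y) i = 0 from B.notMem_supp.mp (by rw [hsupp y]; exact hi), mul_zero]
      rw [hyx, rf_smul ht0]
    have := Fintype.card_le_of_injective Φ hinj
    rw [Fintype.card_coe, Fintype.card_bool] at this
    omega
  -- roots
  push Not at hz
  right
  have hP : ∀ x, (B.supp (bf x)).card = 2 := by
    intro x
    refine le_antisymm (hshape x).1 ?_
    by_contra h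
    have hne : bf x ≠ 0 := fun e => hbQ x (by rw [e, QuadraticMap.map_zero])
    obtain ⟨i, hi⟩ : (B.supp (bf x)).Nonempty := by
      by_contra h'
      exact hne (B.ext_co fun i => by
        rw [B.co_zero, ← B.notMem_supp, Finset.not_nonempty_iff_eq_empty.mp h']; exact Finset.notMem_empty i)
    have he : B.supp (bf x) = {i} := (Finset.eq_of_subset_of_card_le (Finset.singleton_subset_iff.mpr hi) (by simp; omega)).symm
    have h' := hdot x
    rw [he, Finset.sum_singleton] at h'
    exact mul_ne_zero (hz i) (B.mem_supp.mp hi) h'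
  obtain ⟨Φ, hΦ⟩ : ∃ Φ : {x // x ∈ s} → {p // p ∈ Finset.powersetCard 2 (Finset.univ : Finset (Fin n))},
      ∀ x, (Φ x).1 = B.supp (bf x) :=
    ⟨fun x => ⟨_, Finset.mem_powersetCard.mpr ⟨Finset.subset_univ _, hP x⟩⟩, fun _ => rfl⟩
  have hform : ∀ x i j, i ≠ j → B.supp (bf x) = {i, j} →
      rf Q (bf x) = rf Q (B.co l j • B.bas i - B.co l i • B.bas j) := by
    intro x i j hij he
    have hi : B.co (bf x) i ≠ 0 := B.mem_supp.mp (by rw [he]; simp)
    have hd := hdot x
    rw [he, Finset.sum_pair hij] at hd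
    have e : bf x = (B.co (bf x) i / B.co l j) • (B.co l j • B.bas i - B.co l i • B.bas j) := B.ext_co fun k => by
      have hlj := hz j
      rw [B.co_smul, B.co_sub, B.co_smul, B.co_smul, B.co_bas, B.co_bas]
      by_cases hki : i = k
      · subst hki; simp [hij.symm]; field_simp
      · by_cases hkj : j = k
        · subst hkj
          simp [hij]
          field_simp
          linear_combination hd
        · have : B.co (bf x) k = 0 := B.notMem_supp.mp (by rw [he]; simp [Ne.symm hki, Ne.symm hkj])
          simp [this, hki, hkj]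
    conv_lhs => rw [e]
    exact rf_smul (div_ne_zero hi (hz j)) _
  have hinj : Function.Injective Φ := by
    intro x y e
    obtain ⟨i, j, hij, he⟩ := Finset.card_eq_two.mp (hP x)
    have he' : B.supp (bf y) = {i, j} := by rw [← hΦ y, ← e, hΦ x, he]
    exact hext x y (by rw [hform x i j hij he, hform y i j hij he'])
  have hle := Fintype.card_le_of_injective Φ hinj
  rw [Fintype.card_coe, Fintype.card_coe, Finset.card_powersetCard, Finset.card_univ, Fintype.card_fin] at hle
  refine ⟨hle, fun heq => ?_⟩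
  have hsurj : Function.Surjective Φ := (Fintype.bijective_iff_injective_and_card Φ).mpr
    ⟨hinj, by rw [Fintype.card_coe, Fintype.card_coe, Finset.card_powersetCard, Finset.card_univ, Fintype.card_fin, heq]⟩ |>.2
  have hpairs : ∀ i j, i ≠ j → ∃ x, B.supp (bf x) = {i, j} := fun i j hij => by
    obtain ⟨x, hx⟩ := hsurj ⟨{i, j}, Finset.mem_powersetCard.mpr ⟨Finset.subset_univ _, Finset.card_pair hij⟩⟩
    exact ⟨x, by rw [← hΦ x, hx]⟩
  refine ⟨hz, fun i j => ?_, fun i j hij => ?_, fun y hy => ?_⟩
  · by_cases hij : i = j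
    · rw [hij]
    obtain ⟨x, hx⟩ := hpairs i j hij
    have hi : B.co (bf x) i ≠ 0 := B.mem_supp.mp (by rw [hx]; simp)
    have hj : B.co (bf x) j ≠ 0 := B.mem_supp.mp (by rw [hx]; simp)
    have hsq := (hshape x).2 i j hij hi hj
    have hd := hdot x
    rw [hx, Finset.sum_pair hij] at hd
    refine mul_right_cancel₀ (pow_ne_zero 2 hi) ?_
    linear_combination (B.co l i * B.co (bf x) i - B.co l j * B.co (bf x) j) * hd - B.co l j ^ 2 * hsq
  · obtain ⟨x, hx⟩ := hpairs i j hij
    rw [← hform x i j hij hx, ← hbx x]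
    exact x.2
  · obtain ⟨i, j, hij, he⟩ := Finset.card_eq_two.mp (hP ⟨y, hy⟩)
    refine ⟨i, j, hij, ?_⟩
    rw [← hform _ i j hij he]
    exact hbx ⟨y, hy⟩

/-- The bound on one coset, with the case of equality. -/
theorem Frame.Star.fibre (S : B.Star H) {s : Finset ↥(Iso Q)} (hT : ∀ x ∈ s, B.InT H x ∧ ¬ B.Mono x)
    (hm : ∀ x ∈ s, ∀ y ∈ s, B.Mono (x * y)) :
    s.card ≤ n.choose 2 ∧ (s.card = n.choose 2 → ∃ l, Q l ≠ 0 ∧
      (∀ k, B.co l k ≠ 0) ∧ (∀ i j, B.co l i ^ 2 = B.co l j ^ 2) ∧
        (∀ i j, i ≠ j → rf Q l * rf Q (B.co l j • B.bas i - B.co l i • B.bas j) ∈ s) ∧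
        ∀ x ∈ s, ∃ i j, i ≠ j ∧ x = rf Q l * rf Q (B.co l j • B.bas i - B.co l i • B.bas j)) := by
  classical
  have hn := S.big
  have h36 : 36 ≤ n.choose 2 := le_trans (by decide) (Nat.choose_le_choose 2 hn)
  by_cases hone : s.card ≤ 1
  · exact ⟨by omega, fun h => by omega⟩
  obtain ⟨x₀, hx₀, x₁, hx₁, h01⟩ := Finset.one_lt_card.mp (by omega : 1 < s.card)
  obtain ⟨u, v, P⟩ := S.exists_plane B (hT x₀ hx₀).1 (hT x₀ hx₀).2
  have hmate : ∀ x ∈ s, x ≠ x₀ → ∃ α β : F, α • u + β • v ≠ 0 ∧ (B.supp (-β • u + α • v)).card ≤ 4 ∧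
      ∃ u' v', B.IsPlane x u' v' ∧ α • u + β • v ∈ Submodule.span F ({u', v'} : Set V) := by
    intro x hx hne
    obtain ⟨u', v', P'⟩ := S.exists_plane B (hT x hx).1 (hT x hx).2
    obtain ⟨α, β, h0, hmem, h6⟩ := P.common_line hn P' (Ne.symm hne) (hm _ hx₀ _ hx)
    exact ⟨α, β, h0, h6, u', v', P', hmem⟩
  obtain ⟨α, β, h0, h6, u₁, v₁, P₁, hm₁⟩ := hmate x₁ hx₁ h01.symm
  have hall : ∀ x ∈ s, ∃ u' v', B.IsPlane x u' v' ∧ α • u + β • v ∈ Submodule.span F ({u', v'} : Set V) := by
    intro x hx
    by_cases hne : x = x₀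
    · exact ⟨u, v, hne ▸ P, Submodule.mem_span_pair.mpr ⟨α, β, rfl⟩⟩
    obtain ⟨γ, δ, h0', h6', u', v', P', hm'⟩ := hmate x hx hne
    refine ⟨u', v', P', ?_⟩
    obtain ⟨t, ht⟩ : ∃ t : F, -δ • u + γ • v = t • (-β • u + α • v) := by
      by_contra! hcon
      have := P.supp_le (Submodule.mem_span_pair.mpr ⟨_, _, rfl⟩) (Submodule.mem_span_pair.mpr ⟨_, _, rfl⟩) hcon ?_
      · omega
      intro e
      have a1 := congrArg (polar Q u) e
      have a2 := congrArg (polar Q v) e
      simp only [polar_add_right, polar_smul_right, P.polar_self.1, P.polar_self.2, P.perp, polar_comm Q v u,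
        polar_zero_right, smul_eq_mul, mul_zero, add_zero, zero_add] at a1 a2
      refine h0 ?_
      rw [(mul_eq_zero.mp a2).resolve_right (mul_ne_zero B.two B.c_ne),
        neg_eq_zero.mp ((mul_eq_zero.mp a1).resolve_right (mul_ne_zero B.two B.c_ne)), zero_smul, zero_smul, add_zero]
    have a1 := congrArg (polar Q u) ht
    have a2 := congrArg (polar Q v) ht
    simp only [polar_add_right, polar_smul_right, smul_add, P.polar_self.1, P.polar_self.2, P.perp,
      polar_comm Q v u, smul_eq_mul, mul_zero, add_zero, zero_add] at a1 a2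
    have hδ : δ = t * β := mul_right_cancel₀ (mul_ne_zero B.two B.c_ne) (by linear_combination -a1)
    have hγ : γ = t * α := mul_right_cancel₀ (mul_ne_zero B.two B.c_ne) (by linear_combination a2)
    have e : γ • u + δ • v = t • (α • u + β • v) := by rw [hγ, hδ]; module
    have ht0 : t ≠ 0 := fun e0 => h0' (by rw [e, e0, zero_smul])
    rw [e] at hm'
    exact (Submodule.smul_mem_iff _ ht0).mp hm'
  by_cases hQ : Q (α • u + β • v) = 0
  · have := S.singular_card B hm h0 hQ hall
    exact ⟨this.le, fun e => absurd e this.ne⟩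
  · rcases S.nonsingular_card B hm hQ hall with h | ⟨hle, h⟩
    · exact ⟨h.le, fun e => absurd e h.ne⟩
    · exact ⟨hle, fun e => ⟨_, hQ, h e⟩⟩

end Cfsg.Agent.Classical.MFrame
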