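import Cfsg.Agent.Lib.Classical.MonomFrame.Count
import Cfsg.Agent.Lib.Classical.OrthIndex

/-!
# Pairs of unit reflections and the derived group; the odd-dimensional conclusion
-/

set_option autoImplicit false
set_option linter.unusedSectionVars false

namespace Cfsg.Agent.Classical.MFrame

open Module QuadraticMap OCount ORefl OOmega

variable {F : Type*} [Field F] [Finite F] {V : Type*} [AddCommGroup V] [Module F V] [FiniteDimensional F V]
variable {Q : QuadraticForm F V} {n : ℕ} (B : Frame Q n)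

include B in
theorem Frame.finrank_eq : finrank F V = n := by
  rw [Module.finrank_eq_card_basis B.bas, Fintype.card_fin]

include B in
theorem Frame.both_rf (hn : 2 ≤ n) {u v : V} (hu : Q u ≠ 0) (h : Q v = Q u) :
    rf Q u * rf Q v ∈ commutator ↥(Iso Q) := by
  have hd : 2 ≤ finrank F V := B.finrank_eq.symm ▸ hn
  rw [commutator_eq B.two B.pnd hd, MonoidHom.mem_ker, map_mul]
  have e : both Q B.two B.pnd (rf Q u) = both Q B.two B.pnd (rf Q v) := by
    refine Prod.ext ((dsign_rf B.two B.pnd hu).trans (dsign_rf B.two B.pnd (h ▸ hu)).symm) ?_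
    show spinor Q (rf Q u) = spinor Q (rf Q v)
    have a := spinor_rf B.two B.pnd hd hu
    have b := spinor_rf B.two B.pnd hd (h ▸ hu : Q v ≠ 0)
    rw [h] at b
    rcases Int.units_eq_one_or (spinor Q (rf Q u)) with e | e <;>
      rcases Int.units_eq_one_or (spinor Q (rf Q v)) with e' | e' <;> rw [e, e']
    · exact absurd (e'.symm.trans (b.mpr (a.mp e))) (by decide)
    · exact absurd (e.symm.trans (a.mpr (b.mp e'))) (by decide)
  rw [← e, ← map_mul, rf_mul_self, map_one]

theorem Frame.sg_pair_mem (hn : 2 ≤ n) (i j : Fin n) : B.sg i * B.sg j ∈ commutator ↥(Iso Q) :=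
  B.both_rf hn (by rw [B.val]; exact B.c_ne) (by rw [B.val, B.val])

/-- The even permutations of the frame lie in the derived group. -/
theorem Frame.alt_mem (hn : 2 ≤ n) : HasAlt B (commutator ↥(Iso Q)) := by
  classical
  obtain ⟨a, b, hab⟩ : ∃ a b : Fin n, a ≠ b := ⟨⟨0, by omega⟩, ⟨1, by omega⟩, by simp⟩
  obtain ⟨κ, hκ⟩ : ∃ κ, κ = both Q B.two B.pnd (rf Q (B.bas a - B.bas b)) := ⟨_, rfl⟩
  have hd : 2 ≤ finrank F V := B.finrank_eq.symm ▸ hn
  have hsw : ∀ {i j : Fin n}, i ≠ j → both Q B.two B.pnd (rf Q (B.bas i - B.bas j)) = κ := by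
    intro i j hij
    have h := B.both_rf hn (u := B.bas i - B.bas j) (v := B.bas a - B.bas b)
      (by rw [B.val_sub_bas hij]; exact mul_ne_zero B.two B.c_ne) (by rw [B.val_sub_bas hij, B.val_sub_bas hab])
    rw [commutator_eq B.two B.pnd hd, MonoidHom.mem_ker, map_mul, ← hκ] at h
    rw [← mul_left_inj κ, h, hκ, ← map_mul, rf_mul_self, map_one]
  have key : ∀ σ : Equiv.Perm (Fin n), ∃ g, B.IsPerm σ g ∧
      both Q B.two B.pnd g = if Equiv.Perm.sign σ = 1 then 1 else κ := by
    intro σ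
    induction σ using Equiv.Perm.swap_induction_on with
    | one => exact ⟨1, fun _ => rfl, by simp⟩
    | swap_mul f i j hij ih =>
      obtain ⟨g, hg, hb⟩ := ih
      refine ⟨rf Q (B.bas i - B.bas j) * g, (B.isPerm_swap hij).mul B hg, ?_⟩
      rw [map_mul, hsw hij, hb, Equiv.Perm.sign_mul, Equiv.Perm.sign_swap hij]
      rcases Int.units_eq_one_or (Equiv.Perm.sign f) with e | e <;> rw [e]
      · simp
      · simp only [Int.reduceNeg, mul_neg, mul_one, neg_neg, if_true, if_neg (show (-1 : ℤˣ) ≠ 1 by decide)]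
        rw [hκ, ← map_mul, rf_mul_self, map_one]
  intro σ hσ
  obtain ⟨g, hg, hb⟩ := key σ
  refine ⟨g, ?_, hg⟩
  rw [commutator_eq B.two B.pnd hd, MonoidHom.mem_ker, hb, if_pos (Equiv.Perm.mem_alternatingGroup.mp hσ)]

/-- Pairs of unit reflections generate the derived group. -/
theorem Frame.commutator_le (hn : 5 ≤ n) {H : Subgroup ↥(Iso Q)} (i₀ : Fin n)
    (hP : ∀ u, Q u = B.c → rf Q u * B.sg i₀ ∈ H) : commutator ↥(Iso Q) ≤ H := by
  classical
  have hd : 2 ≤ finrank F V := B.finrank_eq.symm ▸ (by omega)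
  obtain ⟨N, hN⟩ : ∃ N : Subgroup ↥(Iso Q), N = Subgroup.closure {g | ∃ u v, Q u = B.c ∧ Q v = B.c ∧ g = rf Q u * rf Q v} :=
    ⟨_, rfl⟩
  have hgen : ∀ u v, Q u = B.c → Q v = B.c → rf Q u * rf Q v ∈ N := fun u v hu hv =>
    hN ▸ Subgroup.subset_closure ⟨u, v, hu, hv, rfl⟩
  have hNH : N ≤ H := hN ▸ (Subgroup.closure_le _).mpr (by
    rintro g ⟨u, v, hu, hv, rfl⟩
    have := mul_mem (hP u hu) (inv_mem (hP v hv))
    rwa [mul_inv_rev, ← mul_assoc, mul_assoc (rf Q u), mul_inv_cancel, mul_one, rf_inv] at this)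
  have hinv : B.sg i₀ * B.sg i₀ = 1 := rf_mul_self _
  have hconj : ∀ y ∈ N, B.sg i₀ * y * B.sg i₀ ∈ N := by
    intro y hy
    have : N ≤ N.comap (MulAut.conj (B.sg i₀)).toMonoidHom := by
      conv_lhs => rw [hN]
      refine (Subgroup.closure_le _).mpr ?_
      rintro g ⟨u, v, hu, hv, rfl⟩
      change B.sg i₀ * (rf Q u * rf Q v) * (B.sg i₀)⁻¹ ∈ N
      rw [show B.sg i₀ * (rf Q u * rf Q v) * (B.sg i₀)⁻¹ =
        B.sg i₀ * rf Q u * (B.sg i₀)⁻¹ * (B.sg i₀ * rf Q v * (B.sg i₀)⁻¹) by group, conj_rf, conj_rf]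
      exact hgen _ _ (by rw [(B.sg i₀).2, hu]) (by rw [(B.sg i₀).2, hv])
    have h := this hy
    change B.sg i₀ * y * (B.sg i₀)⁻¹ ∈ N at h
    rwa [inv_eq_of_mul_eq_one_left hinv] at h
  have hS : classGroup Q B.c ≤ (
      { carrier := {x | x ∈ N ∨ x * B.sg i₀ ∈ N}
        one_mem' := Or.inl (one_mem _)
        mul_mem' := by
          rintro x y (hx | hx) (hy | hy)
          · exact Or.inl (mul_mem hx hy)
          · exact Or.inr (by rw [mul_assoc]; exact mul_mem hx hy)
          · refine Or.inr ?_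
            have := mul_mem hx (hconj y hy)
            rwa [show x * B.sg i₀ * (B.sg i₀ * y * B.sg i₀) = x * (B.sg i₀ * B.sg i₀) * y * B.sg i₀ by group, hinv,
              mul_one] at this
          · refine Or.inl ?_
            have := mul_mem hx (hconj _ hy)
            rwa [show x * B.sg i₀ * (B.sg i₀ * (y * B.sg i₀) * B.sg i₀) =
              x * (B.sg i₀ * B.sg i₀) * y * (B.sg i₀ * B.sg i₀) by group, hinv, mul_one, mul_one] at this
        inv_mem' := by
          rintro x (hx | hx)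
          · exact Or.inl (inv_mem hx)
          · refine Or.inr ?_
            have := hconj _ (inv_mem hx)
            rwa [mul_inv_rev, ← mul_assoc, mul_inv_cancel, one_mul] at this } : Subgroup ↥(Iso Q)) := by
    refine (Subgroup.closure_le _).mpr ?_
    rintro g ⟨v, hv, ⟨t, ht⟩, rfl⟩
    refine Or.inr ?_
    have ht0 : t ≠ 0 := fun e => div_ne_zero hv B.c_ne (by rw [ht, e, mul_zero])
    rw [← rf_smul (inv_ne_zero ht0) v]
    refine hgen _ _ ?_ (B.val i₀)
    rw [QuadraticMap.map_smul, smul_eq_mul, show Q v = B.c * (t * t) by rw [← ht]; field_simp [B.c_ne]]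
    field_simp
  intro x hx
  rcases hS (commutator_le_of_index_two (index_classGroup B.two B.pnd hd
    (Or.inr (Or.inl (B.finrank_eq.symm ▸ hn))) B.c_ne) hx) with h | h
  · exact hNH h
  · exfalso
    have hker : N ≤ (dsign B.two B.pnd).ker := hN ▸ (Subgroup.closure_le _).mpr (by
      rintro g ⟨u, v, hu, hv, rfl⟩
      show dsign B.two B.pnd (rf Q u * rf Q v) = 1
      rw [map_mul, dsign_rf B.two B.pnd (hu ▸ B.c_ne), dsign_rf B.two B.pnd (hv ▸ B.c_ne)]
      decide)
    rw [commutator_eq B.two B.pnd hd, MonoidHom.mem_ker] at hx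
    have h1 : dsign B.two B.pnd x = 1 := congrArg Prod.fst hx
    have h2 := hker h
    rw [MonoidHom.mem_ker, map_mul, h1, show dsign B.two B.pnd (B.sg i₀) = -1 from
      dsign_rf B.two B.pnd (by rw [B.val]; exact B.c_ne)] at h2
    exact absurd h2 (by decide)

/-- The derived group is not monomial. -/
theorem Frame.exists_nonMono_mem (hn : 5 ≤ n) : ∃ g ∈ commutator ↥(Iso Q), ¬ B.Mono g := by
  classical
  haveI := finite_iso (Q := Q)
  obtain ⟨T, -, hT⟩ := Finset.exists_subset_card_eq (s := (Finset.univ : Finset (Fin n))) (n := 4)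
    (by rw [Finset.card_univ, Fintype.card_fin]; omega)
  obtain ⟨u, hu⟩ : ∃ u, u = ∑ i ∈ T, (2⁻¹ : F) • B.bas i := ⟨_, rfl⟩
  have hco : ∀ j, B.co u j = if j ∈ T then 2⁻¹ else 0 := fun j => by
    have hs : ∀ g : Fin n → V, B.co (∑ i ∈ T, g i) j = ∑ i ∈ T, B.co (g i) j := fun g => by simp [Frame.co]
    simp only [hu, hs, B.co_smul, B.co_bas, mul_ite, mul_one, mul_zero, Finset.sum_ite_eq']
  have hval : Q u = B.c := by
    rw [B.val_eq, Finset.sum_congr rfl fun i _ => show B.co u i ^ 2 = if i ∈ T then (2⁻¹ : F) ^ 2 else 0 by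
      rw [hco]; split_ifs <;> simp, Finset.sum_ite_mem, Finset.univ_inter, Finset.sum_const, hT, nsmul_eq_mul]
    have := B.two
    push_cast
    field_simp
    ring
  obtain ⟨i, hi⟩ : T.Nonempty := Finset.card_pos.mp (by omega)
  refine ⟨rf Q u * B.sg i, B.both_rf (by omega) (hval ▸ B.c_ne) (by rw [B.val, hval]), fun h => ?_⟩
  have hm : B.Mono (rf Q u) := (B.mono_sg i).mul_cancel_right B h
  have hsupp : B.supp u = T := by
    ext j
    rw [B.mem_supp, hco]
    by_cases hj : j ∈ T <;> simp [hj, B.two]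
  rcases axis_or_root_of_mono B hval hm with hax | ⟨a, b, hab, he, -⟩
  · obtain ⟨l, hl⟩ := hax.supp B
    rw [hsupp] at hl
    rw [hl, Finset.card_singleton] at hT
    omega
  · rw [hsupp] at he
    rw [he, Finset.card_pair hab] at hT
    omega

/-- Odd dimension: a subgroup between the monomial part and the derived group is one of them. -/
theorem Frame.mono_or_ge_odd (hp : (Nat.card F).Prime) (hodd : Odd n) (hn : 7 ≤ n) {H : Subgroup ↥(Iso Q)}
    (hH : H ≤ commutator ↥(Iso Q)) (hM : ∀ g ∈ commutator ↥(Iso Q), B.Mono g → g ∈ H) :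
    (∀ g ∈ H, B.Mono g) ∨ commutator ↥(Iso Q) ≤ H := by
  classical
  by_cases hall : ∀ g ∈ H, B.Mono g
  · exact Or.inl hall
  right
  push Not at hall
  obtain ⟨g₀, hg₀, hg₀m⟩ := hall
  have hd : 2 ≤ finrank F V := B.finrank_eq.symm ▸ (by omega)
  obtain ⟨z, hz⟩ : ∃ z, z = B.flip Finset.univ := ⟨_, rfl⟩
  have hzn : ∀ x, z.1 x = -x := fun x => B.ext_co fun j => by rw [hz, B.co_flip, if_pos (Finset.mem_univ j), B.co_neg]
  have hzc : ∀ g : ↥(Iso Q), g * z = z * g := fun g => Subtype.ext (LinearEquiv.ext fun x => by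
    show g.1 (z.1 x) = z.1 (g.1 x)
    rw [hzn, hzn, map_neg])
  have hzz : z * z = 1 := Subtype.ext (LinearEquiv.ext fun x => by
    show z.1 (z.1 x) = x
    rw [hzn, hzn, neg_neg])
  let G : Subgroup ↥(Iso Q) :=
    { carrier := {g | g ∈ H ∨ g * z ∈ H}
      one_mem' := Or.inl (one_mem H)
      mul_mem' := by
        rintro x y (hx | hx) (hy | hy)
        · exact Or.inl (mul_mem hx hy)
        · exact Or.inr (by rw [mul_assoc]; exact mul_mem hx hy)
        · exact Or.inr (by rw [mul_assoc, hzc y, ← mul_assoc]; exact mul_mem hx hy)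
        · refine Or.inl ?_
          have := mul_mem hx hy
          rwa [mul_assoc x z, ← mul_assoc z, ← hzc y, mul_assoc y z z, hzz, mul_one] at this
      inv_mem' := by
        rintro x (hx | hx)
        · exact Or.inl (inv_mem hx)
        · refine Or.inr ?_
          have := inv_mem hx
          rwa [mul_inv_rev, inv_eq_of_mul_eq_one_left hzz, ← hzc x⁻¹] at this }
  have hpairs : ∀ k l, k ≠ l → B.sg k * B.sg l ∈ H := fun k l _ =>
    hM _ (B.sg_pair_mem (by omega) k l) ((B.mono_sg k).mul B (B.mono_sg l))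
  have hsg : ∀ i, B.sg i ∈ G := fun i => Or.inr (by
    have h1 : B.flip {i} = B.sg i := B.iso_ext_co fun x j => by rw [B.co_flip, B.co_sg]; simp [eq_comm]
    rw [← h1, hz, B.flip_mul]
    refine B.flip_induction (O := Finset.univ) (P := fun f => f ∈ H) (one_mem H)
      (fun k _ l _ hkl f hf => mul_mem (hpairs k l hkl) hf) _ (Finset.subset_univ _) ?_
    have e : symmDiff ({i} : Finset (Fin n)) Finset.univ = Finset.univ.erase i := by
      ext j; simp [Finset.mem_symmDiff]
    rw [e, Finset.card_erase_of_mem (Finset.mem_univ i), Finset.card_univ, Fintype.card_fin]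
    obtain ⟨r, hr⟩ := hodd
    exact ⟨r, by omega⟩)
  have hG : HasAlt B G := fun σ hσ => by
    obtain ⟨g, hg, hgσ⟩ := B.alt_mem (by omega) σ hσ
    exact ⟨g, Or.inl (hM g hg (Frame.IsPerm.mono B hgσ)), hgσ⟩
  obtain ⟨u, hu, hGu, h4, hax, hroot⟩ := found_of_not_mono B hsg hG (by omega) ⟨g₀, Or.inl hg₀, hg₀m⟩
  have hS := all_of_short B hsg hG hp hn hu hGu h4 hax hroot
  have hdet : ∀ v, Q v = B.c → rf Q v * z ∈ H := fun v hv => by
    rcases hS v trivial hv with h | h
    · exfalso
      have h1 := hH h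
      rw [commutator_eq B.two B.pnd hd, MonoidHom.mem_ker] at h1
      have h2 : dsign B.two B.pnd (rf Q v) = 1 := congrArg Prod.fst h1
      rw [dsign_rf B.two B.pnd (hv ▸ B.c_ne)] at h2
      exact absurd h2 (by decide)
    · exact h
  refine B.commutator_le (by omega) ⟨0, by omega⟩ fun v hv => ?_
  have := mul_mem (hdet v hv) (hdet _ (B.val ⟨0, by omega⟩))
  rwa [mul_assoc (rf Q v) z, ← mul_assoc z, ← hzc, mul_assoc _ z z, hzz, mul_one] at this

end Cfsg.Agent.Classical.MFrame
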