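import Cfsg.Agent.Lib.Classical.MonomFrame.Short
import Cfsg.Agent.Lib.Classical.MonomFrame.Pairs

/-!
# Five dimensions: short vectors and the conclusion

In five dimensions there is too little room for two copies of a vector meeting in one place.  Instead a
coordinate with a general square spreads directly, and one move of a place to the free one always makes
such a coordinate.
-/

set_option autoImplicit false
set_option linter.unusedSectionVars false

namespace Cfsg.Agent.Classical.MFrame

open Module QuadraticMap OCount ORefl OOmega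

variable {F : Type*} [Field F]

section Values

variable (h2 : (2 : F) ≠ 0) (h3 : (3 : F) ≠ 0)
include h2 h3

theorem special_four {a : F} (ha : 4 * a = 1) : Good (4 * (1 - a) ^ 2 * a) ∨ (5 : F) = 0 ∨ (11 : F) = 0 := by
  by_contra h
  rw [not_or, not_or] at h
  obtain ⟨hg, h5, h11⟩ := h
  have hN : 16 * (4 * (1 - a) ^ 2 * a) = 9 := by linear_combination (16 * a ^ 2 - 28 * a + 9) * ha
  generalize 4 * (1 - a) ^ 2 * a = N at hg hN
  obtain ⟨-, hb⟩ := bad_of_not_good (fun e => pow_ne_zero 2 h3 (by linear_combination -hN + 16 * e)) hg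
  rcases hb with hb | hb | hb
  · exact h5 (by linear_combination -hN + 4 * hb)
  · exact one_ne_zero (α := F) (by linear_combination -hN + 8 * hb)
  · exact h11 (by linear_combination -16 * hb + (16 * N - 3) * hN)

theorem special_quad {a : F} (ha : 16 * a ^ 2 - 12 * a + 1 = 0) :
    Good (4 * (1 - a) ^ 2 * a) ∨ (5 : F) = 0 ∨ (19 : F) = 0 := by
  by_contra h
  rw [not_or, not_or] at h
  obtain ⟨hg, h5, h19⟩ := h
  have hN : 16 * (4 * (1 - a) ^ 2 * a) = 5 := by linear_combination (4 * a - 5) * ha
  generalize 4 * (1 - a) ^ 2 * a = N at hg hN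
  obtain ⟨-, hb⟩ := bad_of_not_good (fun e => h5 (by linear_combination -hN + 16 * e)) hg
  rcases hb with hb | hb | hb
  · exact one_ne_zero (α := F) (by linear_combination -hN + 4 * hb)
  · exact h3 (by linear_combination hN - 8 * hb)
  · exact h19 (by linear_combination -16 * hb + (16 * N - 7) * hN)

theorem good_eighth {x : F} (hx : 8 * x = 1) : Good x := by
  by_contra hg
  obtain ⟨-, hb⟩ := bad_of_not_good (fun e => one_ne_zero (α := F) (by linear_combination -hx + 8 * e)) hg
  rcases hb with hb | hb | hb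
  · exact one_ne_zero (α := F) (by linear_combination hx - 2 * hb)
  · exact h3 (by linear_combination hx - 4 * hb)
  · exact one_ne_zero (α := F) (by linear_combination -4 * hb + (8 * x - 5) * hx)

theorem good_sixteenth {x : F} (hx : 16 * x = 1) (h7 : (7 : F) ≠ 0) : Good x := by
  by_contra hg
  obtain ⟨hx1, hb⟩ := bad_of_not_good (fun e => one_ne_zero (α := F) (by linear_combination -hx + 16 * e)) hg
  rcases hb with hb | hb | hb
  · exact h3 (by linear_combination hx - 4 * hb)
  · exact h7 (by linear_combination hx - 8 * hb)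
  · have h5 : (5 : F) = 0 := by linear_combination 16 * hb + (-16 * x + 11) * hx
    exact hx1 (by linear_combination hx - 3 * x * h5)

omit h3 in
/-- Two different roots of the quadratic add up to three quarters. -/
theorem quad_pair {a b : F} (ha : 16 * a ^ 2 - 12 * a + 1 = 0) (hb : 16 * b ^ 2 - 12 * b + 1 = 0) :
    a = b ∨ 4 * (a + b) = 3 := by
  have h : (4 : F) * ((a - b) * (4 * (a + b) - 3)) = 0 := by linear_combination ha - hb
  have h4 : (4 : F) ≠ 0 := by rw [show (4 : F) = 2 * 2 by norm_num]; exact mul_ne_zero h2 h2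
  rcases mul_eq_zero.mp ((mul_eq_zero.mp h).resolve_left h4) with h | h
  · exact Or.inl (sub_eq_zero.mp h)
  · exact Or.inr (sub_eq_zero.mp h)

omit h3 in
theorem two_values {a b : F} (hab : a + b = 1) (ha : Bad a) (hb : Bad b) (h3' : (3 : F) ≠ 0) : a = b := by
  have quarter : ∀ {a b : F}, a + b = 1 → 4 * a = 1 → Bad b → a = b := by
    intro a b hab ha hb
    have e : 4 * b = 3 := by linear_combination 4 * hab - ha
    rcases hb with h | h | h
    · exact mul_left_cancel₀ (show (4 : F) ≠ 0 by rw [show (4 : F) = 2 * 2 by norm_num]; exact mul_ne_zero h2 h2)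
        (ha.trans h.symm)
    · exact absurd (show (1 : F) = 0 by linear_combination 2 * h - e) one_ne_zero
    · exact absurd (show (1 : F) = 0 by linear_combination h - 4 * b * e) one_ne_zero
  have half : ∀ {a b : F}, a + b = 1 → 2 * a = 1 → a = b := fun hab ha =>
    mul_left_cancel₀ h2 (by linear_combination 2 * ha - 2 * hab)
  rcases ha with h | h | h
  · exact quarter hab h hb
  · exact half hab h
  rcases hb with h' | h' | h'
  · exact (quarter ((add_comm b a).trans hab) h' (Or.inr (Or.inr h))).symm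
  · exact (half ((add_comm b a).trans hab) h').symm
  · rcases quad_pair h2 h h' with e | e
    · exact e
    · exact absurd (show (1 : F) = 0 by linear_combination e - 4 * hab) one_ne_zero

end Values

variable [Finite F] {V : Type*} [AddCommGroup V] [Module F V] [FiniteDimensional F V]
variable {Q : QuadraticForm F V} {n : ℕ} (B : Frame Q n) {G : Subgroup ↥(Iso Q)}

/-- An even permutation of five places carrying a four-element set onto another. -/
theorem exists_even_onto {S T : Finset (Fin n)} (hS : S.card = T.card) (h2 : 2 ≤ S.card) :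
    ∃ σ ∈ alternatingGroup (Fin n), S.image σ = T := by
  classical
  obtain ⟨e⟩ : Nonempty (S ↪ T) := Function.Embedding.nonempty_of_card_le (by simp [hS])
  obtain ⟨σ, hσ⟩ := Equiv.Perm.exists_extending_pair (fun x : S => (x : Fin n)) (fun x : S => (e x : Fin n))
    Subtype.val_injective (fun x y h => e.injective (Subtype.ext h))
  have key : ∀ τ : Equiv.Perm (Fin n), (∀ x ∈ S, τ x ∈ T) → S.image τ = T := fun τ h =>
    Finset.eq_of_subset_of_card_le (fun y hy => by
      obtain ⟨x, hx, rfl⟩ := Finset.mem_image.mp hy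
      exact h x hx) (by rw [Finset.card_image_of_injective _ τ.injective, hS])
  have hσT : ∀ x ∈ S, σ x ∈ T := fun x hx => by rw [hσ ⟨x, hx⟩]; exact (e _).2
  by_cases hs : Equiv.Perm.sign σ = 1
  · exact ⟨σ, hs, key σ hσT⟩
  obtain ⟨a, ha, b, hb, hab⟩ := Finset.one_lt_card.mp h2
  refine ⟨σ * Equiv.swap a b, ?_, key _ fun x hx => ?_⟩
  · rw [Equiv.Perm.mem_alternatingGroup, Equiv.Perm.sign_mul, Equiv.Perm.sign_swap hab]
    rcases Int.units_eq_one_or (Equiv.Perm.sign σ) with h | h
    · exact absurd h hs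
    · rw [h]; rfl
  · rw [Equiv.Perm.mul_apply]
    refine hσT _ ?_
    rw [Equiv.swap_apply_def]
    split_ifs <;> assumption

theorem all_of_short_three_five (hsg : ∀ i, B.sg i ∈ G) (hG : HasAlt B G) (h3 : Nat.card F = 3) (hn : n = 5) {u : V}
    (hu : Q u = B.c) (hGu : rf Q u ∈ G) (h4 : (B.supp u).card ≤ 4) (h2s : 2 ≤ (B.supp u).card) :
    Sph G B.c ⊤ := by
  classical
  haveI := Fintype.ofFinite F
  haveI : CharP F 3 := charP_of_card_eq_prime (by rwa [← Nat.card_eq_fintype_card])
  have hsq : ∀ x : F, x ≠ 0 → x ^ 2 = 1 := fun x hx => by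
    have h := FiniteField.pow_card_sub_one_eq_one x hx
    rwa [← Nat.card_eq_fintype_card, h3] at h
  have hcard : ∀ v : V, Q v = B.c → 3 ∣ (B.supp v).card - 1 ∧ 1 ≤ (B.supp v).card := by
    intro v hv
    have h := B.sum_sq v hv
    rw [Finset.sum_congr rfl fun i hi => hsq _ (B.mem_supp.mp hi), Finset.sum_const, nsmul_eq_mul, mul_one] at h
    have h1 : 1 ≤ (B.supp v).card := Nat.one_le_iff_ne_zero.mpr fun e => by rw [e] at h; simp at h
    refine ⟨(CharP.cast_eq_zero_iff F 3 _).mp ?_, h1⟩
    rw [Nat.cast_sub h1, h]; simp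
  have hs4 : (B.supp u).card = 4 := by have := hcard u hu; omega
  intro v _ hv
  obtain ⟨hd, h1⟩ := hcard v hv
  have h5 := Finset.card_le_univ (B.supp v)
  rw [Fintype.card_fin] at h5
  obtain hk1 | hk4 : (B.supp v).card = 1 ∨ (B.supp v).card = 4 := by omega
  · obtain ⟨i, hi⟩ := Finset.card_eq_one.mp hk1
    have hax : B.IsAx v := B.isAx_of_supp hv (i := i) fun j hj => B.notMem_supp.mp (by simp [hi, hj])
    obtain ⟨l, rfl | rfl⟩ := hax
    · exact hsg l
    · rw [← rf_smul (neg_ne_zero.mpr one_ne_zero) (-B.bas l)]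
      simpa [Frame.sg] using hsg l
  obtain ⟨σ, hσA, hσ⟩ := exists_even_onto (hs4.trans hk4.symm) (by omega)
  obtain ⟨g, hg, hgσ⟩ := hG σ hσA
  obtain ⟨w, rfl⟩ : ∃ w, w = g.1 u := ⟨_, rfl⟩
  have hwc : ∀ i, B.co (g.1 u) (σ i) = B.co u i := fun i => by simp [B.co_perm hgσ]
  have hsame : B.supp (g.1 u) = B.supp v := by
    rw [← hσ]
    ext j
    obtain ⟨i, rfl⟩ := σ.surjective j
    rw [B.mem_supp, hwc, ← B.mem_supp, Finset.mem_image]
    exact ⟨fun h => ⟨i, h, rfl⟩, fun ⟨i', hi', e⟩ => σ.injective e ▸ hi'⟩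
  obtain ⟨h, hh, hfl⟩ := B.exists_flip hsg (Finset.univ.filter fun i => B.co (g.1 u) i ≠ B.co v i)
  have e2 : h.1 (g.1 u) = v := B.ext_co fun j => by
    rw [hfl]
    simp only [Finset.mem_filter, Finset.mem_univ, true_and]
    split_ifs with hne
    · by_cases hj : j ∈ B.supp v
      · have a := hsq _ (B.mem_supp.mp (hsame ▸ hj))
        have b := hsq _ (B.mem_supp.mp hj)
        rcases mul_self_eq_mul_self_iff.mp (show B.co (g.1 u) j * B.co (g.1 u) j = B.co v j * B.co v j by
          linear_combination a - b) with h' | h'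
        · exact absurd h' hne
        · linear_combination -h'
      · have a : B.co (g.1 u) j = 0 := B.notMem_supp.mp (hsame ▸ hj)
        rw [a, B.notMem_supp.mp hj, neg_zero]
    · exact not_not.mp hne
  exact e2 ▸ rf_conj_mem hh (rf_conj_mem hg hGu)

section Big

variable (hsg : ∀ i, B.sg i ∈ G) (hG : HasAlt B G) (hp : (Nat.card F).Prime) (h5 : 5 ≤ Nat.card F) (hn : n = 5)
include hsg hG hp h5 hn

/-- A coordinate of general square spreads. -/
theorem spread {u : V} (hu : Q u = B.c) (hGu : rf Q u ∈ G) (h3 : 3 ≤ (B.supp u).card) {k : Fin n}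
    (hgood : Good (B.co u k ^ 2)) : Sph G B.c ⊤ := by
  classical
  have hsle : (B.supp u).card ≤ 5 := hn ▸ (Finset.card_le_univ _).trans (Fintype.card_fin n).le
  by_cases h1 : B.co u k ^ 2 = 1
  · exact configA B hsg hG hp h5 (by omega) hu hGu (by omega) (by omega) h1
  have hk : k ∈ B.supp u := B.mem_supp.mpr fun e => hgood.1 (by rw [e]; ring)
  have hsum := B.sum_sq u hu
  rw [← Finset.add_sum_erase _ _ hk] at hsum
  obtain ⟨j, hj, hjr⟩ : ∃ j ∈ (B.supp u).erase k, B.co u j ^ 2 ≠ 1 - B.co u k ^ 2 := by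
    by_contra! h
    rw [Finset.sum_congr rfl h, Finset.sum_const, nsmul_eq_mul, Finset.card_erase_of_mem hk] at hsum
    have e : (((B.supp u).card - 1 : ℕ) : F) - 1 = 0 := by
      refine (mul_eq_zero.mp (?_ : ((((B.supp u).card - 1 : ℕ) : F) - 1) * (1 - B.co u k ^ 2) = 0)).resolve_right
        (sub_ne_zero.mpr (Ne.symm h1))
      linear_combination hsum
    refine small_ne_zero hp h5 ((B.supp u).card - 2) (by omega) (by omega) ?_
    rw [Nat.cast_sub (by omega)] at e ⊢
    push_cast at e ⊢
    linear_combination e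
  obtain ⟨hjk, hj⟩ := Finset.mem_erase.mp hj
  obtain ⟨r, hr⟩ : ∃ r, r = u - B.co u k • B.bas k - B.co u j • B.bas j := ⟨_, rfl⟩
  have hrs : B.supp r = B.supp u \ {k, j} := by
    ext x
    rw [B.mem_supp, hr, B.co_sub, B.co_sub, B.co_smul, B.co_smul, B.co_bas, B.co_bas, Finset.mem_sdiff, B.mem_supp,
      Finset.mem_insert, Finset.mem_singleton]
    by_cases hxi : k = x
    · subst hxi; simp [hjk]
    · by_cases hxj : j = x
      · subst hxj; simp [hxi]
      · simp [hxi, hxj, Ne.symm hxi, Ne.symm hxj]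
  obtain ⟨hW, hWd⟩ := B.ndOn_sub {k, j}
  rw [Finset.card_pair (Ne.symm hjk)] at hWd
  have hwr : ∀ w ∈ B.sub {k, j}, polar Q r w = 0 := fun w hw => B.polar_zero_of_disjoint fun x => by
    by_cases hx : x ∈ ({k, j} : Finset (Fin n))
    · left; rw [← B.notMem_supp, hrs]; simp [hx]
    · exact Or.inr (hw x hx)
  have hek : B.bas k ∈ B.sub {k, j} := B.bas_mem_sub (by simp)
  have hej : B.bas j ∈ B.sub {k, j} := B.bas_mem_sub (by simp)
  have hQr : Q r ≠ 0 := by
    have e : Q u = B.c * B.co u k ^ 2 + B.c * B.co u j ^ 2 + Q r := by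
      have hu' : u = (B.co u k • B.bas k + B.co u j • B.bas j) + r := by rw [hr]; abel
      conv_lhs => rw [hu']
      rw [map_two, polar_comm, hwr _ (add_mem (Submodule.smul_mem _ _ hek) (Submodule.smul_mem _ _ hej)), map_two,
        QuadraticMap.map_smul, QuadraticMap.map_smul, polar_smul_left, polar_smul_right, B.orth k j (Ne.symm hjk),
        B.val, B.val]
      simp only [smul_eq_mul]
      ring
    intro h0
    rw [hu, h0, add_zero] at e
    exact hjr (mul_left_cancel₀ B.c_ne (by linear_combination -e))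
  obtain ⟨hU, hUd⟩ := ndOn_sup_span B.two hW hwr hQr
  obtain ⟨w, hw⟩ : ∃ w, w = (B.sg j).1 u := ⟨_, rfl⟩
  have hwu : w = r + B.co u k • B.bas k - B.co u j • B.bas j := B.ext_co fun i => by
    rw [hw, B.co_sg, hr, B.co_sub, B.co_add, B.co_sub, B.co_sub, B.co_smul, B.co_smul, B.co_bas, B.co_bas]
    by_cases hij : j = i
    · subst hij; simp [hjk.symm]
    · simp [hij]
  have mr : r ∈ B.sub {k, j} ⊔ Submodule.span F {r} := Submodule.mem_sup_right (Submodule.mem_span_singleton_self r)
  have mk : B.bas k ∈ B.sub {k, j} ⊔ Submodule.span F {r} := Submodule.mem_sup_left hek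
  have mj : B.bas j ∈ B.sub {k, j} ⊔ Submodule.span F {r} := Submodule.mem_sup_left hej
  have hur : u = r + B.co u k • B.bas k + B.co u j • B.bas j := by rw [hr]; abel
  have hu0 : B.co u j ≠ 0 := B.mem_supp.mp hj
  have hspan : B.sub {k, j} ⊔ Submodule.span F {r} ≤ Submodule.span F ({B.bas k, u, w} : Set V) := by
    have s1 : B.bas k ∈ Submodule.span F ({B.bas k, u, w} : Set V) := Submodule.subset_span (by simp)
    have s2 : u ∈ Submodule.span F ({B.bas k, u, w} : Set V) := Submodule.subset_span (by simp)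
    have s3 : w ∈ Submodule.span F ({B.bas k, u, w} : Set V) := Submodule.subset_span (by simp)
    have sj : B.bas j ∈ Submodule.span F ({B.bas k, u, w} : Set V) := by
      have e' : u - w = (2 * B.co u j) • B.bas j := by rw [hwu, hr]; module
      have e : B.bas j = (2 * B.co u j)⁻¹ • (u - w) := by
        rw [e', inv_smul_smul₀ (mul_ne_zero B.two hu0)]
      rw [e]
      exact Submodule.smul_mem _ _ (sub_mem s2 s3)
    refine sup_le (fun x hx => ?_) ((Submodule.span_singleton_le_iff_mem _ _).mpr ?_)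
    · rw [← B.sum_co x]
      refine sum_mem fun i _ => ?_
      by_cases hi : i ∈ ({k, j} : Finset (Fin n))
      · simp only [Finset.mem_insert, Finset.mem_singleton] at hi
        rcases hi with rfl | rfl
        · exact Submodule.smul_mem _ _ s1
        · exact Submodule.smul_mem _ _ sj
      · rw [hx i hi, zero_smul]; exact zero_mem _
    · rw [hr]
      exact sub_mem (sub_mem s2 (Submodule.smul_mem _ _ s1)) (Submodule.smul_mem _ _ sj)
  have hwk : B.co w k = B.co u k := by rw [hw, B.co_sg, if_neg hjk]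
  have hS := plane_sph hp h5 B.two B.c_ne hU (by omega) mk
    (by rw [hur]; exact add_mem (add_mem mr (Submodule.smul_mem _ _ mk)) (Submodule.smul_mem _ _ mj))
    (by rw [hwu]; exact sub_mem (add_mem mr (Submodule.smul_mem _ _ mk)) (Submodule.smul_mem _ _ mj))
    (B.val k) hu (by rw [hw, (B.sg j).2 u, hu]) (hsg k) hGu (hw ▸ rf_conj_mem (hsg j) hGu) hspan
    (Or.inl (by
      rw [polar_comm, B.polar_bas, hwk]
      exact mul_ne_zero (mul_ne_zero B.two B.c_ne) (B.mem_supp.mp hk)))
    hgood (by rw [B.polar_bas]; ring)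
  have hT : (B.supp u \ {k, j}).card ≤ 5 := (Finset.card_le_card Finset.sdiff_subset).trans hsle
  have hgrown := grow_block B hsg h5 (fun i h1 h4 => small_ne_zero hp h5 i h1 (by omega)) _ _ (B.sub {k, j}) r rfl hT
    hrs (fun z hz x hx => hz x (Finset.mem_sdiff.mp hx).2) hW (le_of_eq hWd.symm) hQr hS
  refine finish_of_set B hsg hG hp h5 (by omega) (S := B.supp u) h3 fun v hv hvc => hgrown v ?_ hvc
  rw [← B.sum_co v]
  refine sum_mem fun i _ => ?_
  by_cases hi : i ∈ ({k, j} : Finset (Fin n))
  · exact Submodule.smul_mem _ _ (Submodule.mem_sup_left (B.bas_mem_sub hi))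
  · by_cases hi' : i ∈ B.supp u
    · exact Submodule.smul_mem _ _ (Submodule.mem_sup_right (B.bas_mem_sub (Finset.mem_sdiff.mpr ⟨hi', hi⟩)))
    · rw [hv i hi', zero_smul]; exact zero_mem _

/-- A copy of the vector with one place moved to a free one. -/
theorem exists_moved {u : V} (hu : Q u = B.c) (hGu : rf Q u ∈ G) {k z : Fin n} (hk : k ∈ B.supp u)
    (hz : z ∉ B.supp u) (hroom : (B.supp u).card ≤ 3 ∨
      ∃ i ∈ B.supp u, ∃ j ∈ B.supp u, i ≠ j ∧ i ≠ k ∧ j ≠ k ∧ B.co u i ^ 2 = B.co u j ^ 2) :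
    ∃ w, Q w = B.c ∧ rf Q w ∈ G ∧ B.co w k = 0 ∧ B.co w z = B.co u k ∧
      ∀ i, i ≠ k → i ≠ z → B.co w i = B.co u i := by
  classical
  have hkz : k ≠ z := fun e => hz (e ▸ hk)
  rcases hroom with hr | ⟨a, ha, b, hb, hab, hak, hbk, hsq⟩
  · obtain ⟨w, hw, hGw, hws, hwc⟩ := exists_move B hG hu hGu (f := fun i => if i = k then z else i)
      (fun i hi j hj h => by
        dsimp only at h
        split_ifs at h with a b b
        · exact a.trans b.symm
        · exact absurd (h ▸ hj) hz
        · exact absurd (h ▸ hi) hz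
        · exact h) (by omega)
    refine ⟨w, hw, hGw, B.notMem_supp.mp ?_, by simpa using hwc k hk, fun i hik hiz => ?_⟩
    · rw [hws, Finset.mem_image]
      rintro ⟨i, hi, h⟩
      split_ifs at h with a
      · exact hz (h ▸ hk)
      · exact a h
    · by_cases hi : i ∈ B.supp u
      · simpa [hik] using hwc i hi
      · rw [B.notMem_supp.mp hi]
        refine B.notMem_supp.mp ?_
        rw [hws, Finset.mem_image]
        rintro ⟨j, hj, h⟩
        split_ifs at h with a
        · exact hiz h.symm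
        · exact hi (h ▸ hj)
  obtain ⟨σ, hσ⟩ : ∃ σ : Equiv.Perm (Fin n), σ = Equiv.swap k z * Equiv.swap a b := ⟨_, rfl⟩
  have hσA : σ ∈ alternatingGroup (Fin n) := by
    rw [Equiv.Perm.mem_alternatingGroup, hσ, Equiv.Perm.sign_mul, Equiv.Perm.sign_swap hkz, Equiv.Perm.sign_swap hab]
    rfl
  obtain ⟨g, hg, hgσ⟩ := hG σ hσA
  have hwc : ∀ i, B.co (g.1 u) (σ i) = B.co u i := fun i => by simp [B.co_perm hgσ]
  have haz : a ≠ z := fun e => hz (e ▸ ha)
  have hbz : b ≠ z := fun e => hz (e ▸ hb)
  have ck : B.co (g.1 u) k = B.co u z := by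
    rw [← hwc z, hσ, Equiv.Perm.mul_apply, Equiv.swap_apply_of_ne_of_ne haz.symm hbz.symm, Equiv.swap_apply_right]
  have cz : B.co (g.1 u) z = B.co u k := by
    rw [← hwc k, hσ, Equiv.Perm.mul_apply, Equiv.swap_apply_of_ne_of_ne hak.symm hbk.symm, Equiv.swap_apply_left]
  have cr : ∀ i, i ≠ k → i ≠ z → B.co (g.1 u) i ^ 2 = B.co u i ^ 2 := fun i hik hiz => by
    obtain ⟨j, rfl⟩ := σ.surjective i
    rw [hwc]
    rw [hσ, Equiv.Perm.mul_apply] at hik hiz ⊢
    by_cases hja : j = a
    · subst hja
      rw [Equiv.swap_apply_left, Equiv.swap_apply_of_ne_of_ne hbk hbz]; exact hsq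
    by_cases hjb : j = b
    · subst hjb
      rw [Equiv.swap_apply_right, Equiv.swap_apply_of_ne_of_ne hak haz]; exact hsq.symm
    rw [Equiv.swap_apply_of_ne_of_ne hja hjb] at hik hiz ⊢
    have h1 : j ≠ k := by rintro rfl; exact hiz (Equiv.swap_apply_left _ _)
    have h2 : j ≠ z := by rintro rfl; exact hik (Equiv.swap_apply_right _ _)
    rw [Equiv.swap_apply_of_ne_of_ne h1 h2]
  obtain ⟨h, hh, hfl⟩ := B.exists_flip hsg
    (Finset.univ.filter fun i => i ≠ k ∧ i ≠ z ∧ B.co (g.1 u) i ≠ B.co u i)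
  refine ⟨h.1 (g.1 u), by rw [h.2, g.2, hu], rf_conj_mem hh (rf_conj_mem hg hGu), ?_, ?_, fun i hik hiz => ?_⟩
  · rw [hfl, if_neg (by simp), ck, B.notMem_supp.mp hz]
  · rw [hfl, if_neg (by simp), cz]
  · rw [hfl]
    simp only [Finset.mem_filter, Finset.mem_univ, true_and]
    split_ifs with hc
    · rcases mul_self_eq_mul_self_iff.mp (show B.co (g.1 u) i * B.co (g.1 u) i = B.co u i * B.co u i by
        linear_combination cr i hik hiz) with h' | h'
      · exact absurd h' hc.2.2
      · linear_combination -h'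
    · by_contra hne
      exact hc ⟨hik, hiz, hne⟩

/-- The move makes a coordinate of general square. -/
theorem step {u : V} (hu : Q u = B.c) (hGu : rf Q u ∈ G) (h2s : 2 ≤ (B.supp u).card) (h4 : (B.supp u).card ≤ 4)
    {k : Fin n} (hk : k ∈ B.supp u)
    (hroom : (B.supp u).card ≤ 3 ∨
      ∃ i ∈ B.supp u, ∃ j ∈ B.supp u, i ≠ j ∧ i ≠ k ∧ j ≠ k ∧ B.co u i ^ 2 = B.co u j ^ 2)
    (hk1 : B.co u k ^ 2 ≠ 1) (hk2 : 2 * B.co u k ^ 2 ≠ 1)
    (hgood : Good (B.co u k ^ 2) ∨ Good (4 * (1 - B.co u k ^ 2) ^ 2 * B.co u k ^ 2) ∨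
      ∃ i ∈ B.supp u, i ≠ k ∧ Good (B.co u i ^ 2 * (2 * B.co u k ^ 2 - 1) ^ 2)) : Sph G B.c ⊤ := by
  classical
  obtain ⟨z, hz⟩ : ∃ z, z ∉ B.supp u := by
    by_contra! h
    have := Finset.card_le_card (s := Finset.univ) (t := B.supp u) fun i _ => h i
    rw [Finset.card_univ, Fintype.card_fin] at this
    omega
  obtain ⟨w, hw, hGw, hwk, hwz, hwi⟩ := exists_moved B hsg hG hp h5 hn hu hGu hk hz hroom
  have hkz : k ≠ z := fun e => hz (e ▸ hk)
  have hdot : ∑ i, B.co u i * B.co w i = 1 - B.co u k ^ 2 := by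
    rw [← B.sum_sq u hu, Finset.sum_eq_add_sum_sdiff_singleton_of_mem hk, add_sub_cancel_left]
    rw [← Finset.sum_subset (Finset.subset_univ (B.supp u \ {k})) ?_]
    · refine Finset.sum_congr rfl fun i hi => ?_
      simp only [Finset.mem_sdiff, Finset.mem_singleton] at hi
      rw [hwi i hi.2 (fun e => hz (e ▸ hi.1))]; ring
    · intro i _ hi
      simp only [Finset.mem_sdiff, Finset.mem_singleton, not_and, not_not] at hi
      by_cases hiu : i ∈ B.supp u
      · rw [hi hiu, hwk, mul_zero]
      · rw [B.notMem_supp.mp hiu, zero_mul]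
  obtain ⟨x, hx⟩ : ∃ x, x = (rf Q u).1 w := ⟨_, rfl⟩
  have hxc : ∀ i, B.co x i = B.co w i - 2 * (1 - B.co u k ^ 2) * B.co u i := fun i => by
    rw [hx, B.rf_unit hu, B.co_sub, B.co_smul, hdot]
  have hxk : B.co x k ^ 2 = 4 * (1 - B.co u k ^ 2) ^ 2 * B.co u k ^ 2 := by rw [hxc, hwk]; ring
  have hxi : ∀ i ∈ B.supp u, i ≠ k → B.co x i = B.co u i * (2 * B.co u k ^ 2 - 1) := fun i hi hik => by
    rw [hxc, hwi i hik (fun e => hz (e ▸ hi))]; ring
  have hu0 := B.mem_supp.mp hk
  have hxs : 3 ≤ (B.supp x).card := by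
    obtain ⟨i, hi, hik⟩ := Finset.exists_mem_ne (s := B.supp u) (by omega) k
    have hiz : i ≠ z := fun e => hz (e ▸ hi)
    have e : ({k, z, i} : Finset (Fin n)).card = 3 := Finset.card_eq_three.mpr ⟨k, z, i, hkz, hik.symm, hiz.symm, rfl⟩
    refine e ▸ Finset.card_le_card fun y hy => ?_
    simp only [Finset.mem_insert, Finset.mem_singleton] at hy
    rw [B.mem_supp]
    rcases hy with rfl | rfl | rfl
    · rw [hxc, hwk, zero_sub, neg_ne_zero]
      exact mul_ne_zero (mul_ne_zero B.two (sub_ne_zero.mpr (Ne.symm hk1))) hu0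
    · rw [hxc, hwz, B.notMem_supp.mp hz, mul_zero, sub_zero]; exact hu0
    · rw [hxi _ hi hik]
      exact mul_ne_zero (B.mem_supp.mp hi) (sub_ne_zero.mpr hk2)
  have hxQ : Q x = B.c := by rw [hx, (rf Q u).2 w, hw]
  have hxG : rf Q x ∈ G := hx ▸ rf_conj_mem hGu hGw
  rcases hgood with hg | hg | ⟨i, hi, hik, hg⟩
  · exact spread B hsg hG hp h5 hn hxQ hxG hxs (k := z)
      (by rw [hxc, hwz, B.notMem_supp.mp hz, mul_zero, sub_zero]; exact hg)
  · exact spread B hsg hG hp h5 hn hxQ hxG hxs (k := k) (by rw [hxk]; exact hg)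
  · exact spread B hsg hG hp h5 hn hxQ hxG hxs (k := i) (by rw [hxi i hi hik, mul_pow]; exact hg)

theorem all_of_short_five_big {u : V} (hu : Q u = B.c) (hGu : rf Q u ∈ G) (h4 : (B.supp u).card ≤ 4)
    (h2s : 2 ≤ (B.supp u).card) (hroot : ¬ B.IsRoot u) : Sph G B.c ⊤ := by
  classical
  have hsmall := small_ne_zero (F := F) hp h5
  have h2 := B.two
  have h3 : (3 : F) ≠ 0 := by exact_mod_cast hsmall 3 (by norm_num) (by norm_num)
  have h4ne : (4 : F) ≠ 0 := by exact_mod_cast hsmall 4 (by norm_num) (by norm_num)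
  by_cases hone : ∃ i, B.co u i ^ 2 = 1
  · obtain ⟨i, hi⟩ := hone
    exact configA B hsg hG hp h5 (by omega) hu hGu h2s (by omega) hi
  push Not at hone
  have hne : ∀ i ∈ B.supp u, B.co u i ^ 2 ≠ 0 := fun i hi => pow_ne_zero _ (B.mem_supp.mp hi)
  have hsum := B.sum_sq u hu
  obtain ⟨a, hadef⟩ : ∃ a : Fin n → F, a = fun i => B.co u i ^ 2 := ⟨_, rfl⟩
  have ha : ∀ i, B.co u i ^ 2 = a i := fun i => by rw [hadef]
  simp only [ha] at hone hne hsum
  rcases Nat.lt_or_ge (B.supp u).card 3 with hs2 | hs3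
  · -- two places
    obtain ⟨x, y, hxy, he⟩ := Finset.card_eq_two.mp (by omega : (B.supp u).card = 2)
    by_cases hg : ∃ k ∈ B.supp u, Good (a k)
    · obtain ⟨k, hk, hgk⟩ := hg
      refine step B hsg hG hp h5 hn hu hGu h2s h4 hk (Or.inl (by omega)) (ha k ▸ hone k) ?_ (Or.inl (ha k ▸ hgk))
      rw [ha]
      exact hgk.2.elim (fun e => absurd e (hone k)) fun e => e.2.1
    push Not at hg
    have hb : ∀ i ∈ B.supp u, Bad (a i) := fun i hi => (bad_of_not_good (hne i hi) (hg i hi)).2
    rw [he, Finset.sum_pair hxy] at hsum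
    refine absurd ⟨x, y, hxy, he, ?_⟩ hroot
    rw [ha, ha]
    exact two_values h2 hsum (hb x (by simp [he])) (hb y (by simp [he])) h3
  by_cases hg : ∃ k ∈ B.supp u, Good (a k)
  · obtain ⟨k, -, h⟩ := hg
    exact spread B hsg hG hp h5 hn hu hGu hs3 (k := k) (ha k ▸ h)
  push Not at hg
  have hbad : ∀ i ∈ B.supp u, Bad (a i) := fun i hi => (bad_of_not_good (hne i hi) (hg i hi)).2
  by_contra hcon
  -- every movable place has one of the special squares
  have hexc : ∀ k ∈ B.supp u, ((B.supp u).card ≤ 3 ∨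
      ∃ i ∈ B.supp u, ∃ j ∈ B.supp u, i ≠ j ∧ i ≠ k ∧ j ≠ k ∧ B.co u i ^ 2 = B.co u j ^ 2) →
      (2 * a k = 1 ∨ (4 * a k = 1 ∧ ((5 : F) = 0 ∨ (11 : F) = 0)) ∨
        (16 * a k ^ 2 - 12 * a k + 1 = 0 ∧ (19 : F) = 0)) ∧
      (∀ i ∈ B.supp u, i ≠ k → 2 * a k ≠ 1 → ¬ Good (a i * (2 * a k - 1) ^ 2)) := by
    intro k hk hroom
    have key := fun hk2 hgd => hcon (step B hsg hG hp h5 hn hu hGu h2s h4 hk hroom (ha k ▸ hone k) hk2 hgd)
    simp only [ha] at key
    refine ⟨?_, fun i hi hik hk2 hgd => key hk2 (Or.inr (Or.inr ⟨i, hi, hik, hgd⟩))⟩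
    by_cases hk2 : 2 * a k = 1
    · exact Or.inl hk2
    have hN : ¬ Good (4 * (1 - a k) ^ 2 * a k) := fun hgd => key hk2 (Or.inr (Or.inl hgd))
    rcases hbad k hk with h | h | h
    · exact Or.inr (Or.inl ⟨h, (special_four h2 h3 h).resolve_left hN⟩)
    · exact absurd h hk2
    · refine Or.inr (Or.inr ⟨h, ?_⟩)
      rcases (special_quad h2 h3 h).resolve_left hN with h5' | h19
      · exfalso
        refine hone k ?_
        have : (a k - 1) ^ 2 = 0 := by linear_combination h + (-3 * a k ^ 2 + 2 * a k) * h5'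
        exact sub_eq_zero.mp (pow_eq_zero_iff (by norm_num) |>.mp this)
      · exact h19
  have hcast : ∀ (m l : ℕ), l.Prime → (l : F) = 0 → ¬ l ∣ m → (m : F) ≠ 0 := fun m l hl h hm hm0 =>
    hm (dvd_of_cast hl h hm0)
  have h7 : (5 : F) = 0 ∨ (11 : F) = 0 → (7 : F) ≠ 0 := fun h h7 => by
    rcases h with h | h
    · exact hcast 7 5 (by norm_num) (by exact_mod_cast h) (by norm_num) (by exact_mod_cast h7)
    · exact hcast 7 11 (by norm_num) (by exact_mod_cast h) (by norm_num) (by exact_mod_cast h7)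
  have h19' : (19 : F) = 0 → (5 : F) ≠ 0 ∧ (11 : F) ≠ 0 := fun h => by
    refine ⟨fun h5' => ?_, fun h11 => ?_⟩
    · exact hcast 5 19 (by norm_num) (by exact_mod_cast h) (by norm_num) (by exact_mod_cast h5')
    · exact hcast 11 19 (by norm_num) (by exact_mod_cast h) (by norm_num) (by exact_mod_cast h11)
  have hmix : ∀ {x y : Fin n}, 4 * a x = 1 ∧ ((5 : F) = 0 ∨ (11 : F) = 0) →
      16 * a y ^ 2 - 12 * a y + 1 = 0 ∧ (19 : F) = 0 → False := fun hx hy =>
    hx.2.elim (h19' hy.2).1 (h19' hy.2).2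
  rcases Nat.lt_or_ge (B.supp u).card 4 with hs | hs
  · -- three places
    obtain ⟨x, y, z, hxy, hxz, hyz, he⟩ := Finset.card_eq_three.mp (by omega : (B.supp u).card = 3)
    rw [he, Finset.sum_insert (by simp [hxy, hxz]), Finset.sum_pair hyz] at hsum
    have mx : x ∈ B.supp u := by simp [he]
    have my : y ∈ B.supp u := by simp [he]
    have mz : z ∈ B.supp u := by simp [he]
    obtain ⟨ex, -⟩ := hexc x mx (Or.inl (by omega))
    obtain ⟨ey, -⟩ := hexc y my (Or.inl (by omega))
    obtain ⟨ez, -⟩ := hexc z mz (Or.inl (by omega))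
    have hhq : ∀ {p q r : Fin n}, a p + (a q + a r) = 1 → p ∈ B.supp u → q ∈ B.supp u → p ≠ q →
        4 * a p = 1 → 2 * a q = 1 → False := by
      intro p q r hs mp mq hpq hp' hq
      refine (hexc p mp (Or.inl (by omega))).2 q mq hpq.symm
        (fun e => one_ne_zero (α := F) (by linear_combination hp' - 2 * e)) (good_eighth h2 h3 ?_)
      linear_combination (2 * a q * (4 * a p - 3)) * hp' + hq
    have h2q : ∀ {q r : F}, (2 : F) * (q + r) = 1 → 16 * q ^ 2 - 12 * q + 1 = 0 → 16 * r ^ 2 - 12 * r + 1 = 0 →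
        False := by
      intro q r hs hq hr
      rcases quad_pair h2 hq hr with rfl | e
      · exact one_ne_zero (α := F) (by linear_combination -hq + (4 * q - 2) * hs)
      · exact one_ne_zero (α := F) (by linear_combination 2 * hs - e)
    have h3q : ∀ {p q r : F}, p + (q + r) = 1 → (19 : F) = 0 → 16 * p ^ 2 - 12 * p + 1 = 0 →
        16 * q ^ 2 - 12 * q + 1 = 0 → 16 * r ^ 2 - 12 * r + 1 = 0 → False := by
      intro p q r hs h19 hp' hq hr
      have quarter : ∀ {p : F}, 4 * p = 1 → 16 * p ^ 2 - 12 * p + 1 = 0 → False := fun h h' =>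
        one_ne_zero (α := F) (by linear_combination -h' + (4 * _ - 2) * h)
      rcases quad_pair h2 hp' hq with rfl | e1
      · rcases quad_pair h2 hp' hr with rfl | e2
        · exact (h19' h19).2 (by linear_combination -9 * hp' + (48 * p - 20) * hs)
        · exact quarter (by linear_combination 4 * hs - e2) hp'
      · exact quarter (by linear_combination 4 * hs - e1) hr
    rcases ex with h | h | h <;> rcases ey with h' | h' | h' <;> rcases ez with h'' | h'' | h''
    all_goals first
      | exact hmix h h'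
      | exact hmix h h''
      | exact hmix h' h
      | exact hmix h' h''
      | exact hmix h'' h
      | exact hmix h'' h'
      | exact hhq (r := z) hsum mx my hxy h.1 h'
      | exact hhq (r := y) (by linear_combination hsum) mx mz hxz h.1 h''
      | exact hhq (r := z) (by linear_combination hsum) my mx hxy.symm h'.1 h
      | exact hhq (r := x) (by linear_combination hsum) my mz hyz h'.1 h''
      | exact hhq (r := y) (by linear_combination hsum) mz mx hxz.symm h''.1 h
      | exact hhq (r := x) (by linear_combination hsum) mz my hyz.symm h''.1 h'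
      | exact h3q hsum h.2 h.1 h'.1 h''.1
      | exact h2q (by linear_combination 2 * hsum - h) h'.1 h''.1
      | exact h2q (by linear_combination 2 * hsum - h') h.1 h''.1
      | exact h2q (by linear_combination 2 * hsum - h'') h.1 h'.1
      | exact hne x mx (mul_left_cancel₀ h2 (by linear_combination 2 * hsum - h' - h''))
      | exact hne y my (mul_left_cancel₀ h2 (by linear_combination 2 * hsum - h - h''))
      | exact hne z mz (mul_left_cancel₀ h2 (by linear_combination 2 * hsum - h - h'))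
      | exact one_ne_zero (α := F) (by linear_combination -4 * hsum + h.1 + h'.1 + h''.1)
  · -- four places
    obtain ⟨i, hi, j, hj, hij, hijeq⟩ : ∃ i ∈ B.supp u, ∃ j ∈ B.supp u, i ≠ j ∧ a i = a j := by
      by_contra! hinj
      have hinj' : Set.InjOn a (B.supp u) := fun i hi j hj e => by
        by_contra hne'
        exact hinj i hi j hj hne' e
      obtain ⟨T, hT⟩ : ∃ T, T = (B.supp u).image a := ⟨_, rfl⟩
      have hTc : T.card = 4 := by rw [hT, Finset.card_image_of_injOn hinj']; omega
      have hTs : ∑ t ∈ T, t = 1 := by rw [hT, Finset.sum_image hinj', hsum]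
      have hTb : ∀ t ∈ T, Bad t := fun t ht => by
        obtain ⟨i, hi, rfl⟩ := Finset.mem_image.mp (hT ▸ ht)
        exact hbad i hi
      obtain ⟨q, hq⟩ : ∃ q, q ∈ T ∧ 16 * q ^ 2 - 12 * q + 1 = 0 := by
        by_contra! h
        have hsub : T ⊆ {(4 : F)⁻¹, (2 : F)⁻¹} := fun t ht => by
          rcases hTb t ht with e | e | e
          · simp [eq_inv_of_mul_eq_one_right e]
          · simp [eq_inv_of_mul_eq_one_right e]
          · exact absurd e (h t ht)
        have := (Finset.card_le_card hsub).trans Finset.card_le_two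
        omega
      have hsub : T ⊆ {(4 : F)⁻¹, (2 : F)⁻¹, q, 3 / 4 - q} := fun t ht => by
        rcases hTb t ht with e | e | e
        · simp [eq_inv_of_mul_eq_one_right e]
        · simp [eq_inv_of_mul_eq_one_right e]
        · rcases quad_pair h2 e hq.2 with rfl | e'
          · simp
          · have : t = 3 / 4 - q := by field_simp; linear_combination e'
            simp [this]
      have heq := Finset.eq_of_subset_of_card_le hsub (Finset.card_le_four.trans hTc.ge)
      have hd : ∀ x y z w : F, ({x, y, z, w} : Finset F).card = 4 →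
          ∑ t ∈ ({x, y, z, w} : Finset F), t = x + (y + (z + w)) := by
        intro x y z w h
        have n1 : x ∉ ({y, z, w} : Finset F) := fun hm => by
          rw [Finset.insert_eq_of_mem hm] at h
          have := Finset.card_le_three (a := y) (b := z) (c := w)
          omega
        rw [Finset.sum_insert n1]
        rw [Finset.card_insert_of_notMem n1] at h
        have n2 : y ∉ ({z, w} : Finset F) := fun hm => by
          rw [Finset.insert_eq_of_mem hm] at h
          have := Finset.card_le_two (a := z) (b := w)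
          omega
        rw [Finset.sum_insert n2]
        rw [Finset.card_insert_of_notMem n2] at h
        have n3 : z ≠ w := fun e => by subst e; simp at h
        rw [Finset.sum_pair n3]
      have e := hd _ _ _ _ (heq ▸ hTc)
      rw [← heq, hTs] at e
      have q4 := mul_inv_cancel₀ h4ne
      have q2 := mul_inv_cancel₀ h2
      have e34 : (4 : F) * (3 / 4) = 3 := mul_div_cancel₀ _ h4ne
      exact h2 (by linear_combination -4 * e - q4 - 2 * q2 - e34)
    obtain ⟨k, hk, l, hl, hkl⟩ := Finset.one_lt_card.mp (show 1 < (B.supp u \ {i, j}).card by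
      rw [Finset.card_sdiff_of_subset (by simp [Finset.insert_subset_iff, hi, hj]), Finset.card_pair hij]
      omega)
    simp only [Finset.mem_sdiff, Finset.mem_insert, Finset.mem_singleton, not_or] at hk hl
    obtain ⟨hk, hki, hkj⟩ := hk
    obtain ⟨hl, hli, hlj⟩ := hl
    have he : B.supp u = {i, j, k, l} := (Finset.eq_of_subset_of_card_le
      (by simp [Finset.insert_subset_iff, hi, hj, hk, hl]) (by
        rw [Finset.card_insert_of_notMem (by simp [hij, Ne.symm hki, Ne.symm hli]),
          Finset.card_insert_of_notMem (by simp [Ne.symm hkj, Ne.symm hlj]), Finset.card_pair hkl]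
        omega)).symm
    rw [he, Finset.sum_insert (by simp [hij, Ne.symm hki, Ne.symm hli]),
      Finset.sum_insert (by simp [Ne.symm hkj, Ne.symm hlj]), Finset.sum_pair hkl, ← hijeq] at hsum
    have hpair : ∀ m, m ≠ i → m ≠ j → ∃ i' ∈ B.supp u, ∃ j' ∈ B.supp u, i' ≠ j' ∧ i' ≠ m ∧ j' ≠ m ∧
        B.co u i' ^ 2 = B.co u j' ^ 2 := fun m hm1 hm2 =>
      ⟨i, hi, j, hj, hij, hm1.symm, hm2.symm, by rw [ha, ha, hijeq]⟩
    obtain ⟨ek, fk⟩ := hexc k hk (Or.inr (hpair k hki hkj))
    obtain ⟨el, -⟩ := hexc l hl (Or.inr (hpair l hli hlj))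
    have hbi := hbad i hi
    have hquarter : ∀ {x y z : F}, 2 * x + (y + z) = 1 → 2 * y = 1 → 4 * z = 1 → Bad x → False := by
      intro x y z hs hy hz hx
      have e : 8 * x = 1 := by linear_combination 4 * hs - 2 * hy - hz
      rcases hx with h | h | h
      · exact one_ne_zero (α := F) (by linear_combination e - 2 * h)
      · exact h3 (by linear_combination e - 4 * h)
      · exact one_ne_zero (α := F) (by linear_combination -4 * h + (8 * x - 5) * e)
    have quarter : ∀ {p : F}, 4 * p = 1 → 16 * p ^ 2 - 12 * p + 1 = 0 → False := fun h h' =>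
      one_ne_zero (α := F) (by linear_combination -h' + (4 * _ - 2) * h)
    have hhalfq : ∀ {x y q : F}, 2 * x + (y + q) = 1 → 2 * y = 1 → 16 * q ^ 2 - 12 * q + 1 = 0 → q ≠ 0 →
        (11 : F) ≠ 0 → (5 : F) ≠ 0 → Bad x → False := by
      intro x y q hs hy hq hq0 h11 h5' hx
      have e : 4 * x + 2 * q = 1 := by linear_combination 2 * hs - hy
      rcases hx with h | h | h
      · exact hq0 (mul_left_cancel₀ h2 (by linear_combination e - h))
      · have t : 2 * q + 1 = 0 := by linear_combination e - 2 * h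
        exact h11 (by linear_combination hq + (-8 * q + 10) * t)
      · have t : 5 * (4 * q - 1) = 0 := by linear_combination 4 * h - hq + (-4 * (4 * x - 2 * q + 1) + 12) * e
        exact quarter (sub_eq_zero.mp ((mul_eq_zero.mp t).resolve_left h5')) hq
    have hqq : ∀ {x y z : F}, 2 * x + (y + z) = 1 → 16 * y ^ 2 - 12 * y + 1 = 0 →
        16 * z ^ 2 - 12 * z + 1 = 0 → y ≠ 0 → Bad x → False := by
      intro x y z hs hy hz hy0 hx
      rcases quad_pair h2 hy hz with rfl | e'
      · have e : 2 * x + 2 * y = 1 := by linear_combination hs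
        rcases hx with h | h | h
        · exact quarter (p := y) (by linear_combination 2 * e - h) hy
        · exact hy0 (mul_left_cancel₀ h2 (by linear_combination e - h))
        · have t : 2 * (4 * y - 1) = 0 := by linear_combination h - hy + (-4 * (2 * x + 1 - 2 * y) + 6) * e
          exact quarter (sub_eq_zero.mp ((mul_eq_zero.mp t).resolve_left h2)) hy
      · have e : 8 * x = 1 := by linear_combination 4 * hs - e'
        rcases hx with h | h | h
        · exact one_ne_zero (α := F) (by linear_combination e - 2 * h)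
        · exact h3 (by linear_combination e - 4 * h)
        · exact one_ne_zero (α := F) (by linear_combination -4 * h + (8 * x - 5) * e)
    have hs' : 2 * a i + (a k + a l) = 1 := by linear_combination hsum
    have hs'' : 2 * a i + (a l + a k) = 1 := by linear_combination hsum
    rcases ek with h | h | h <;> rcases el with h' | h' | h'
    · exact hne i hi (mul_left_cancel₀ h2 (mul_left_cancel₀ h2 (by linear_combination 2 * hs' - h - h')))
    · exact hquarter hs' h h'.1 hbi
    · exact hhalfq hs' h h'.1 (hne l hl) (h19' h'.2).2 (h19' h'.2).1 hbi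
    · exact hquarter hs'' h' h.1 hbi
    · refine fk i hi (Ne.symm hki) (fun e => one_ne_zero (α := F) (by linear_combination h.1 - 2 * e))
        (good_sixteenth h2 h3 ?_ (h7 h.2))
      have e : 4 * a i = 1 := mul_left_cancel₀ h2 (by linear_combination 4 * hs' - h.1 - h'.1)
      linear_combination (4 * (2 * a k - 1) ^ 2) * e + (4 * a k - 3) * h.1
    · exact hmix h h'
    · exact hhalfq hs'' h' h.1 (hne k hk) (h19' h.2).2 (h19' h.2).1 hbi
    · exact hmix h' h
    · exact hqq hs' h.1 h'.1 (hne k hk) hbi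

end Big

/-- A short unit vector that is neither an axis nor a root gives all unit reflections, in five dimensions. -/
theorem all_of_short_five (hsg : ∀ i, B.sg i ∈ G) (hG : HasAlt B G) (hp : (Nat.card F).Prime) (hn : n = 5) {u : V}
    (hu : Q u = B.c) (hGu : rf Q u ∈ G) (h4 : (B.supp u).card ≤ 4) (hax : ¬ B.IsAx u) (hroot : ¬ B.IsRoot u) :
    Sph G B.c ⊤ := by
  have h2s : 2 ≤ (B.supp u).card := by
    by_contra h
    rcases Nat.lt_or_ge (B.supp u).card 1 with h0 | h1
    · have h' := B.sum_sq u hu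
      rw [Finset.card_eq_zero.mp (by omega : (B.supp u).card = 0), Finset.sum_empty] at h'
      exact zero_ne_one h'
    · obtain ⟨i, hi⟩ := Finset.card_eq_one.mp (by omega : (B.supp u).card = 1)
      exact hax (B.isAx_of_supp hu (i := i) fun j hj => B.notMem_supp.mp (by simp [hi, hj]))
  by_cases h3 : Nat.card F = 3
  · exact all_of_short_three_five B hsg hG h3 hn hu hGu h4 h2s
  · refine all_of_short_five_big B hsg hG hp ?_ hn hu hGu h4 h2s hroot
    have h2 : Nat.card F ≠ 2 := by
      haveI := Fintype.ofFinite F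
      intro h
      haveI : CharP F 2 := charP_of_card_eq_prime (by rwa [← Nat.card_eq_fintype_card])
      have := CharP.cast_eq_zero F 2
      exact B.two (by exact_mod_cast this)
    have := hp.two_le
    by_contra h5
    have : Nat.card F = 4 := by omega
    rw [this] at hp
    norm_num at hp

/-- Five dimensions: a subgroup of the derived group with all the sign pairs and the even permutations is monomial
or is the derived group. -/
theorem Frame.mono_or_ge_five (hp : (Nat.card F).Prime) (hn : n = 5) {H : Subgroup ↥(Iso Q)}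
    (hH : H ≤ commutator ↥(Iso Q)) (hpairs : ∀ k l, k ≠ l → B.sg k * B.sg l ∈ H) (hA : HasAlt B H) :
    (∀ g ∈ H, B.Mono g) ∨ commutator ↥(Iso Q) ≤ H := by
  classical
  by_cases hall : ∀ g ∈ H, B.Mono g
  · exact Or.inl hall
  right
  push Not at hall
  obtain ⟨g₀, hg₀, hg₀m⟩ := hall
  have hd : 2 ≤ finrank F V := B.finrank_eq.symm ▸ (by omega)
  obtain ⟨z, hz⟩ : ∃ z, z = B.flip Finset.univ := ⟨_, rfl⟩
  have hzn : ∀ x, z.1 x = -x := fun x => B.ext_co fun j => by rw [hz, B.co_flip, if_pos (Finset.mem_univ j), B.co_neg]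
  have hzc : ∀ g : ↥(Iso Q), g * z = z * g := fun g => Subtype.ext (LinearEquiv.ext fun x => by
    show g.1 (z.1 x) = z.1 (g.1 x)
    rw [hzn, hzn, map_neg])
  have hzz : z * z = 1 := Subtype.ext (LinearEquiv.ext fun x => by
    show z.1 (z.1 x) = x
    rw [hzn, hzn, neg_neg])
  let G : Subgroup ↥(Iso Q) :=
    { carrier := {g | g ∈ H ∨ g * z ∈ H}
      one_mem' := Or.inl (one_mem H)
      mul_mem' := by
        rintro x y (hx | hx) (hy | hy)
        · exact Or.inl (mul_mem hx hy)
        · exact Or.inr (by rw [mul_assoc]; exact mul_mem hx hy)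
        · exact Or.inr (by rw [mul_assoc, hzc y, ← mul_assoc]; exact mul_mem hx hy)
        · refine Or.inl ?_
          have := mul_mem hx hy
          rwa [mul_assoc x z, ← mul_assoc z, ← hzc y, mul_assoc y z z, hzz, mul_one] at this
      inv_mem' := by
        rintro x (hx | hx)
        · exact Or.inl (inv_mem hx)
        · refine Or.inr ?_
          have := inv_mem hx
          rwa [mul_inv_rev, inv_eq_of_mul_eq_one_left hzz, ← hzc x⁻¹] at this }
  have hsg : ∀ i, B.sg i ∈ G := fun i => Or.inr (by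
    have h1 : B.flip {i} = B.sg i := B.iso_ext_co fun x j => by rw [B.co_flip, B.co_sg]; simp [eq_comm]
    rw [← h1, hz, B.flip_mul]
    refine B.flip_induction (O := Finset.univ) (P := fun f => f ∈ H) (one_mem H)
      (fun k _ l _ hkl f hf => mul_mem (hpairs k l hkl) hf) _ (Finset.subset_univ _) ?_
    have e : symmDiff ({i} : Finset (Fin n)) Finset.univ = Finset.univ.erase i := by
      ext j; simp [Finset.mem_symmDiff]
    rw [e, Finset.card_erase_of_mem (Finset.mem_univ i), Finset.card_univ, Fintype.card_fin, hn]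
    decide)
  have hG : HasAlt B G := fun σ hσ => by
    obtain ⟨g, hg, hgσ⟩ := hA σ hσ
    exact ⟨g, Or.inl hg, hgσ⟩
  obtain ⟨u, hu, hGu, h4, hax, hroot⟩ := found_of_not_mono B hsg hG (by omega) ⟨g₀, Or.inl hg₀, hg₀m⟩
  have hS := all_of_short_five B hsg hG hp hn hu hGu h4 hax hroot
  have hdet : ∀ v, Q v = B.c → rf Q v * z ∈ H := fun v hv => by
    rcases hS v trivial hv with h | h
    · exfalso
      have h1 := hH h
      rw [commutator_eq B.two B.pnd hd, MonoidHom.mem_ker] at h1
      have h2 : dsign B.two B.pnd (rf Q v) = 1 := congrArg Prod.fst h1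
      rw [dsign_rf B.two B.pnd (hv ▸ B.c_ne)] at h2
      exact absurd h2 (by decide)
    · exact h
  refine B.commutator_le (by omega) ⟨0, by omega⟩ fun v hv => ?_
  have := mul_mem (hdet v hv) (hdet _ (B.val ⟨0, by omega⟩))
  rwa [mul_assoc (rf Q v) z, ← mul_assoc z, ← hzc, mul_assoc _ z z, hzz, mul_one] at this

end Cfsg.Agent.Classical.MFrame
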