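import Cfsg.Agent.Lib.Classical.MonomFrame.Main
import Cfsg.Agent.Lib.Classical.OrthogonalOdd

/-!
# Frame stabilisers in even dimension at least ten
-/

set_option autoImplicit false

open Cfsg Cfsg.Agent.Classical Cfsg.Agent.Classical.OOmega Module

namespace Cfsg.Agent.Classical.MFrame

/-- In even dimension at least ten over an odd prime field the stabiliser in Ω of a decomposition into
pairwise isometric orthogonal lines is maximal. -/
theorem geo_frame_stabilizer_maximal {F : Type*} [Field F] [Fintype F] {n : ℕ} (hn : 10 ≤ n) (heven : Even n)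
    (Q : (Fin n → F) → F) (hQ : Cfsg.Geo.IsNondegenerateQuadraticForm Q)
    (hp : ∃ p : ℕ, p.Prime ∧ Odd p ∧ Fintype.card F = p) {t : ℕ} (D : Fin t → Submodule F (Fin n → F))
    (hD : Cfsg.Geo.IsOrthogonalMDecomposition Q 1 D) :
    Cfsg.Geo.IsMaximalIn (Cfsg.Geo.omegaGL Q) (Cfsg.Geo.decompositionStabilizer D ⊓ Cfsg.Geo.omegaGL Q) := by
  obtain ⟨p, hp, hpo, hpc⟩ := hp
  have h2 : (2 : F) ≠ 0 := fun h => by
    have h1 : ringChar F ∣ 2 := (ringChar.spec F 2).mp (by exact_mod_cast h)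
    rcases (Nat.dvd_prime Nat.prime_two).mp h1 with h' | h'
    · exact CharP.ringChar_ne_one h'
    · have := FiniteField.even_card_iff_char_two.mp h'
      exact Nat.not_even_iff_odd.mpr (hpc ▸ hpo) (Nat.even_iff.mpr this)
  obtain ⟨Qf, rfl, hQ'⟩ := ONotMax.exists_qform hQ
  refine MFrame.isMaximalIn_of_frame h2 hQ' (by simp; omega) hD fun B H hH hM => ?_
  have ht : t = n := by rw [← B.finrank_eq, Module.finrank_fin_fun]
  subst ht
  obtain ⟨m, rfl⟩ : ∃ m, t = m + 1 := ⟨t - 1, by omega⟩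
  obtain ⟨r, hr⟩ := heven
  exact B.mono_or_ge_even (by rw [Nat.card_eq_fintype_card, hpc]; exact hp) ⟨r - 1, by omega⟩ (by omega) hH hM

end Cfsg.Agent.Classical.MFrame
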