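import Cfsg.Agent.Lib.Classical.MonomFrame.Sphere

/-!
# From a small sphere to all unit vectors
-/

set_option autoImplicit false
set_option linter.unusedSectionVars false

namespace Cfsg.Agent.Classical.MFrame

open Module QuadraticMap OCount ORefl OOmega

variable {F : Type*} [Field F] {V : Type*} [AddCommGroup V] [Module F V] {Q : QuadraticForm F V} {n : ℕ}
variable [FiniteDimensional F V]

theorem ndOn_sup_span (h2 : (2 : F) ≠ 0) {U : Submodule F V} (hU : NDOn Q U) {f : V}
    (hf : ∀ u ∈ U, polar Q f u = 0) (hQf : Q f ≠ 0) :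
    NDOn Q (U ⊔ Submodule.span F {f}) ∧ finrank F ↥(U ⊔ Submodule.span F {f}) = finrank F U + 1 := by
  have hff : polar Q f f ≠ 0 := by rw [polar_self_two]; exact mul_ne_zero h2 hQf
  constructor
  · intro v hv
    obtain ⟨u, hu, w, hw, hvw⟩ := Submodule.mem_sup.mp v.2
    obtain ⟨t, rfl⟩ := Submodule.mem_span_singleton.mp hw
    have hf' : f ∈ U ⊔ Submodule.span F {f} := Submodule.mem_sup_right (Submodule.mem_span_singleton_self f)
    have h1 : polar Q v.1 f = 0 := hv ⟨f, hf'⟩
    rw [← hvw, polar_add_left, polar_comm Q u f, hf u hu, polar_smul_left, zero_add, smul_eq_mul] at h1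
    have ht : t = 0 := (mul_eq_zero.mp h1).resolve_right hff
    have hu0 : (⟨u, hu⟩ : U) = 0 := hU ⟨u, hu⟩ fun x => by
      have h3 : polar Q v.1 x.1 = 0 := hv ⟨x.1, Submodule.mem_sup_left x.2⟩
      rwa [← hvw, ht, zero_smul, add_zero] at h3
    apply Subtype.ext
    rw [← hvw, ht, zero_smul, add_zero]
    exact congrArg Subtype.val hu0
  · have hdisj : U ⊓ Submodule.span F {f} = ⊥ := by
      rw [eq_bot_iff]
      rintro x ⟨hx, hx'⟩
      obtain ⟨t, rfl⟩ := Submodule.mem_span_singleton.mp hx'
      have h1 := hf _ hx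
      rw [polar_smul_right, smul_eq_mul] at h1
      rw [(mul_eq_zero.mp h1).resolve_right hff, zero_smul]
      exact Submodule.zero_mem _
    have hne : f ≠ 0 := fun e => hQf (by rw [e, QuadraticMap.map_zero])
    have := Submodule.finrank_sup_add_finrank_inf_eq U (Submodule.span F {f})
    rw [hdisj, finrank_bot, finrank_span_singleton hne] at this
    omega

variable (B : Frame Q n)

theorem Frame.polar_zero_of_disjoint {x y : V} (h : ∀ i, B.co x i = 0 ∨ B.co y i = 0) : polar Q x y = 0 := by
  rw [B.polar_eq, Finset.sum_eq_zero fun i _ => ?_, mul_zero]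
  rcases h i with h | h <;> rw [h] <;> ring

theorem Frame.sub_insert {A : Finset (Fin n)} {i : Fin n} :
    B.sub (insert i A) = B.sub A ⊔ Submodule.span F {B.bas i} := by
  classical
  refine le_antisymm (fun x hx => ?_) (sup_le (fun x hx j hj => hx j fun h => hj (Finset.mem_insert_of_mem h)) ?_)
  · refine Submodule.mem_sup.mpr ⟨x - B.co x i • B.bas i, fun j hj => ?_, _,
      Submodule.smul_mem _ _ (Submodule.mem_span_singleton_self _), sub_add_cancel _ _⟩
    rw [B.co_sub, B.co_smul, B.co_bas]
    by_cases h : i = j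
    · subst h; simp
    · rw [if_neg h, mul_zero, sub_zero]
      exact hx j (by simp [Ne.symm h, hj])
  · rw [Submodule.span_singleton_le_iff_mem]
    exact B.bas_mem_sub (Finset.mem_insert_self i A)

theorem Frame.sub_empty : B.sub ∅ = ⊥ := by
  rw [eq_bot_iff]
  intro x hx
  rw [Submodule.mem_bot]
  exact B.ext_co fun i => by rw [hx i (Finset.notMem_empty i), B.co_zero]

theorem Frame.ndOn_sub (A : Finset (Fin n)) : NDOn Q (B.sub A) ∧ finrank F (B.sub A) = A.card := by
  classical
  induction A using Finset.induction with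
  | empty =>
    rw [B.sub_empty, finrank_bot]
    exact ⟨fun v _ => Subsingleton.elim _ _, rfl⟩
  | insert i A hi ih =>
    rw [B.sub_insert, Finset.card_insert_of_notMem hi, ← ih.2]
    refine ndOn_sup_span B.two ih.1 (fun u hu => ?_) (by rw [B.val]; exact B.c_ne)
    rw [B.polar_bas, hu i hi, mul_zero]

variable [Finite F]

/-- A block can be split into frame members. -/
theorem grow_block {G : Subgroup ↥(Iso Q)} (hsg : ∀ i, B.sg i ∈ G) (h5 : 5 ≤ Nat.card F) (hk : ∀ k : ℕ, 1 ≤ k → k ≤ 4 → (k : F) ≠ 0) :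
    ∀ (m : ℕ) (T : Finset (Fin n)) (W : Submodule F V) (r : V), T.card = m → m ≤ 5 → B.supp r = T →
      (∀ w ∈ W, ∀ i ∈ T, B.co w i = 0) → NDOn Q W → 2 ≤ finrank F W → Q r ≠ 0 →
      Sph G B.c (W ⊔ Submodule.span F {r}) → Sph G B.c (W ⊔ B.sub T) := by
  classical
  intro m
  induction m with
  | zero =>
    intro T W r hT _ hr _ _ _ hQr _
    refine absurd ?_ hQr
    rw [Finset.card_eq_zero] at hT
    have : r = 0 := B.ext_co fun i => by rw [B.co_zero, ← B.notMem_supp, hr, hT]; exact Finset.notMem_empty i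
    rw [this, QuadraticMap.map_zero]
  | succ m ih =>
    intro T W r hT hm hr hW hWnd hW2 hQr hS
    by_cases hm0 : m = 0
    · subst hm0
      obtain ⟨l, rfl⟩ := Finset.card_eq_one.mp hT
      have hrl : r = B.co r l • B.bas l := B.ext_co fun i => by
        rw [B.co_smul, B.co_bas]
        by_cases h : l = i
        · subst h; simp
        · rw [if_neg h, mul_zero, ← B.notMem_supp, hr]; simp [Ne.symm h]
      have e : B.sub {l} = Submodule.span F {r} := by
        rw [show ({l} : Finset (Fin n)) = insert l ∅ from rfl, B.sub_insert, B.sub_empty, bot_sup_eq, hrl,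
          Submodule.span_singleton_smul_eq (Ne.isUnit (B.mem_supp.mp (hr ▸ Finset.mem_singleton_self l)))]
      rwa [e]
    obtain ⟨l, hl, hne⟩ : ∃ l ∈ T, B.c * B.co r l ^ 2 ≠ Q r := by
      by_contra hcon
      push Not at hcon
      have h1 := B.val_eq r
      rw [← B.sum_supp r (fun _ x => x ^ 2) (fun _ => by ring), hr, Finset.mul_sum, Finset.sum_congr rfl hcon,
        Finset.sum_const, hT, nsmul_eq_mul] at h1
      refine hk m (by omega) (by omega) ?_
      have : (m : F) * Q r = 0 := by push_cast at h1; linear_combination -h1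
      exact (mul_eq_zero.mp this).resolve_right hQr
    have hrl : B.co r l ≠ 0 := B.mem_supp.mp (hr ▸ hl)
    obtain ⟨s, hs⟩ : ∃ s, s = B.c * B.co r l / Q r := ⟨_, rfl⟩
    have hs0 : s ≠ 0 := hs ▸ div_ne_zero (mul_ne_zero B.c_ne hrl) hQr
    have hrW : ∀ w ∈ W, polar Q r w = 0 := fun w hw => B.polar_zero_of_disjoint fun i => by
      by_cases h : i ∈ T
      · exact Or.inr (hW w hw i h)
      · exact Or.inl (by rw [← B.notMem_supp, hr]; exact h)
    obtain ⟨hU, hUd⟩ := ndOn_sup_span B.two hWnd hrW hQr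
    have hff : ∀ u ∈ W ⊔ Submodule.span F {r}, polar Q (B.bas l - s • r) u = 0 := by
      intro u hu
      obtain ⟨w, hw, z, hz, rfl⟩ := Submodule.mem_sup.mp hu
      obtain ⟨q, rfl⟩ := Submodule.mem_span_singleton.mp hz
      simp only [polar_sub_left, polar_add_right, polar_smul_left, polar_smul_right, B.polar_bas, hW w hw l hl,
        hrW w hw, polar_self_two, smul_eq_mul, hs]
      field_simp
      ring
    have hQf : Q (B.bas l - s • r) ≠ 0 := by
      rw [map_sub_two, QuadraticMap.map_smul, polar_smul_right, B.polar_bas, B.val, smul_eq_mul, smul_eq_mul, hs]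
      intro e
      apply hne
      field_simp at e
      exact mul_left_cancel₀ B.c_ne (by linear_combination -e)
    have hstep := sphere_step B.two B.c_ne h5 hU (by omega) hS hff hQf (one_ne_zero)
      (y₀ := s • r) (Submodule.mem_sup_right (Submodule.smul_mem _ _ (Submodule.mem_span_singleton_self _)))
      (by rw [QuadraticMap.map_smul, smul_eq_mul]; exact mul_ne_zero (mul_ne_zero hs0 hs0) hQr)
      (by rw [one_smul, add_sub_cancel, B.val])
      (by rw [one_smul, add_sub_cancel]; exact hsg l)
    have hl' : ∀ w ∈ W, polar Q (B.bas l) w = 0 := fun w hw => by rw [B.polar_bas, hW w hw l hl, mul_zero]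
    obtain ⟨hW', hW'd⟩ := ndOn_sup_span B.two hWnd hl' (by rw [B.val]; exact B.c_ne)
    have key := ih (T.erase l) (W ⊔ Submodule.span F {B.bas l}) (r - B.co r l • B.bas l)
      (by rw [Finset.card_erase_of_mem hl, hT]; omega) (by omega) ?_ ?_ hW' (by omega) ?_ ?_
    · rwa [sup_assoc, sup_comm (Submodule.span F {B.bas l}), ← B.sub_insert, Finset.insert_erase hl] at key
    · ext i
      rw [Finset.mem_erase, ← hr, B.mem_supp, B.mem_supp, B.co_sub, B.co_smul, B.co_bas]
      by_cases h : l = i
      · subst h; simp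
      · simp [h, Ne.symm h]
    · intro w hw i hi
      obtain ⟨w', hw', z, hz, rfl⟩ := Submodule.mem_sup.mp hw
      obtain ⟨q, rfl⟩ := Submodule.mem_span_singleton.mp hz
      rw [Finset.mem_erase] at hi
      rw [B.co_add, B.co_smul, hW w' hw' i hi.2, B.co_bas_ne (Ne.symm hi.1), mul_zero, add_zero]
    · rw [map_sub_two, QuadraticMap.map_smul, polar_smul_right, polar_comm Q r, B.polar_bas, B.val, smul_eq_mul,
        smul_eq_mul]
      intro e
      exact hne (by linear_combination -e)
    · intro v hv hvc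
      have hel : B.bas l ∈ W ⊔ Submodule.span F {r} ⊔ Submodule.span F {B.bas l - s • r} := by
        have h1 : B.bas l - s • r ∈ W ⊔ Submodule.span F {r} ⊔ Submodule.span F {B.bas l - s • r} :=
          Submodule.mem_sup_right (Submodule.mem_span_singleton_self _)
        have h2 : s • r ∈ W ⊔ Submodule.span F {r} ⊔ Submodule.span F {B.bas l - s • r} :=
          Submodule.mem_sup_left (Submodule.mem_sup_right (Submodule.smul_mem _ s (Submodule.mem_span_singleton_self r)))
        have := add_mem h1 h2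
        simpa using this
      have hle : W ⊔ Submodule.span F {B.bas l} ⊔ Submodule.span F {r - B.co r l • B.bas l} ≤
          W ⊔ Submodule.span F {r} ⊔ Submodule.span F {B.bas l - s • r} :=
        sup_le (sup_le (le_sup_of_le_left le_sup_left) ((Submodule.span_singleton_le_iff_mem _ _).mpr hel))
          ((Submodule.span_singleton_le_iff_mem _ _).mpr (sub_mem
            (Submodule.mem_sup_left (Submodule.mem_sup_right (Submodule.mem_span_singleton_self _)))
            (Submodule.smul_mem _ _ hel)))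
      exact hstep v (hle hv) hvc

/-- The image of a sphere under a group element. -/
theorem Sph.map {G : Subgroup ↥(Iso Q)} {c : F} {U : Submodule F V} (hS : Sph G c U) {g : ↥(Iso Q)} (hg : g ∈ G)
    {v : V} (hv : v ∈ U) (hvc : Q v = c) : rf Q (g.1 v) ∈ G := rf_conj_mem hg (hS v hv hvc)

/-- The sphere of three places gives all unit vectors. -/
theorem grow_all {G : Subgroup ↥(Iso Q)} (hG : HasAlt B G) (h5 : 5 ≤ Nat.card F)
    (h3 : (3 : F) ≠ 0) (hn : 5 ≤ n) {S₀ : Finset (Fin n)} (hS₀ : S₀.card = 3) (hS : Sph G B.c (B.sub S₀)) :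
    Sph G B.c ⊤ := by
  classical
  suffices h : ∀ A : Finset (Fin n), Sph G B.c (B.sub (S₀ ∪ A)) by
    intro v _ hvc
    exact h Finset.univ v (fun i hi => absurd (Finset.mem_union_right _ (Finset.mem_univ i)) hi) hvc
  intro A
  induction A using Finset.induction with
  | empty => rwa [Finset.union_empty]
  | insert k A hk ih =>
    by_cases hkS : k ∈ S₀ ∪ A
    · rwa [Finset.union_insert, Finset.insert_eq_of_mem hkS]
    rw [Finset.union_insert, B.sub_insert]
    obtain ⟨s₀, s₁, s₂, h01, h02, h12, hS3⟩ := Finset.card_eq_three.mp hS₀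
    obtain ⟨x, y, hxy⟩ := exists_rep B.two B.c_ne B.c_ne (-(3 * B.c))
    obtain ⟨hU, hUd⟩ := B.ndOn_sub (S₀ ∪ A)
    have hm : ∀ i, i ∈ S₀ → i ∈ S₀ ∪ A := fun i hi => Finset.mem_union_left _ hi
    have hy0 : x • B.bas s₁ + y • B.bas s₂ ∈ B.sub (S₀ ∪ A) :=
      add_mem (Submodule.smul_mem _ _ (B.bas_mem_sub (hm _ (by simp [hS3]))))
        (Submodule.smul_mem _ _ (B.bas_mem_sub (hm _ (by simp [hS3]))))
    have hval : Q (x • B.bas s₁ + y • B.bas s₂) = -(3 * B.c) := by
      rw [map_two, QuadraticMap.map_smul, QuadraticMap.map_smul, polar_smul_left, polar_smul_right,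
        B.orth _ _ h12, B.val, B.val, smul_eq_mul, smul_eq_mul, smul_zero, smul_zero, add_zero, ← hxy]
      ring
    have horth : ∀ u ∈ B.sub (S₀ ∪ A), polar Q (B.bas k) u = 0 := fun u hu => by
      rw [B.polar_bas, hu k hkS, mul_zero]
    obtain ⟨σ, hσA, hσ, -⟩ := exists_even_map_on (S := Finset.univ) (A := S₀)
      (f := fun i => if i = s₀ then k else i) (Finset.subset_univ _) (fun _ _ => Finset.mem_univ _) (by
        intro a ha b hb e
        simp only [Finset.mem_coe] at ha hb
        dsimp only at e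
        split_ifs at e with h1 h2 h4
        · exact h1.trans h2.symm
        · exact absurd (e ▸ hm b hb) hkS
        · exact absurd (e.symm ▸ hm a ha) hkS
        · exact e)
      (by rw [Finset.card_univ, Fintype.card_fin, hS₀]; omega)
    obtain ⟨g, hg, hgσ⟩ := hG σ hσA
    have hv0 : (2 : F) • B.bas s₀ + (x • B.bas s₁ + y • B.bas s₂) ∈ B.sub S₀ :=
      add_mem (Submodule.smul_mem _ _ (B.bas_mem_sub (by simp [hS3])))
        (add_mem (Submodule.smul_mem _ _ (B.bas_mem_sub (by simp [hS3])))
          (Submodule.smul_mem _ _ (B.bas_mem_sub (by simp [hS3]))))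
    have hv0c : Q ((2 : F) • B.bas s₀ + (x • B.bas s₁ + y • B.bas s₂)) = B.c := by
      rw [map_two, QuadraticMap.map_smul, hval, B.val, polar_smul_left, polar_add_right, polar_smul_right,
        polar_smul_right, B.orth _ _ h01, B.orth _ _ h02]
      simp only [smul_eq_mul]
      ring
    have hmem := hS.map hg hv0 hv0c
    have e1 : g.1 ((2 : F) • B.bas s₀ + (x • B.bas s₁ + y • B.bas s₂)) =
        (x • B.bas s₁ + y • B.bas s₂) + (2 : F) • B.bas k := by
      rw [map_add, map_add, map_smul, map_smul, map_smul, hgσ, hgσ, hgσ, hσ s₀ (by simp [hS3]),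
        hσ s₁ (by simp [hS3]), hσ s₂ (by simp [hS3]), if_pos rfl, if_neg h01.symm, if_neg h02.symm, add_comm]
    rw [e1] at hmem
    refine sphere_step B.two B.c_ne h5 hU ?_ ih horth (by rw [B.val]; exact B.c_ne) B.two hy0 ?_ ?_ hmem
    · rw [hUd, ← hS₀]; exact Finset.card_le_card Finset.subset_union_left
    · rw [hval]; exact neg_ne_zero.mpr (mul_ne_zero h3 B.c_ne)
    · rw [← e1, g.2 _]; exact hv0c

end Cfsg.Agent.Classical.MFrame
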