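import Cfsg.Agent.Lib.Classical.MonomFrame.Even
import Cfsg.Agent.Lib.Classical.OrthNotMax

/-!
# Stabilisers of orthogonal frames in matrix form
-/

set_option autoImplicit false
set_option linter.unusedSectionVars false

namespace Cfsg.Agent.Classical.MFrame

open Module QuadraticMap OCount ORefl OOmega Matrix

variable {F : Type*} [Field F] [Finite F] {ι : Type} [Fintype ι] [DecidableEq ι] {Q : QuadraticForm F (ι → F)}

theorem exists_frame (h2 : (2 : F) ≠ 0) (hQ : PND Q) {t : ℕ} {D : Fin t → Submodule F (ι → F)}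
    (hD : Cfsg.Geo.IsOrthogonalMDecomposition ⇑Q 1 D) :
    ∃ B : Frame Q t, ∀ i, D i = Submodule.span F {B.bas i} := by
  classical
  obtain ⟨⟨hM, hnd, horth⟩, hiso⟩ := hD
  obtain ⟨i₀⟩ : Nonempty (Fin t) := ⟨⟨0, by have := hM.two_le; omega⟩⟩
  obtain ⟨x₀, hx₀, hx0⟩ := (Submodule.ne_bot_iff (D i₀)).1 fun h => by
    have := hM.finrank_eq i₀
    rw [h, finrank_bot] at this
    omega
  have hspan0 : ∀ (i : Fin t) (x : ι → F), x ∈ D i → x ≠ 0 → D i = Submodule.span F {x} := fun i x hx hne =>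
    (Submodule.eq_of_le_of_finrank_eq ((Submodule.span_singleton_le_iff_mem _ _).mpr hx)
      (by rw [finrank_span_singleton hne, hM.finrank_eq])).symm
  have hQx0 : Q x₀ ≠ 0 := fun h => by
    obtain ⟨y, hy, hne⟩ := (hnd i₀ x₀ hx₀ hx0).2
    rw [hspan0 i₀ x₀ hx₀ hx0] at hy
    obtain ⟨s, rfl⟩ := Submodule.mem_span_singleton.mp hy
    rw [polar_smul_right, polar_self_two, h, mul_zero, smul_zero] at hne
    exact hne rfl
  choose e he using fun i => hiso i₀ i
  obtain ⟨x, hx⟩ : ∃ x : Fin t → ι → F, x = fun i => ((e i ⟨x₀, hx₀⟩ : D i) : ι → F) := ⟨_, rfl⟩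
  have hxD : ∀ i, x i ∈ D i := fun i => by rw [hx]; exact (e i _).2
  have hval : ∀ i, Q (x i) = Q x₀ := fun i => by rw [hx]; exact he i ⟨x₀, hx₀⟩
  have hne : ∀ i, x i ≠ 0 := fun i h => hQx0 (by rw [← hval i, h, QuadraticMap.map_zero])
  have hperp : ∀ i j, i ≠ j → polar Q (x i) (x j) = 0 := fun i j hij => horth i j hij _ (hxD i) _ (hxD j)
  have hli : LinearIndependent F x := by
    refine Fintype.linearIndependent_iff.2 fun a ha l => ?_
    have h1 := congrArg (Q.polarBilin (x l)) ha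
    rw [map_sum, map_zero, Finset.sum_eq_single l] at h1
    · rw [map_smul, polarBilin_apply_apply, polar_self_two, hval, smul_eq_mul] at h1
      exact (mul_eq_zero.mp h1).resolve_right (mul_ne_zero h2 hQx0)
    · intro j _ hj
      rw [map_smul, polarBilin_apply_apply, hperp l j hj.symm, smul_zero]
    · exact fun h => absurd (Finset.mem_univ l) h
  have htop : ⊤ ≤ Submodule.span F (Set.range x) := by
    rw [← hM.iSup_eq_top]
    refine iSup_le fun i => ?_
    rw [hspan0 i (x i) (hxD i) (hne i)]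
    exact Submodule.span_mono (Set.singleton_subset_iff.mpr ⟨i, rfl⟩)
  exact ⟨{ bas := Basis.mk hli htop, c := Q x₀, c_ne := hQx0, two := h2
           val := fun i => by rw [Basis.mk_apply]; exact hval i
           orth := fun i j hij => by rw [Basis.mk_apply, Basis.mk_apply]; exact hperp i j hij },
    fun i => by rw [Basis.mk_apply]; exact hspan0 i (x i) (hxD i) (hne i)⟩

/-- Maximality of the stabiliser of a frame, from the statement on subgroups of the derived group. -/
theorem isMaximalIn_of_frame (h2 : (2 : F) ≠ 0) (hQ : PND Q) {t : ℕ} (ht : 5 ≤ Fintype.card ι)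
    {D : Fin t → Submodule F (ι → F)} (hD : Cfsg.Geo.IsOrthogonalMDecomposition ⇑Q 1 D)
    (key : ∀ B : Frame Q t, ∀ H : Subgroup ↥(Iso Q), H ≤ commutator ↥(Iso Q) →
      (∀ g ∈ commutator ↥(Iso Q), B.Mono g → g ∈ H) → (∀ g ∈ H, B.Mono g) ∨ commutator ↥(Iso Q) ≤ H) :
    Cfsg.Geo.IsMaximalIn (Cfsg.Geo.omegaGL ⇑Q) (Cfsg.Geo.decompositionStabilizer D ⊓ Cfsg.Geo.omegaGL ⇑Q) := by
  classical
  obtain ⟨B, hB⟩ := exists_frame h2 hQ hD
  have hn : t = Fintype.card ι := by
    rw [← Module.finrank_fintype_fun_eq_card F, B.finrank_eq]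
  obtain ⟨f, hfv⟩ : ∃ f : ↥(Iso Q) →* GL ι F, ∀ g, f g = (toMat Q g).1 :=
    ⟨(Cfsg.isometryGroup F ⇑Q).subtype.comp (toMat Q).toMonoidHom, fun _ => rfl⟩
  have hinj : Function.Injective f := fun a b h => (toMat Q).injective (Subtype.ext (by rw [← hfv, h, hfv]))
  have hΩ : Cfsg.Geo.omegaGL ⇑Q = (commutator ↥(Iso Q)).map f := by
    rw [Cfsg.Geo.omegaGL, omega_eq_map, Subgroup.map_map]
    congr 1
    ext g
    rw [hfv]; rfl
  have hlin : ∀ (g : ↥(Iso Q)) (x : ι → F), Matrix.toLin' ((f g : Matrix ι ι F)) x = g.1 x := fun g x => by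
    rw [Matrix.toLin'_apply, hfv, toMat_apply]
  have hstab : ∀ g : ↥(Iso Q), f g ∈ Cfsg.Geo.decompositionStabilizer D ↔ B.Mono g := by
    intro g
    constructor
    · rintro ⟨σ, hσ⟩ i
      have hmem : g.1 (B.bas i) ∈ D (σ i) := by
        rw [← hσ i]
        exact ⟨B.bas i, by rw [hB]; exact Submodule.mem_span_singleton_self _, hlin g _⟩
      rw [hB] at hmem
      obtain ⟨s, hs⟩ := Submodule.mem_span_singleton.mp hmem
      refine ⟨σ i, ?_⟩
      have h := g.2 (B.bas i)
      rw [← hs, QuadraticMap.map_smul, B.val, B.val, smul_eq_mul] at h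
      rcases mul_self_eq_one_iff.mp (mul_right_cancel₀ B.c_ne (h.trans (one_mul B.c).symm)) with h' | h'
      · left; rw [← hs, h', one_smul]
      · right; rw [← hs, h', neg_one_smul]
    · intro h
      obtain ⟨τ, hτ⟩ := B.exists_hasPerm h
      refine ⟨τ, fun i => ?_⟩
      rw [hB, hB, Submodule.map_span, Set.image_singleton, hlin]
      rcases hτ i with h' | h' <;> rw [h']
      rw [← neg_one_smul F (B.bas (τ i))]
      exact Submodule.span_singleton_smul_eq (neg_ne_zero.mpr one_ne_zero).isUnit _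
  constructor
  · refine lt_of_le_of_ne inf_le_right fun he => ?_
    obtain ⟨g, hg, hgm⟩ := B.exists_nonMono_mem (hn ▸ ht)
    have : f g ∈ Cfsg.Geo.omegaGL ⇑Q := by rw [hΩ]; exact Subgroup.mem_map_of_mem f hg
    rw [← he] at this
    exact hgm ((hstab g).mp this.1)
  · intro M hM1 hM2
    have hMle : M ≤ (commutator ↥(Iso Q)).map f := hΩ ▸ hM2
    rcases key B (M.comap f) (fun g hg => by
        obtain ⟨g', hg', e⟩ := hMle hg
        exact hinj e ▸ hg')
      (fun g hg hm => hM1 ⟨(hstab g).mpr hm, by rw [hΩ]; exact Subgroup.mem_map_of_mem f hg⟩) with h | h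
    · refine Or.inl (le_antisymm (le_inf (fun y hy => ?_) hM2) hM1)
      obtain ⟨g, hg, rfl⟩ := hMle hy
      exact (hstab g).mpr (h g hy)
    · refine Or.inr (le_antisymm hM2 ?_)
      rw [hΩ]
      exact Subgroup.map_le_iff_le_comap.mpr h

end Cfsg.Agent.Classical.MFrame
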