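import Mathlib

/-!
# Elementary abelian two-groups of permutations are small
-/

set_option autoImplicit false

namespace Cfsg.Agent.Classical.MFrame

variable {α : Type*}

theorem sq_le_two_pow : ∀ k : ℕ, 4 ≤ k → k ^ 2 ≤ 2 ^ k := by
  intro k hk
  induction k, hk using Nat.le_induction with
  | base => norm_num
  | succ k hk ih =>
    have : (k + 1) ^ 2 ≤ 2 * k ^ 2 := by nlinarith
    calc (k + 1) ^ 2 ≤ 2 * k ^ 2 := this
      _ ≤ 2 * 2 ^ k := Nat.mul_le_mul_left 2 ih
      _ = 2 ^ (k + 1) := by ring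

/-- A commutative group of involutions moving only the points of `S` has order at most `2^(|S|/2)`. -/
theorem card_sq_le_two_pow [DecidableEq α] [Finite α] : ∀ (s : ℕ) (S : Finset α) (E : Subgroup (Equiv.Perm α)),
    S.card = s → (∀ e ∈ E, ∀ x ∉ S, e x = x) → (∀ e ∈ E, e * e = 1) → Nat.card E ^ 2 ≤ 2 ^ s := by
  classical
  intro s
  induction s using Nat.strong_induction_on with
  | _ s ih =>
    intro S E hS hout hinv
    by_cases htriv : ∀ e ∈ E, e = 1
    · rw [(Subgroup.eq_bot_iff_forall E).mpr htriv, Subgroup.card_bot]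
      simpa using Nat.one_le_two_pow
    push Not at htriv
    obtain ⟨e₀, he₀, hne⟩ := htriv
    obtain ⟨x, hx⟩ : ∃ x, e₀ x ≠ x := by
      by_contra! h
      exact hne (Equiv.ext h)
    have hcomm : ∀ e ∈ E, ∀ f ∈ E, e * f = f * e := by
      intro e he f hf
      have h1 := hinv _ (mul_mem he hf)
      have h2 : e⁻¹ = e := inv_eq_of_mul_eq_one_left (hinv e he)
      have h3 : f⁻¹ = f := inv_eq_of_mul_eq_one_left (hinv f hf)
      calc e * f = (e * f)⁻¹ := (inv_eq_of_mul_eq_one_left h1).symm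
        _ = _ := by rw [mul_inv_rev, h2, h3]
    obtain ⟨O, hO⟩ : ∃ O : Finset α, ∀ y, y ∈ O ↔ ∃ e ∈ E, e x = y :=
      ⟨(Set.toFinite {y | ∃ e ∈ E, e x = y}).toFinset, fun y => by simp⟩
    have hxO : x ∈ O := (hO x).mpr ⟨1, one_mem E, rfl⟩
    have hOS : O ⊆ S := fun y hy => by
      obtain ⟨e, he, rfl⟩ := (hO y).mp hy
      by_contra h
      have h1 : e (e x) = e x := hout e he _ h
      have h2 : x ∉ S := by rwa [e.injective h1] at h
      exact hx (hout e₀ he₀ x h2)
    -- the orbit has even size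
    have hev : 2 ∣ O.card := by
      obtain ⟨τ, hτ⟩ : ∃ τ : Equiv.Perm {y // y ∈ O}, ∀ y, (τ y).1 = e₀ y.1 := by
        refine ⟨e₀.subtypePerm fun y => ?_, fun _ => rfl⟩
        rw [hO, hO]
        constructor
        · rintro ⟨e, he, h⟩
          refine ⟨e₀ * e, mul_mem he₀ he, ?_⟩
          rw [Equiv.Perm.mul_apply, h, ← Equiv.Perm.mul_apply, hinv e₀ he₀, Equiv.Perm.one_apply]
        · rintro ⟨e, he, h⟩
          exact ⟨e₀ * e, mul_mem he₀ he, by rw [Equiv.Perm.mul_apply, h]⟩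
      have hsupp : τ.support = Finset.univ := Finset.eq_univ_of_forall fun y => by
        rw [Equiv.Perm.mem_support]
        intro h
        have h' := congrArg Subtype.val h
        rw [hτ] at h'
        obtain ⟨e, he, hy⟩ := (hO y.1).mp y.2
        rw [← hy, ← Equiv.Perm.mul_apply, hcomm e₀ he₀ e he, Equiv.Perm.mul_apply] at h'
        exact hx (e.injective h')
      have hpow : τ ^ 2 = 1 := Equiv.ext fun y => Subtype.ext (by
        rw [pow_two, Equiv.Perm.mul_apply, hτ, hτ, ← Equiv.Perm.mul_apply, hinv e₀ he₀]; rfl)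
      have := Equiv.Perm.two_dvd_card_support hpow
      rwa [hsupp, Finset.card_univ, Fintype.card_coe] at this
    -- the point stabiliser fixes the orbit
    obtain ⟨K, hK⟩ : ∃ K : Subgroup (Equiv.Perm α), ∀ e, e ∈ K ↔ e ∈ E ∧ e x = x :=
      ⟨E ⊓ MulAction.stabilizer (Equiv.Perm α) x, fun e => by simp [Subgroup.mem_inf, MulAction.mem_stabilizer_iff]⟩
    have hKout : ∀ e ∈ K, ∀ y ∉ S \ O, e y = y := by
      intro e he y hy
      rw [hK] at he
      by_cases hyO : y ∈ O
      · obtain ⟨f, hf, rfl⟩ := (hO y).mp hyO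
        rw [← Equiv.Perm.mul_apply, hcomm e he.1 f hf, Equiv.Perm.mul_apply, he.2]
      · exact hout e he.1 y fun h => hy (Finset.mem_sdiff.mpr ⟨h, hyO⟩)
    have hO2 : 2 ≤ O.card := Nat.le_of_dvd (Finset.card_pos.mpr ⟨x, hxO⟩) hev
    have hle : O.card ≤ s := hS ▸ Finset.card_le_card hOS
    have hrec := ih (s - O.card) (by omega) (S \ O) K (by rw [Finset.card_sdiff_of_subset hOS, hS]) hKout
      fun e he => hinv e ((hK e).mp he).1
    -- count
    have hcount : Nat.card E ≤ O.card * Nat.card K := by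
      have hsec : ∀ y : {y // y ∈ O}, ∃ e ∈ E, e x = y.1 := fun y => (hO y.1).mp y.2
      choose sec hsecE hsecx using hsec
      have hmem : ∀ e : E, e.1 x ∈ O := fun e => (hO _).mpr ⟨e.1, e.2, rfl⟩
      obtain ⟨Φ, hΦ⟩ : ∃ Φ : E → {y // y ∈ O} × K,
          ∀ e : E, (Φ e).1 = ⟨e.1 x, hmem e⟩ ∧ (Φ e).2.1 = sec ⟨e.1 x, hmem e⟩ * e.1 := by
        refine ⟨fun e => (⟨e.1 x, hmem e⟩, ⟨_, (hK _).mpr ⟨mul_mem (hsecE ⟨e.1 x, hmem e⟩) e.2, ?_⟩⟩), fun e => ⟨rfl, rfl⟩⟩
        rw [hcomm _ (hsecE _) _ e.2, Equiv.Perm.mul_apply, hsecx, ← Equiv.Perm.mul_apply, hinv e.1 e.2]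
        rfl
      have hinj : Function.Injective Φ := by
        intro a b hab
        have h1 : (⟨a.1 x, hmem a⟩ : {y // y ∈ O}) = ⟨b.1 x, hmem b⟩ := by
          rw [← (hΦ a).1, ← (hΦ b).1, hab]
        have h2 := congrArg (fun z => z.2.1) hab
        rw [(hΦ a).2, (hΦ b).2, h1] at h2
        exact Subtype.ext (mul_left_cancel h2)
      have := Nat.card_le_card_of_injective Φ hinj
      rwa [Nat.card_prod, Nat.card_eq_fintype_card (α := {y // y ∈ O}), Fintype.card_coe] at this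
    have hsq : O.card ^ 2 ≤ 2 ^ O.card := by
      by_cases h4 : 4 ≤ O.card
      · exact sq_le_two_pow _ h4
      · have : O.card = 2 := by omega
        rw [this]
    calc Nat.card E ^ 2 ≤ (O.card * Nat.card K) ^ 2 := Nat.pow_le_pow_left hcount 2
      _ = O.card ^ 2 * Nat.card K ^ 2 := by ring
      _ ≤ 2 ^ O.card * 2 ^ (s - O.card) := Nat.mul_le_mul hsq hrec
      _ = 2 ^ s := by rw [← pow_add, Nat.add_sub_cancel' hle]

end Cfsg.Agent.Classical.MFrame
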