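import Cfsg.Agent.Lib.Classical.MonomFrame.Short
import Cfsg.Agent.Lib.Classical.MonomFrame.Descend
import Cfsg.Agent.Lib.Classical.MonomFrame.PermAb

/-!
# Conjugating a sign pair into the monomial group
-/

set_option autoImplicit false
set_option linter.unusedSectionVars false

namespace Cfsg.Agent.Classical.MFrame

open Module QuadraticMap OCount ORefl OOmega

variable {F : Type*} [Field F] [Finite F] {V : Type*} [AddCommGroup V] [Module F V] [FiniteDimensional F V]
variable {Q : QuadraticForm F V} {n : ℕ} (B : Frame Q n)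

/-- Change of sign on a set of places. -/
noncomputable def Frame.flip (D : Finset (Fin n)) : ↥(Iso Q) :=
  (B.exists_flip (G := ⊤) (fun _ => trivial) D).choose

theorem Frame.co_flip (D : Finset (Fin n)) (x : V) (j : Fin n) :
    B.co ((B.flip D).1 x) j = if j ∈ D then -B.co x j else B.co x j :=
  (B.exists_flip (G := ⊤) (fun _ => trivial) D).choose_spec.2 x j

theorem Frame.iso_ext_co {g h : ↥(Iso Q)} (e : ∀ x j, B.co (g.1 x) j = B.co (h.1 x) j) : g = h :=
  B.iso_ext fun _ => B.ext_co fun j => e _ j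

theorem Frame.flip_empty : B.flip ∅ = 1 := B.iso_ext_co fun x j => by rw [B.co_flip]; simp

theorem Frame.flip_mul (D D' : Finset (Fin n)) : B.flip D * B.flip D' = B.flip (symmDiff D D') := by
  refine B.iso_ext_co fun x j => ?_
  show B.co ((B.flip D).1 ((B.flip D').1 x)) j = _
  rw [B.co_flip, B.co_flip, B.co_flip]
  by_cases h : j ∈ D <;> by_cases h' : j ∈ D' <;> simp [Finset.mem_symmDiff, h, h']

theorem Frame.flip_pair {k l : Fin n} (hkl : k ≠ l) : B.flip {k, l} = B.sg k * B.sg l := by
  refine B.iso_ext_co fun x j => ?_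
  show _ = B.co ((B.sg k).1 ((B.sg l).1 x)) j
  rw [B.co_flip, B.co_sg, B.co_sg]
  by_cases h : k = j <;> by_cases h' : l = j <;> simp [Finset.mem_insert, h, h', eq_comm (a := j)]
  exact absurd (h.trans h'.symm) hkl

theorem Frame.flip_bas (D : Finset (Fin n)) (i : Fin n) :
    (B.flip D).1 (B.bas i) = if i ∈ D then -B.bas i else B.bas i := by
  refine B.ext_co fun j => ?_
  rw [B.co_flip]
  by_cases h : i = j
  · subst h; split_ifs <;> simp [B.co_neg]
  · split_ifs <;> simp [B.co_neg, B.co_bas_ne h]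

theorem Frame.flip_induction {O : Finset (Fin n)} {P : ↥(Iso Q) → Prop} (h1 : P 1)
    (hstep : ∀ k ∈ O, ∀ l ∈ O, k ≠ l → ∀ g, P g → P (B.sg k * B.sg l * g)) :
    ∀ D ⊆ O, Even D.card → P (B.flip D) := by
  intro D
  induction D using Finset.strongInduction with
  | H D ih =>
    intro hD hev
    rcases Nat.eq_zero_or_pos D.card with h0 | hpos
    · rwa [Finset.card_eq_zero.mp h0, B.flip_empty]
    obtain ⟨k, hk⟩ := Finset.card_pos.mp hpos
    obtain ⟨l, hl, hlk⟩ := Finset.exists_mem_ne (s := D) (by rcases hev with ⟨r, hr⟩; omega) k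
    have hsub : ({k, l} : Finset (Fin n)) ⊆ D := by simp [Finset.insert_subset_iff, hk, hl]
    have he : B.flip D = B.sg k * B.sg l * B.flip (D \ {k, l}) := by
      rw [← B.flip_pair hlk.symm, B.flip_mul]
      congr 1
      ext j
      simp only [Finset.mem_symmDiff, Finset.mem_sdiff]
      constructor
      · intro hj
        by_cases h : j ∈ ({k, l} : Finset (Fin n))
        · exact Or.inl ⟨h, fun h' => h'.2 h⟩
        · exact Or.inr ⟨⟨hj, h⟩, h⟩
      · rintro (⟨h, -⟩ | ⟨⟨h, -⟩, -⟩)
        · exact hsub h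
        · exact h
    rw [he]
    refine hstep k (hD hk) l (hD hl) hlk.symm _ (ih _ (Finset.sdiff_ssubset hsub (by simp)) ((Finset.sdiff_subset).trans hD) ?_)
    rw [Finset.card_sdiff_of_subset hsub, Finset.card_pair hlk.symm]
    rcases hev with ⟨r, hr⟩
    exact ⟨r - 1, by omega⟩

/-- The permutation of a monomial isometry. -/
def Frame.HasPerm (g : ↥(Iso Q)) (τ : Equiv.Perm (Fin n)) : Prop :=
  ∀ i, g.1 (B.bas i) = B.bas (τ i) ∨ g.1 (B.bas i) = -B.bas (τ i)

theorem Frame.bas_ne_neg {i j : Fin n} (h : B.bas i = B.bas j ∨ B.bas i = -B.bas j) : i = j := by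
  by_contra hne
  rcases h with h | h <;> have := congrArg (fun v => B.co v i) h <;>
    simp [B.co_neg, B.co_bas_ne (Ne.symm hne), B.co_bas_self] at this

theorem Frame.exists_hasPerm {g : ↥(Iso Q)} (h : B.Mono g) : ∃ τ, B.HasPerm g τ := by
  choose f hf using h
  have hinj : Function.Injective f := by
    intro i j e
    refine B.bas_ne_neg ?_
    have hi := hf i
    have hj := hf j
    rw [← e] at hj
    rcases hi with hi | hi <;> rcases hj with hj | hj
    · exact Or.inl (g.1.injective (hi.trans hj.symm))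
    · exact Or.inr (g.1.injective (by rw [map_neg, hj, neg_neg, hi]))
    · exact Or.inr (g.1.injective (by rw [map_neg, hj, hi]))
    · exact Or.inl (g.1.injective (hi.trans hj.symm))
  exact ⟨Equiv.ofBijective f (Finite.injective_iff_bijective.mp hinj), hf⟩

theorem Frame.HasPerm.unique {g : ↥(Iso Q)} {τ τ' : Equiv.Perm (Fin n)} (h : B.HasPerm g τ)
    (h' : B.HasPerm g τ') : τ = τ' := by
  refine Equiv.ext fun i => B.bas_ne_neg ?_
  rcases h i with a | a <;> rcases h' i with b | b <;> rw [a] at b
  · exact Or.inl b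
  · exact Or.inr b
  · exact Or.inr (by rw [← b, neg_neg])
  · exact Or.inl (neg_injective b)

theorem Frame.HasPerm.mul {g g' : ↥(Iso Q)} {τ τ' : Equiv.Perm (Fin n)} (h : B.HasPerm g τ)
    (h' : B.HasPerm g' τ') : B.HasPerm (g * g') (τ * τ') := by
  intro i
  show g.1 (g'.1 (B.bas i)) = _ ∨ g.1 (g'.1 (B.bas i)) = _
  rw [Equiv.Perm.mul_apply]
  rcases h' i with a | a <;> rcases h (τ' i) with b | b <;> simp [a, map_neg, b]

theorem Frame.hasPerm_one : B.HasPerm 1 1 := fun _ => Or.inl rfl

theorem Frame.HasPerm.inv {g : ↥(Iso Q)} {τ : Equiv.Perm (Fin n)} (h : B.HasPerm g τ) : B.HasPerm g⁻¹ τ⁻¹ := by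
  intro i
  have := h (τ⁻¹ i)
  rw [show τ (τ⁻¹ i) = i from τ.apply_symm_apply i] at this
  show g.1.symm (B.bas i) = _ ∨ g.1.symm (B.bas i) = _
  rcases this with a | a
  · exact Or.inl (g.1.symm_apply_eq.mpr a.symm)
  · exact Or.inr (g.1.symm_apply_eq.mpr (by rw [map_neg, a, neg_neg]))

theorem Frame.mul_rf_fix {g : ↥(Iso Q)} {v : V} (h : g.1 v = v) : g * rf Q v = rf Q v * g := by
  have := conj_rf g v
  rw [h] at this
  exact mul_inv_eq_iff_eq_mul.mp this

variable {H : Subgroup ↥(Iso Q)}

/-- Standing facts on an overgroup of the monomial part of the derived group in which stabilisers of frame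
lines are monomial. -/
structure Frame.Star (B : Frame Q n) (H : Subgroup ↥(Iso Q)) : Prop where
  big : 9 ≤ n
  pairs : ∀ k l, k ≠ l → B.sg k * B.sg l ∈ H
  alt : HasAlt B H
  star : ∀ h ∈ H, ∀ k, h.1 (B.bas k) = B.bas k ∨ h.1 (B.bas k) = -B.bas k → B.Mono h

/-- An isometry carrying the sign pairs and even permutations of all but four places to monomial ones. -/
theorem Frame.Star.rigid (S : B.Star H) {h : ↥(Iso Q)} (hh : h ∈ H) {O : Finset (Fin n)} (hO : n ≤ O.card + 4)
    (hpair : ∀ k ∈ O, ∀ l ∈ O, k ≠ l → B.Mono (h⁻¹ * (B.sg k * B.sg l) * h))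
    (hperm : ∀ σ ∈ alternatingGroup (Fin n), (∀ i ∉ O, σ i = i) → ∀ π ∈ H, B.IsPerm σ π → B.Mono (h⁻¹ * π * h))
    {a b : Fin n} (hab : a ≠ b) (ha : ∀ k ∈ O, B.co (h.1 (B.bas a)) k = 0)
    (hb : ∀ k ∈ O, B.co (h.1 (B.bas b)) k = 0) :
    B.Mono h := by
  classical
  haveI := finite_iso (Q := Q)
  have hn := S.big
  have hmonoFlip : ∀ D ⊆ O, Even D.card → B.Mono (h⁻¹ * B.flip D * h) := by
    refine B.flip_induction (P := fun g => B.Mono (h⁻¹ * g * h)) (by simpa using B.mono_one) fun k hk l hl hkl g hg => ?_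
    have := (hpair k hk l hl hkl).mul B hg
    simpa [mul_assoc] using this
  have hsig : ∀ D ⊆ O, Even D.card → ∃ τ, B.HasPerm (h⁻¹ * B.flip D * h) τ := fun D hD he =>
    B.exists_hasPerm (hmonoFlip D hD he)
  have hevS : ∀ {D D' : Finset (Fin n)}, Even D.card → Even D'.card → Even (symmDiff D D').card := by
    intro D D' ⟨a, ha⟩ ⟨b, hb⟩
    have h1 : (symmDiff D D').card = (D \ D').card + (D' \ D).card := by
      rw [symmDiff_def]
      exact Finset.card_union_of_disjoint disjoint_sdiff_sdiff
    have h3 := Finset.card_inter_add_card_sdiff D D'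
    have h4 := Finset.card_inter_add_card_sdiff D' D
    rw [Finset.inter_comm] at h4
    exact ⟨a + b - (D ∩ D').card, by omega⟩
  obtain ⟨P, hP⟩ : ∃ P : Subgroup (Equiv.Perm (Fin n)), ∀ τ, τ ∈ P ↔
      ∃ D ⊆ O, Even D.card ∧ B.HasPerm (h⁻¹ * B.flip D * h) τ := by
    refine ⟨
      { carrier := {τ | ∃ D ⊆ O, Even D.card ∧ B.HasPerm (h⁻¹ * B.flip D * h) τ}
        one_mem' := ⟨∅, Finset.empty_subset _, ⟨0, rfl⟩, by rw [B.flip_empty]; simpa using B.hasPerm_one⟩
        mul_mem' := by
          rintro τ τ' ⟨D, hD, he, ht⟩ ⟨D', hD', he', ht'⟩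
          refine ⟨symmDiff D D', ?_, hevS he he', ?_⟩
          · rw [symmDiff_def]
            exact Finset.union_subset (Finset.sdiff_subset.trans hD) (Finset.sdiff_subset.trans hD')
          · have := ht.mul B ht'
            rw [← B.flip_mul]
            convert this using 1
            group
        inv_mem' := by
          rintro τ ⟨D, hD, he, ht⟩
          refine ⟨D, hD, he, ?_⟩
          have h1 : B.flip D * B.flip D = 1 := by rw [B.flip_mul, symmDiff_self]; exact B.flip_empty
          have := ht.inv B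
          convert this using 1
          rw [mul_inv_rev, mul_inv_rev, inv_inv, inv_eq_of_mul_eq_one_left h1, mul_assoc] }, fun τ => Iff.rfl⟩
  have hPinv : ∀ τ ∈ P, τ * τ = 1 := by
    intro τ hτ
    obtain ⟨D, hD, he, ht⟩ := (hP τ).mp hτ
    have h1 : B.flip D * B.flip D = 1 := by rw [B.flip_mul, symmDiff_self]; exact B.flip_empty
    have h2 : h⁻¹ * B.flip D * h * (h⁻¹ * B.flip D * h) = 1 := by
      rw [show h⁻¹ * B.flip D * h * (h⁻¹ * B.flip D * h) = h⁻¹ * (B.flip D * B.flip D) * h by group, h1]
      group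
    have := ht.mul B ht
    rw [h2] at this
    exact this.unique B B.hasPerm_one
  -- the kernel
  let Ker : Finset (Fin n) → Prop := fun D => B.HasPerm (h⁻¹ * B.flip D * h) 1
  have kmul : ∀ D D', Ker D → Ker D' → Ker (symmDiff D D') := by
    intro D D' a b
    have := a.mul B b
    rw [mul_one] at this
    show B.HasPerm _ 1
    rw [← B.flip_mul]
    convert this using 1
    group
  have kconj : ∀ σ ∈ alternatingGroup (Fin n), (∀ i ∉ O, σ i = i) → ∀ D, Ker D → Ker (D.image σ) := by
    intro σ hσ hσO D hD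
    obtain ⟨π, hπ, hπσ⟩ := S.alt σ hσ
    obtain ⟨c, hc⟩ := B.exists_hasPerm (hperm σ hσ hσO π hπ hπσ)
    have e : π * B.flip D * π⁻¹ = B.flip (D.image σ) := by
      rw [mul_inv_eq_iff_eq_mul]
      refine B.iso_ext_co fun x j => ?_
      show B.co (π.1 ((B.flip D).1 x)) j = B.co ((B.flip (D.image σ)).1 (π.1 x)) j
      obtain ⟨i, rfl⟩ := σ.surjective j
      rw [B.co_flip, B.co_perm hπσ, B.co_perm hπσ, B.co_flip]
      simp [σ.injective.eq_iff]
    have := (hc.mul B hD).mul B (hc.inv B)
    rw [mul_one, mul_inv_cancel] at this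
    show B.HasPerm _ 1
    rw [← e]
    convert this using 1
    group
  -- every pair is in the kernel
  have hall : ∀ k ∈ O, ∀ l ∈ O, k ≠ l → Ker {k, l} := by
    by_contra hcon
    push Not at hcon
    obtain ⟨k, hk, l, hl, hkl, hnk⟩ := hcon
    have htrans : ∀ a ∈ O, ∀ b ∈ O, a ≠ b → ¬ Ker {a, b} := by
      intro a ha b hb hab hKab
      obtain ⟨σ, hσA, hσ, hσo⟩ := exists_even_map_on (S := O) (A := ({a, b} : Finset (Fin n)))
        (f := fun i => if i = a then k else l) (by simp [Finset.insert_subset_iff, ha, hb])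
        (fun i _ => by split_ifs <;> assumption) (by
          intro p hp q hq e
          simp only [Finset.coe_insert, Finset.coe_singleton, Set.mem_insert_iff, Set.mem_singleton_iff] at hp hq
          rcases hp with rfl | rfl <;> rcases hq with rfl | rfl <;> simp [hab.symm, hkl, hkl.symm] at e ⊢)
        (by rw [Finset.card_pair hab]; omega)
      have := kconj σ hσA hσo _ hKab
      rw [Finset.image_insert, Finset.image_singleton, hσ a (by simp), hσ b (by simp), if_pos rfl, if_neg hab.symm] at this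
      exact hnk this
    have hsmall : ∀ D ⊆ O, Even D.card → Ker D → D = ∅ ∨ D = O := by
      intro D hD he hK
      by_contra hne
      push Not at hne
      obtain ⟨i, hi⟩ := Finset.nonempty_iff_ne_empty.mpr (Finset.nonempty_iff_ne_empty.mp hne.1)
      obtain ⟨k', hk', hki⟩ := Finset.exists_mem_ne (s := D)
        (by rcases he with ⟨r, hr⟩; have := Finset.card_pos.mpr ⟨i, hi⟩; omega) i
      obtain ⟨j, hj, hjD⟩ : ∃ j ∈ O, j ∉ D := by
        by_contra! hc
        exact hne.2 (Finset.Subset.antisymm hD hc)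
      have hij : i ≠ j := fun e => hjD (e ▸ hi)
      have hkj : k' ≠ j := fun e => hjD (e ▸ hk')
      obtain ⟨σ, hσ⟩ : ∃ σ, σ = Equiv.swap i k' * Equiv.swap i j := ⟨_, rfl⟩
      have hσA : σ ∈ alternatingGroup (Fin n) := by
        rw [hσ, Equiv.Perm.mem_alternatingGroup, Equiv.Perm.sign_mul, Equiv.Perm.sign_swap hki.symm,
          Equiv.Perm.sign_swap hij]
        rfl
      have hσo : ∀ x ∉ O, σ x = x := fun x hx => by
        have h1 : x ≠ i := fun e => hx (e ▸ hD hi)
        have h2 : x ≠ j := fun e => hx (e ▸ hj)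
        have h3 : x ≠ k' := fun e => hx (e ▸ hD hk')
        rw [hσ, Equiv.Perm.mul_apply, Equiv.swap_apply_of_ne_of_ne h1 h2, Equiv.swap_apply_of_ne_of_ne h1 h3]
      have := kmul _ _ hK (kconj σ hσA hσo _ hK)
      refine htrans k' (hD hk') j hj hkj ?_
      convert this using 2
      ext x
      simp only [Finset.mem_insert, Finset.mem_singleton, Finset.mem_symmDiff, Finset.mem_image, hσ, Equiv.Perm.mul_apply]
      have himg : (∃ a ∈ D, Equiv.swap i k' (Equiv.swap i j a) = x) ↔ Equiv.swap i j (Equiv.swap i k' x) ∈ D := by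
        constructor
        · rintro ⟨a, ha, rfl⟩; simpa using ha
        · exact fun hx => ⟨_, hx, by simp⟩
      rw [himg]
      by_cases h1 : x = i
      · subst h1
        simp [Equiv.swap_apply_of_ne_of_ne hki hkj, hi, hk', hij, hki.symm]
      by_cases h2 : x = j
      · subst h2
        simp [Equiv.swap_apply_of_ne_of_ne hij.symm hkj.symm, hi, hjD, hij.symm]
      by_cases h3 : x = k'
      · subst h3
        simp [hk', hjD, h1, h2]
      · simp [Equiv.swap_apply_of_ne_of_ne h1 h3, Equiv.swap_apply_of_ne_of_ne h1 h2, h1, h2, h3]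
    -- count
    have hOc : O.card ≤ n := by simpa using O.card_le_univ
    have hfix : ∀ i, (∀ k ∈ O, B.co (h.1 (B.bas i)) k = 0) → ∀ τ ∈ P, τ i = i := by
      intro i hi τ hτ
      obtain ⟨D, hD, -, ht⟩ := (hP τ).mp hτ
      have he : (h⁻¹ * B.flip D * h).1 (B.bas i) = B.bas i := by
        show h.1.symm ((B.flip D).1 (h.1 (B.bas i))) = B.bas i
        rw [LinearEquiv.symm_apply_eq]
        refine B.ext_co fun j => ?_
        rw [B.co_flip]
        split_ifs with hj
        · rw [hi j (hD hj), neg_zero]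
        · rfl
      rcases ht i with e | e <;> rw [he] at e
      · exact (B.bas_ne_neg (Or.inl e)).symm
      · exact (B.bas_ne_neg (Or.inr e)).symm
    have hcount : ∀ R ⊆ O, ∀ w ∈ O, w ∉ R → (∀ D ⊆ insert w R, Even D.card → Ker D → D = ∅) →
        2 ^ R.card ≤ Nat.card P := by
      intro R hR w hw hwR hRK
      let ext2 : Finset (Fin n) → Finset (Fin n) := fun D => if Even D.card then D else insert w D
      have hsubs : ∀ D ∈ R.powerset, ext2 D ⊆ insert w R ∧ Even (ext2 D).card ∧ (ext2 D).erase w = D := by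
        intro D hD
        rw [Finset.mem_powerset] at hD
        have hwD : w ∉ D := fun e => hwR (hD e)
        simp only [ext2]
        split_ifs with he
        · exact ⟨hD.trans (Finset.subset_insert _ _), he, Finset.erase_eq_of_notMem hwD⟩
        · refine ⟨Finset.insert_subset_insert _ hD, ?_, Finset.erase_insert hwD⟩
          rw [Finset.card_insert_of_notMem hwD]
          exact (Nat.not_even_iff_odd.mp he).add_one
      have hinO : insert w R ⊆ O := Finset.insert_subset hw hR
      have hchoose : ∀ D : {D // D ∈ R.powerset}, ∃ τ : P, B.HasPerm (h⁻¹ * B.flip (ext2 D.1) * h) τ.1 :=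
        fun D => by
          obtain ⟨τ, hτ⟩ := hsig _ ((hsubs D.1 D.2).1.trans hinO) (hsubs D.1 D.2).2.1
          exact ⟨⟨τ, (hP τ).mpr ⟨_, (hsubs D.1 D.2).1.trans hinO, (hsubs D.1 D.2).2.1, hτ⟩⟩, hτ⟩
      choose Φ hΦ using hchoose
      have hinj : Function.Injective Φ := by
        intro D D' e
        have hK : Ker (symmDiff (ext2 D.1) (ext2 D'.1)) := by
          have := (hΦ D).mul B (hΦ D')
          rw [e, hPinv _ (Φ D').2] at this
          show B.HasPerm _ 1
          rw [← B.flip_mul]
          convert this using 1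
          group
        have h0 := hRK _ (by
            rw [symmDiff_def]
            exact Finset.union_subset (Finset.sdiff_subset.trans (hsubs D.1 D.2).1)
              (Finset.sdiff_subset.trans (hsubs D'.1 D'.2).1))
          (hevS (hsubs D.1 D.2).2.1 (hsubs D'.1 D'.2).2.1) hK
        have h' : ext2 D.1 = ext2 D'.1 := symmDiff_eq_bot.mp (by rw [Finset.bot_eq_empty]; exact h0)
        exact Subtype.ext (by rw [← (hsubs D.1 D.2).2.2, ← (hsubs D'.1 D'.2).2.2, h'])
      have h1 := Nat.card_le_card_of_injective Φ hinj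
      rwa [Nat.card_eq_fintype_card, Fintype.card_coe, Finset.card_powerset] at h1
    have hbound : ∀ R S' : Finset (Fin n), 2 ^ R.card ≤ Nat.card P → (∀ τ ∈ P, ∀ i ∉ S', τ i = i) →
        2 * R.card ≤ S'.card := fun R S' h1 hS' => by
      have h3 := le_trans (Nat.pow_le_pow_left h1 2) (card_sq_le_two_pow S'.card S' P rfl hS' hPinv)
      rw [← pow_mul, Nat.pow_le_pow_iff_right (by norm_num)] at h3
      omega
    obtain ⟨z, hz, w, hw, hzw⟩ : ∃ z ∈ O, ∃ w ∈ O, z ≠ w := Finset.one_lt_card.mp (by omega)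
    by_cases hKO : Even O.card ∧ Ker O
    · -- the image of the full change of sign is diagonal and bounds the support
      obtain ⟨D₀, hD₀⟩ : ∃ D₀ : Finset (Fin n), ∀ i, i ∈ D₀ ↔ (B.flip O).1 (h.1 (B.bas i)) = -h.1 (B.bas i) :=
        ⟨Finset.univ.filter fun i => (B.flip O).1 (h.1 (B.bas i)) = -h.1 (B.bas i), fun i => by simp⟩
      have hin : ∀ i ∈ D₀, h.1 (B.bas i) ∈ B.sub O := fun i hi j hj => by
        have e := congrArg (fun v => B.co v j) ((hD₀ i).mp hi)
        simp only [B.co_flip, if_neg hj, B.co_neg] at e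
        exact (mul_eq_zero.mp (by linear_combination e : (2 : F) * B.co (h.1 (B.bas i)) j = 0)).resolve_left B.two
      have hout : ∀ τ ∈ P, ∀ i ∉ D₀, τ i = i := by
        intro τ hτ i hi
        refine hfix i (fun k hk => ?_) τ hτ
        have hK := hKO.2 i
        rw [Equiv.Perm.one_apply] at hK
        change h.1.symm ((B.flip O).1 (h.1 (B.bas i))) = _ ∨ h.1.symm ((B.flip O).1 (h.1 (B.bas i))) = _ at hK
        rw [LinearEquiv.symm_apply_eq, LinearEquiv.symm_apply_eq, map_neg] at hK
        rcases hK with hK | hK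
        · have e := congrArg (fun v => B.co v k) hK
          simp only [B.co_flip, if_pos hk] at e
          exact (mul_eq_zero.mp (by linear_combination -e : (2 : F) * B.co (h.1 (B.bas i)) k = 0)).resolve_left B.two
        · exact absurd ((hD₀ i).mpr hK) hi
      have hD₀c : D₀.card ≤ O.card := by
        have hli : LinearIndependent F (fun i : {i // i ∈ D₀} => (⟨h.1 (B.bas i.1), hin i.1 i.2⟩ : B.sub O)) :=
          LinearIndependent.of_comp (B.sub O).subtype
            ((B.bas.linearIndependent.comp _ Subtype.val_injective).map' h.1.toLinearMap h.1.ker)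
        have := hli.fintype_card_le_finrank
        rwa [Fintype.card_coe, (B.ndOn_sub O).2] at this
      have := hbound (O \ {z, w}) D₀ (hcount _ Finset.sdiff_subset w hw (by simp) fun D hD he hK => by
        have hDO : D ⊆ O := hD.trans (Finset.insert_subset hw Finset.sdiff_subset)
        rcases hsmall D hDO he hK with h0 | h0
        · exact h0
        · have := hD (h0.symm ▸ hz)
          simp [hzw] at this) hout
      rw [Finset.card_sdiff_of_subset (by simp [Finset.insert_subset_iff, hz, hw]), Finset.card_pair hzw] at this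
      omega
    · have := hbound (O.erase w) (Finset.univ \ {a, b}) (hcount _ (Finset.erase_subset _ _) w hw (by simp)
        fun D hD he hK => by
          rw [Finset.insert_erase hw] at hD
          rcases hsmall D hD he hK with h0 | h0
          · exact h0
          · subst h0; exact absurd ⟨he, hK⟩ hKO) (fun τ hτ i hi => by
        simp only [Finset.mem_sdiff, Finset.mem_univ, true_and, Finset.mem_insert, Finset.mem_singleton, not_not] at hi
        rcases hi with rfl | rfl
        exacts [hfix _ ha τ hτ, hfix _ hb τ hτ])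
      rw [Finset.card_erase_of_mem hw, Finset.card_sdiff_of_subset (Finset.subset_univ _), Finset.card_univ,
        Fintype.card_fin, Finset.card_pair hab] at this
      omega
  -- columns are eigen-vectors of all sign pairs
  have heig : ∀ i, ∀ k ∈ O, B.co (h.1 (B.bas i)) k ≠ 0 → B.IsAx (h.1 (B.bas i)) := by
    intro i k hk hne
    have hone : ∀ l ∈ O, l ≠ k → ∀ j, j ≠ k → j ≠ l → B.co (h.1 (B.bas i)) j = 0 := by
      intro l hl hlk j hjk hjl
      have hK := hall k hk l hl hlk.symm i
      rw [Equiv.Perm.one_apply] at hK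
      change h.1.symm ((B.flip {k, l}).1 (h.1 (B.bas i))) = _ ∨ h.1.symm ((B.flip {k, l}).1 (h.1 (B.bas i))) = _ at hK
      rw [LinearEquiv.symm_apply_eq, LinearEquiv.symm_apply_eq, map_neg] at hK
      rcases hK with hK | hK
      · have := congrArg (fun v => B.co v k) hK
        simp only [B.co_flip, Finset.mem_insert, true_or, if_true] at this
        exact absurd ((mul_eq_zero.mp (by linear_combination -this : (2 : F) * B.co (h.1 (B.bas i)) k = 0)).resolve_left B.two) hne
      · have := congrArg (fun v => B.co v j) hK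
        simp only [B.co_flip, B.co_neg, Finset.mem_insert, Finset.mem_singleton, hjk, hjl, or_self, if_false] at this
        exact (mul_eq_zero.mp (by linear_combination this : (2 : F) * B.co (h.1 (B.bas i)) j = 0)).resolve_left B.two
    obtain ⟨l, hl, hlk⟩ := Finset.exists_mem_ne (s := O) (by omega) k
    obtain ⟨m, hm, hmk⟩ : ∃ m ∈ O.erase l, m ≠ k :=
      Finset.exists_mem_ne (by rw [Finset.card_erase_of_mem hl]; omega) k
    obtain ⟨hml, hmO⟩ := Finset.mem_erase.mp hm
    refine B.isAx_of_supp (by rw [h.2, B.val]) (i := k) fun j hj => ?_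
    by_cases hjl : j = l
    · exact hone m hmO hmk j hj (fun e => hml (e.symm.trans hjl))
    · exact hone l hl hlk j hj hjl
  have honto : ∀ k ∈ O, ∃ i, h.1 (B.bas i) = B.bas k ∨ h.1 (B.bas i) = -B.bas k := by
    intro k hk
    obtain ⟨i, hi⟩ : ∃ i, B.co (h.1 (B.bas i)) k ≠ 0 := by
      by_contra! hcon
      have h1 : B.co (h.1 (h.1.symm (B.bas k))) k = 1 := by rw [h.1.apply_symm_apply]; exact B.co_bas_self k
      rw [← B.sum_co (h.1.symm (B.bas k)), map_sum] at h1
      have hco : ∀ g : Fin n → V, B.co (∑ i, g i) k = ∑ i, B.co (g i) k := fun g => by simp [Frame.co]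
      rw [hco, Finset.sum_eq_zero fun i _ => by rw [map_smul, B.co_smul, hcon, mul_zero]] at h1
      exact zero_ne_one h1
    obtain ⟨l, hl⟩ := heig i k hk hi
    have : l = k := by
      by_contra hlk
      rcases hl with hl | hl <;> rw [hl] at hi <;> simp [B.co_neg, B.co_bas_ne hlk] at hi
    exact ⟨i, this ▸ hl⟩
  intro i
  by_contra hbad
  obtain ⟨m, hm, l, hl, hml⟩ : ∃ m ∈ O, ∃ l ∈ O, m ≠ l := Finset.one_lt_card.mp (by omega)
  obtain ⟨im, him⟩ := honto m hm
  obtain ⟨il, hil⟩ := honto l hl
  have hne1 : im ≠ il := fun e => hml (B.bas_ne_neg (by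
    rcases him with a | a <;> rcases hil with b | b <;> rw [← e] at b <;> rw [a] at b
    · exact Or.inl b
    · exact Or.inr b
    · exact Or.inr (by rw [← b, neg_neg])
    · exact Or.inl (neg_injective b)))
  have hne2 : im ≠ i := fun e => hbad (e ▸ ⟨m, him⟩)
  obtain ⟨σ, hσA, hσ, -⟩ := exists_even_map_on (S := Finset.univ) (A := ({im, il} : Finset (Fin n)))
    (f := fun x => if x = im then im else i) (Finset.subset_univ _) (fun _ _ => Finset.mem_univ _) (by
      intro p hp q hq e
      simp only [Finset.coe_insert, Finset.coe_singleton, Set.mem_insert_iff, Set.mem_singleton_iff] at hp hq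
      rcases hp with rfl | rfl <;> rcases hq with rfl | rfl <;> simp [hne1.symm, hne2, hne2.symm] at e ⊢)
    (by rw [Finset.card_univ, Fintype.card_fin, Finset.card_pair hne1]; omega)
  obtain ⟨π, hπ, hπσ⟩ := S.alt σ hσA
  have hconj : ∀ x, (h * π * h⁻¹).1 (h.1 x) = h.1 (π.1 x) := fun x => by
    show h.1 (π.1 (h.1.symm (h.1 x))) = _
    rw [h.1.symm_apply_apply]
  have hy : B.Mono (h * π * h⁻¹) := by
    refine S.star _ (mul_mem (mul_mem hh hπ) (inv_mem hh)) m (Or.inl ?_)
    have := hconj (B.bas im)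
    rw [hπσ, hσ im (by simp), if_pos rfl] at this
    rcases him with a | a <;> rw [a] at this
    · exact this
    · rw [map_neg] at this; exact neg_injective this
  have := hconj (B.bas il)
  rw [hπσ, hσ il (by simp), if_neg hne1.symm] at this
  refine hbad ?_
  rw [← this]
  exact hy.isAx B ⟨l, hil⟩

/-- A sign pair is carried into the monomial group only by monomial elements. -/
theorem Frame.Star.mono_of_conj (S : B.Star H) {g : ↥(Iso Q)} (hg : g ∈ H) {a b : Fin n} (hab : a ≠ b)
    (hx : B.Mono (g * (B.sg a * B.sg b) * g⁻¹)) : B.Mono g := by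
  classical
  obtain ⟨x, hxd⟩ : ∃ x, x = g * (B.sg a * B.sg b) * g⁻¹ := ⟨_, rfl⟩
  rw [← hxd] at hx
  have hxa : ∀ v, x.1 (g.1 v) = g.1 ((B.flip {a, b}).1 v) := fun v => by
    rw [hxd, ← B.flip_pair hab]
    show g.1 ((B.flip {a, b}).1 (g.1.symm (g.1 v))) = _
    rw [g.1.symm_apply_apply]
  obtain ⟨W, hW⟩ : ∃ W, W = Submodule.span F ({g.1 (B.bas a)} : Set V) ⊔ Submodule.span F {g.1 (B.bas b)} := ⟨_, rfl⟩
  have hne : ∀ i, g.1 (B.bas i) ≠ 0 := fun i e => B.c_ne (by rw [← B.val i, ← g.2 (B.bas i), e, QuadraticMap.map_zero])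
  obtain ⟨A, hA, hAr⟩ := B.exists_coord_of_range hx (W := W) fun v => by
    obtain ⟨w, rfl⟩ := g.1.surjective v
    rw [hxa, ← map_sub]
    have e : (B.flip {a, b}).1 w - w = (-2 * B.co w a) • B.bas a + (-2 * B.co w b) • B.bas b := B.ext_co fun j => by
      rw [B.co_sub, B.co_flip, B.co_add, B.co_smul, B.co_smul, B.co_bas, B.co_bas]
      by_cases h1 : a = j
      · subst h1; simp [hab.symm]; ring
      · by_cases h2 : b = j
        · subst h2; simp [hab]; ring
        · simp [h1, h2, Ne.symm h1, Ne.symm h2]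
    rw [e, map_add, map_smul, map_smul, hW]
    exact add_mem (Submodule.mem_sup_left (Submodule.smul_mem _ _ (Submodule.mem_span_singleton_self _)))
      (Submodule.mem_sup_right (Submodule.smul_mem _ _ (Submodule.mem_span_singleton_self _)))
  have hA4 : A.card ≤ 4 := hA.trans (by
    have := Submodule.finrank_add_le_finrank_add_finrank (Submodule.span F ({g.1 (B.bas a)} : Set V))
      (Submodule.span F {g.1 (B.bas b)})
    rw [← hW, finrank_span_singleton (hne a), finrank_span_singleton (hne b)] at this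
    omega)
  have hmem : ∀ i, i = a ∨ i = b → g.1 (B.bas i) ∈ B.sub A := by
    intro i hi j hj
    have h1 := hAr (g.1 (B.bas i)) j hj
    rw [hxa, B.flip_bas, if_pos (by simp [hi]), map_neg, B.co_sub, B.co_neg] at h1
    exact (mul_eq_zero.mp (by linear_combination -h1 : (2 : F) * B.co (g.1 (B.bas i)) j = 0)).resolve_left B.two
  have hfix : ∀ e : ↥(Iso Q), e ∈ H → (∀ v ∈ B.sub A, e.1 v = v) → B.Mono (g⁻¹ * e * g) := fun e he hef =>
    S.star _ (mul_mem (mul_mem (inv_mem hg) he) hg) a (Or.inl (by
      show g.1.symm (e.1 (g.1 (B.bas a))) = _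
      rw [hef _ (hmem a (Or.inl rfl)), g.1.symm_apply_apply]))
  refine S.rigid B hg (O := Aᶜ) (by rw [Finset.card_compl, Fintype.card_fin]; omega) (fun k hk l hl hkl => ?_)
    (fun σ _ hσ π hπ hπσ => hfix π hπ fun v hv => B.ext_co fun j => ?_) hab
    (fun k hk => hmem a (Or.inl rfl) k (Finset.mem_compl.mp hk))
    (fun k hk => hmem b (Or.inr rfl) k (Finset.mem_compl.mp hk))
  · refine hfix _ (S.pairs k l hkl) fun v hv => B.ext_co fun j => ?_
    rw [← B.flip_pair hkl, B.co_flip]
    split_ifs with hj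
    · simp only [Finset.mem_insert, Finset.mem_singleton] at hj
      have : j ∉ A := by
        rcases hj with rfl | rfl
        · exact Finset.mem_compl.mp hk
        · exact Finset.mem_compl.mp hl
      rw [hv j this, neg_zero]
    · rfl
  · obtain ⟨i, rfl⟩ := σ.surjective j
    rw [B.co_perm hπσ]
    by_cases hi : i ∈ A
    · rw [hσ i (by simp [hi])]
    · rw [hv i hi, hv (σ i) fun h' => hi ?_]
      rw [← σ.injective (hσ (σ i) (by simp [h']))]
      exact h'

end Cfsg.Agent.Classical.MFrame
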