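import Cfsg.Agent.Lib.Classical.MonomFrame.Arith

/-!
# Short vectors: the field with three elements and the summary
-/

set_option autoImplicit false
set_option linter.unusedSectionVars false

namespace Cfsg.Agent.Classical.MFrame

open Module QuadraticMap OCount ORefl OOmega

variable {F : Type*} [Field F] [Finite F] {V : Type*} [AddCommGroup V] [Module F V] [FiniteDimensional F V]
variable {Q : QuadraticForm F V} {n : ℕ} (B : Frame Q n) {G : Subgroup ↥(Iso Q)}

/-- Signs may be changed on any set of places. -/
theorem Frame.exists_flip (hsg : ∀ i, B.sg i ∈ G) (D : Finset (Fin n)) :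
    ∃ h ∈ G, ∀ x j, B.co (h.1 x) j = if j ∈ D then -B.co x j else B.co x j := by
  classical
  induction D using Finset.induction with
  | empty => exact ⟨1, one_mem G, fun x j => by simp⟩
  | insert i D hi ih =>
    obtain ⟨h, hh, hD⟩ := ih
    refine ⟨B.sg i * h, mul_mem (hsg i) hh, fun x j => ?_⟩
    show B.co ((B.sg i).1 (h.1 x)) j = _
    rw [B.co_sg, hD]
    by_cases hij : i = j
    · subst hij; simp [hi]
    · simp [hij, Ne.symm hij]

theorem all_of_short_three (hsg : ∀ i, B.sg i ∈ G) (hG : HasAlt B G) (h3 : Nat.card F = 3) (hn : 7 ≤ n) {u : V}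
    (hu : Q u = B.c) (hGu : rf Q u ∈ G) (h4 : (B.supp u).card ≤ 4) (h2s : 2 ≤ (B.supp u).card) :
    Sph G B.c ⊤ := by
  classical
  haveI := Fintype.ofFinite F
  haveI : CharP F 3 := charP_of_card_eq_prime (by rwa [← Nat.card_eq_fintype_card])
  have h30 : (3 : F) = 0 := by exact_mod_cast CharP.cast_eq_zero F 3
  have hsq : ∀ x : F, x ≠ 0 → x ^ 2 = 1 := fun x hx => by
    have h := FiniteField.pow_card_sub_one_eq_one x hx
    rwa [← Nat.card_eq_fintype_card, h3] at h
  have hcard : ∀ v : V, Q v = B.c → 3 ∣ (B.supp v).card - 1 ∧ 1 ≤ (B.supp v).card := by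
    intro v hv
    have h := B.sum_sq v hv
    rw [Finset.sum_congr rfl fun i hi => hsq _ (B.mem_supp.mp hi), Finset.sum_const, nsmul_eq_mul, mul_one] at h
    have h1 : 1 ≤ (B.supp v).card := Nat.one_le_iff_ne_zero.mpr fun e => by rw [e] at h; simp at h
    refine ⟨(CharP.cast_eq_zero_iff F 3 _).mp ?_, h1⟩
    rw [Nat.cast_sub h1, h]; simp
  have hs4 : (B.supp u).card = 4 := by have := hcard u hu; omega
  have four : ∀ v : V, Q v = B.c → (B.supp v).card = 4 → rf Q v ∈ G := by
    intro v hv hv4
    obtain ⟨e⟩ : Nonempty ((B.supp u : Finset (Fin n)) ↪ (B.supp v : Finset (Fin n))) :=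
      Function.Embedding.nonempty_of_card_le (by simp [hs4, hv4])
    obtain ⟨f, hf⟩ : ∃ f : Fin n → Fin n, f = fun i => if h : i ∈ B.supp u then (e ⟨i, h⟩ : Fin n) else i :=
      ⟨_, rfl⟩
    have hinj : Set.InjOn f (B.supp u) := fun i hi j hj h => by
      simp only [hf, Finset.mem_coe.mp hi, Finset.mem_coe.mp hj, dite_true] at h
      exact congrArg Subtype.val (e.injective (Subtype.ext h))
    obtain ⟨w, hw, hGw, hws, -⟩ := exists_move B hG hu hGu hinj (by omega)
    have hsame : B.supp w = B.supp v := by
      rw [hws]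
      refine Finset.eq_of_subset_of_card_le (fun x hx => ?_) ?_
      · obtain ⟨i, hi, rfl⟩ := Finset.mem_image.mp hx
        simp only [hf, hi, dite_true]
        exact (e _).2
      · rw [Finset.card_image_of_injOn hinj, hs4, hv4]
    obtain ⟨h, hh, hfl⟩ := B.exists_flip hsg (Finset.univ.filter fun i => B.co w i ≠ B.co v i)
    have e2 : h.1 w = v := B.ext_co fun j => by
      rw [hfl]
      simp only [Finset.mem_filter, Finset.mem_univ, true_and]
      split_ifs with hne
      · by_cases hj : j ∈ B.supp v
        · have a := hsq _ (B.mem_supp.mp (hsame ▸ hj))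
          have b := hsq _ (B.mem_supp.mp hj)
          have := mul_eq_zero.mp (show (B.co w j - B.co v j) * (B.co w j + B.co v j) = 0 by linear_combination a - b)
          rcases this with h' | h'
          · exact absurd (sub_eq_zero.mp h') hne
          · linear_combination -h'
        · have a : B.co w j = 0 := B.notMem_supp.mp (hsame ▸ hj)
          rw [a, B.notMem_supp.mp hj, neg_zero]
      · exact not_not.mp hne
    exact e2 ▸ rf_conj_mem hh hGw
  suffices h : ∀ k (v : V), Q v = B.c → (B.supp v).card = k → rf Q v ∈ G from fun v _ hv => h _ v hv rfl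
  intro k
  induction k using Nat.strong_induction_on with
  | _ k ih =>
    intro v hv hk
    obtain ⟨hd, h1⟩ := hcard v hv
    by_cases hk1 : k = 1
    · obtain ⟨i, hi⟩ := Finset.card_eq_one.mp (hk.trans hk1)
      have hax : B.IsAx v := B.isAx_of_supp hv (i := i) fun j hj => B.notMem_supp.mp (by simp [hi, hj])
      obtain ⟨l, rfl | rfl⟩ := hax
      · exact hsg l
      · rw [← rf_smul (neg_ne_zero.mpr one_ne_zero) (-B.bas l)]
        simpa [Frame.sg] using hsg l
    by_cases hk4 : k = 4
    · exact four v hv (hk.trans hk4)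
    obtain ⟨T, hT, hTc⟩ := Finset.exists_subset_card_eq (s := B.supp v) (n := 4) (by omega)
    obtain ⟨m, hm⟩ : T.Nonempty := Finset.card_pos.mp (by omega)
    obtain ⟨w, hwd⟩ : ∃ w, w = ∑ i ∈ T, (if i = m then B.co v i else -B.co v i) • B.bas i := ⟨_, rfl⟩
    have hwc : ∀ j, B.co w j = if j ∈ T then (if j = m then B.co v j else -B.co v j) else 0 := fun j => by
      have hco : ∀ g : Fin n → V, B.co (∑ i ∈ T, g i) j = ∑ i ∈ T, B.co (g i) j := fun g => by simp [Frame.co]
      simp only [hwd, hco, B.co_smul, B.co_bas, mul_ite, mul_one, mul_zero, Finset.sum_ite_eq']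
    have hws : B.supp w = T := by
      ext j
      rw [B.mem_supp, hwc]
      by_cases hj : j ∈ T
      · have := B.mem_supp.mp (hT hj)
        by_cases hjm : j = m <;> simp [hj, hjm] <;> simp_all
      · simp [hj]
    have hwQ : Q w = B.c := by
      rw [B.val_eq, ← B.sum_supp w (fun _ x => x ^ 2) (fun _ => by ring), hws,
        Finset.sum_congr rfl fun i hi => hsq _ (B.mem_supp.mp (hws ▸ hi)), Finset.sum_const, hTc, nsmul_eq_mul]
      push_cast
      linear_combination B.c * h30
    have hdot : ∑ i, B.co w i * B.co v i = 1 := by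
      rw [← Finset.sum_subset (Finset.subset_univ T) fun i _ hi => by rw [hwc, if_neg hi, zero_mul]]
      rw [Finset.sum_eq_add_sum_sdiff_singleton_of_mem hm, hwc, if_pos hm, if_pos rfl]
      rw [Finset.sum_congr rfl (g := fun _ => (-1 : F)) fun i hi => ?_, Finset.sum_const,
        Finset.card_sdiff_of_subset (Finset.singleton_subset_iff.mpr hm), hTc, Finset.card_singleton]
      · have := hsq _ (B.mem_supp.mp (hT hm))
        simp only [nsmul_eq_mul]
        push_cast
        linear_combination this - h30
      · simp only [Finset.mem_sdiff, Finset.mem_singleton] at hi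
        rw [hwc, if_pos hi.1, if_neg hi.2]
        linear_combination -hsq _ (B.mem_supp.mp (hT hi.1))
    obtain ⟨x, hx⟩ : ∃ x, x = (rf Q w).1 v := ⟨_, rfl⟩
    have hxc : ∀ j, B.co x j = B.co v j + B.co w j := fun j => by
      rw [hx, B.rf_unit hwQ, B.co_sub, B.co_smul, hdot]
      linear_combination -B.co w j * h30
    have hxs : B.supp x ⊆ B.supp v \ (T.erase m) := fun j hj => by
      rw [B.mem_supp, hxc, hwc] at hj
      rw [Finset.mem_sdiff, B.mem_supp, Finset.mem_erase]
      by_cases hjT : j ∈ T
      · by_cases hjm : j = m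
        · exact ⟨B.mem_supp.mp (hT hjT), fun h => h.1 hjm⟩
        · simp [hjT, hjm] at hj
      · refine ⟨fun h => ?_, fun h => hjT h.2⟩
        simp [hjT, h] at hj
    have hlt : (B.supp x).card < k := by
      have h := Finset.card_le_card hxs
      rw [Finset.card_sdiff_of_subset ((Finset.erase_subset _ _).trans hT), Finset.card_erase_of_mem hm] at h
      omega
    have hxG := ih _ hlt x (by rw [hx, (rf Q w).2 v, hv]) rfl
    have hinv : (rf Q w).1 x = v := by
      rw [hx]; exact LinearEquiv.congr_fun (refl_mul_self (Q := Q) w) v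
    exact hinv ▸ rf_conj_mem (four w hwQ (hws ▸ hTc)) hxG

/-- A short unit vector that is neither an axis nor a root gives all unit reflections. -/
theorem all_of_short (hsg : ∀ i, B.sg i ∈ G) (hG : HasAlt B G) (hp : (Nat.card F).Prime) (hn : 7 ≤ n) {u : V}
    (hu : Q u = B.c) (hGu : rf Q u ∈ G) (h4 : (B.supp u).card ≤ 4) (hax : ¬ B.IsAx u) (hroot : ¬ B.IsRoot u) :
    Sph G B.c ⊤ := by
  have h2s : 2 ≤ (B.supp u).card := by
    by_contra h
    rcases Nat.lt_or_ge (B.supp u).card 1 with h0 | h1
    · have h' := B.sum_sq u hu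
      rw [Finset.card_eq_zero.mp (by omega : (B.supp u).card = 0), Finset.sum_empty] at h'
      exact zero_ne_one h'
    · obtain ⟨i, hi⟩ := Finset.card_eq_one.mp (by omega : (B.supp u).card = 1)
      exact hax (B.isAx_of_supp hu (i := i) fun j hj => B.notMem_supp.mp (by simp [hi, hj]))
  by_cases h3 : Nat.card F = 3
  · exact all_of_short_three B hsg hG h3 hn hu hGu h4 h2s
  · refine all_of_short_big B hsg hG hp ?_ hn hu hGu h4 h2s hroot
    have h2 : Nat.card F ≠ 2 := by
      haveI := Fintype.ofFinite F
      intro h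
      haveI : CharP F 2 := charP_of_card_eq_prime (by rwa [← Nat.card_eq_fintype_card])
      have := CharP.cast_eq_zero F 2
      exact B.two (by exact_mod_cast this)
    have := hp.two_le
    by_contra h5
    have : Nat.card F = 4 := by omega
    rw [this] at hp
    norm_num at hp

end Cfsg.Agent.Classical.MFrame
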